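import Cfsg.Agent.Lib.SuzT.Pairing
import Cfsg.Agent.Lib.CoThree.Setting

/-!
The elements centralising `z` and a group `S₄` generated by two involutions of `Q` with hyperbolic images
and a third involution: they correspond to the isometries fixing the two images.
-/

set_option autoImplicit false
set_option linter.style.haveILetI false
set_option linter.unusedSectionVars false
set_option maxRecDepth 20000
set_option synthInstance.maxSize 4000
set_option synthInstance.maxHeartbeats 400000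

namespace Cfsg.Agent.SuzHom

open Subgroup LargeExtra Cfsg.Agent.SuzT

local notation "F" => ZMod 2

variable {G : Type*} [Group G] [Finite G] {z : G} {Q : Subgroup G} {π : G → V} {ρ : G → V → V}
  {f g g' : G}

/-- Commuting with `z`, `f`, `g` and `g'`. -/
structure Cen (z f g g' c : G) : Prop where
  cz : c * z = z * c
  cf : c * f = f * c
  cg : c * g = g * c
  cg' : c * g' = g' * c

theorem Cen.mul {a b : G} (ha : Cen z f g g' a) (hb : Cen z f g g' b) : Cen z f g g' (a * b) :=
  ⟨((show Commute a z from ha.cz).mul_left hb.cz).eq, ((show Commute a f from ha.cf).mul_left hb.cf).eq,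
    ((show Commute a g from ha.cg).mul_left hb.cg).eq, ((show Commute a g' from ha.cg').mul_left hb.cg').eq⟩

theorem Cen.inv {a : G} (ha : Cen z f g g' a) : Cen z f g g' a⁻¹ :=
  ⟨((show Commute a z from ha.cz).inv_left).eq, ((show Commute a f from ha.cf).inv_left).eq,
    ((show Commute a g from ha.cg).inv_left).eq, ((show Commute a g' from ha.cg').inv_left).eq⟩

theorem Cen.one : Cen z f g g' 1 := ⟨by simp, by simp, by simp, by simp⟩

/-- The configuration. -/
structure Quad (z : G) (Q : Subgroup G) (π : G → V) (ρ : G → V → V) (f g g' : G) : Prop where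
  S : Su z Q π ρ
  fQ : f ∈ Q
  pf : π f = e0
  gQ : g ∈ Q
  pg : π g = f0
  gg : g * g = 1
  hh : g' * g' = 1
  hf : g' * f = f * g'
  hz : g' * z * g' = f * z
  three : g * g' * (g * g') * (g * g') = 1

namespace Quad

variable (D : Quad z Q π ρ f g g')
include D

theorem gz : g * z = z * g := D.S.Qz D.gQ

theorem fz : f * z = z * f := D.S.Qz D.fQ

theorem gfg : g * f * g = f * z := by
  have h := D.S.rule D.gQ D.fQ
  rw [D.pf, D.pg, show bil f0 e0 = 1 by decide +kernel, zb_one] at h
  rw [h, mul_assoc, ← D.gz, ← mul_assoc, mul_assoc f, D.gg, mul_one]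

theorem ff : f * f = 1 := by
  have h := D.S.sq f D.fQ
  rwa [D.pf, q_e0.1, zb_zero] at h

theorem conj_z : g * g' * z * (g * g')⁻¹ = f := by
  have e1 : g⁻¹ = g := inv_eq_of_mul_eq_one_right D.gg
  have e2 : g'⁻¹ = g' := inv_eq_of_mul_eq_one_right D.hh
  calc g * g' * z * (g * g')⁻¹ = g * (g' * z * g') * g := by rw [mul_inv_rev, e1, e2]; group
    _ = g * f * g * z := by rw [D.hz, mul_assoc, mul_assoc f z g, ← D.gz]; group
    _ = f := by rw [D.gfg, mul_assoc, D.S.loc.sq, mul_one]

theorem frame : Fr z Q π ρ f (g * g') := ⟨D.S, D.conj_z, D.fQ, D.pf⟩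

theorem conj_f : g * g' * f * (g * g')⁻¹ = f * z := by
  have e1 : g⁻¹ = g := inv_eq_of_mul_eq_one_right D.gg
  have e2 : g'⁻¹ = g' := inv_eq_of_mul_eq_one_right D.hh
  calc g * g' * f * (g * g')⁻¹ = g * (g' * f * g') * g := by rw [mul_inv_rev, e1, e2]; group
    _ = g * f * g := by rw [D.hf, mul_assoc f, D.hh, mul_one]
    _ = f * z := D.gfg

theorem h'_eq : g * g' * g * (g * g')⁻¹ = g' := by
  have e1 : g⁻¹ = g := inv_eq_of_mul_eq_one_right D.gg
  have e2 : g'⁻¹ = g' := inv_eq_of_mul_eq_one_right D.hh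
  calc g * g' * g * (g * g')⁻¹ = g * g' * (g * g') * g := by rw [mul_inv_rev, e1, e2]; group
    _ = g * g' * (g * g') * (g * g') * g'⁻¹ := by group
    _ = g' := by rw [D.three, one_mul, e2]

theorem g'_mem : g' ∈ Q₁ Q (g * g') := by
  have h : g * g' * g * (g * g')⁻¹ ∈ Q₁ Q (g * g') := conj_mem_conjMap D.gQ
  rwa [D.h'_eq] at h

/-- An element of `Q` centralising `f` and the element of order three is trivial. -/
theorem eq_one_of_fix {c : G} (hc : c ∈ Q) (_hcf : c * f = f * c)
    (hch : c * (g * g') = g * g' * c) : c = 1 := by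
  have X := D.frame
  have h1 : c ∈ Q₁ Q (g * g') := by
    have h : g * g' * c * (g * g')⁻¹ ∈ Q₁ Q (g * g') := conj_mem_conjMap hc
    rwa [← hch, mul_inv_cancel_right] at h
  have hk : g * g' * c * (g * g')⁻¹ = c := by rw [← hch, mul_inv_cancel_right]
  rcases X.mem_inter.1 ⟨hc, h1⟩ with e | e | e | e
  · exact e
  · exact absurd (by rw [← D.conj_z]; exact e ▸ hk) X.sne
  · rw [e, D.conj_f] at hk
    exact absurd (mul_eq_left.1 hk) D.S.loc.ne_one
  · rw [e, show g * g' * (f * z) * (g * g')⁻¹ = g * g' * f * (g * g')⁻¹ * (g * g' * z * (g * g')⁻¹) by group,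
      D.conj_f, D.conj_z, mul_assoc, ← D.fz] at hk
    exact absurd (mul_eq_right.1 (mul_left_cancel hk)) X.sne_one

theorem eq_one {c : G} (hc : Cen z f g g' c) (h : ∀ v, ρ c v = v) : c = 1 :=
  D.eq_one_of_fix ((D.S.ker c hc.cz).1 h) hc.cf ((show Commute c g from hc.cg).mul_right hc.cg').eq

theorem ext {c d : G} (hc : Cen z f g g' c) (hd : Cen z f g g' d) (h : ρ c = ρ d) : c = d := by
  refine inv_mul_eq_one.1 (D.eq_one (hc.inv.mul hd) fun v => ?_)
  rw [D.S.rho_mul hc.inv.cz hd.cz, ← h, ← D.S.rho_mul hc.inv.cz hc.cz, inv_mul_cancel, D.S.rho_one]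

theorem fix_pair {c : G} (hc : Cen z f g g' c) : ρ c e0 = e0 ∧ ρ c f0 = f0 := by
  refine ⟨?_, ?_⟩
  · rw [← D.pf, ← D.S.conj c hc.cz f D.fQ, hc.cf, mul_inv_cancel_right]
  · rw [← D.pg, ← D.S.conj c hc.cz g D.gQ, hc.cg, mul_inv_cancel_right]

omit D in
theorem comm_of_conj {x c : G} (h : x * c * x⁻¹ = c) : x * c = c * x := mul_inv_eq_iff_eq_mul.1 h

/-- Every isometry fixing the two images lifts. -/
theorem exists_cen {φ : V → V} (hφ : IsOm φ) (h0 : φ e0 = e0) (h1 : φ f0 = f0) :
    ∃ c, Cen z f g g' c ∧ ρ c = φ := by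
  have X := D.frame
  set h := g * g' with hh
  have e1 : g⁻¹ = g := inv_eq_of_mul_eq_one_right D.gg
  have e2 : g'⁻¹ = g' := inv_eq_of_mul_eq_one_right D.hh
  obtain ⟨c₀, hcz, hcs, hρ⟩ := X.lift_fix hφ h0
  -- the normal subgroup `hA hB`
  set R : Subgroup G := hA Q f ⊔ hB z Q h with hR
  have hAnorm : hB z Q h ≤ normalizer (hA Q f : Set G) := fun b hb => by
    refine Subgroup.mem_normalizer_iff.2 fun a => ⟨fun ha => (X.conj_A (X.B_comm hb).1 (X.B_comm hb).2 ha).1,
      fun ha => ?_⟩
    have hb' := X.B_comm (inv_mem hb)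
    have h3 := (X.conj_A hb'.1 hb'.2 ha).1
    rwa [show b⁻¹ * (b * a * b⁻¹) * b⁻¹⁻¹ = a by group] at h3
  have memR : ∀ {r : G}, r ∈ R ↔ ∃ a ∈ hA Q f, ∃ b ∈ hB z Q h, a * b = r := fun {r} => by
    rw [hR, ← SetLike.mem_coe, Subgroup.coe_mul_of_right_le_normalizer_left (hA Q f) (hB z Q h) hAnorm]
    exact Set.mem_mul
  have Rcomm : ∀ r ∈ R, r * z = z * r ∧ r * f = f * r := fun r hr => by
    obtain ⟨a, ha, b, hb, rfl⟩ := memR.1 hr
    exact ⟨((show Commute a z from D.S.Qz ha.1).mul_left (X.B_comm hb).1).eq,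
      ((show Commute a f from mem_centralizer_one.1 ha.2).mul_left (X.B_comm hb).2).eq⟩
  have Rcop : (Nat.card R).Coprime 3 := by
    have hA2 : IsPGroup 2 ↥(hA Q f) := (IsPGroup.of_card (n := 7) (by rw [D.S.card]; norm_num)).to_le inf_le_left
    have hB2 : IsPGroup 2 ↥(hB z Q h) :=
      ((IsPGroup.of_card (n := 7) (by rw [D.S.card]; norm_num) : IsPGroup 2 Q).map (MulAut.conj h).toMonoidHom).to_le
        inf_le_left
    have hR2 : IsPGroup 2 R := hA2.to_sup_of_normal_left' hB2 hAnorm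
    haveI : Fact (Nat.Prime 2) := ⟨Nat.prime_two⟩
    obtain ⟨n, hn⟩ := IsPGroup.iff_card.1 hR2
    rw [hn]
    exact Nat.Coprime.pow_left n (by norm_num)
  -- the action of `g` and `g'` on the halves
  have g_mid : ∀ c, c * z = z * c → c * f = f * c → g * c * g * c⁻¹ ∈ hA Q f := by
    intro c hc1 hc2
    refine ⟨?_, mem_centralizer_one.2 (mul_inv_eq_iff_eq_mul.1 ?_)⟩
    · rw [show g * c * g * c⁻¹ = g * (c * g * c⁻¹) by group]
      exact Q.mul_mem D.gQ (D.S.conj_mem hc1 D.gQ)
    · have hci : c⁻¹ * f * c = f := by rw [mul_assoc, ← hc2, inv_mul_cancel_left]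
      have hcf' : c * (f * z) * c⁻¹ = f * z := by
        rw [mul_inv_eq_iff_eq_mul]
        exact ((show Commute c f from hc2).mul_right hc1).eq
      calc g * c * g * c⁻¹ * f * (g * c * g * c⁻¹)⁻¹
          = g * (c * (g * (c⁻¹ * f * c) * g) * c⁻¹) * g := by
            rw [mul_inv_rev, mul_inv_rev, mul_inv_rev, inv_inv, e1]; group
        _ = g * f * g * (g * z * g) := by
            rw [hci, D.gfg, hcf', show f * z * (g * z * g) = f * (z * g * z) * g by group, ← D.gz,
              mul_assoc g z z, D.S.loc.sq, mul_one, ← mul_assoc g f z]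
            calc g * f * z * g = g * f * (z * g) := by group
              _ = g * f * g * z := by rw [← D.gz]; group
              _ = f * z * z := by rw [D.gfg]
              _ = f := by rw [mul_assoc, D.S.loc.sq, mul_one]
              _ = f * g * g := by rw [mul_assoc, D.gg, mul_one]
        _ = f := by rw [D.gfg, D.gz, mul_assoc z, D.gg, mul_one, mul_assoc, D.S.loc.sq, mul_one]
  have g'_mid : ∀ c, c * z = z * c → c * f = f * c → g' * c * g' * c⁻¹ ∈ hB z Q h := by
    intro c hc1 hc2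
    refine ⟨?_, mem_centralizer_one.2 (mul_inv_eq_iff_eq_mul.1 ?_)⟩
    · rw [show g' * c * g' * c⁻¹ = g' * (c * g' * c⁻¹) by group]
      exact Subgroup.mul_mem _ D.g'_mem (X.norm_Q₁ hc2 D.g'_mem)
    · have hci : c⁻¹ * z * c = z := by rw [mul_assoc, ← hc1, inv_mul_cancel_left]
      have hcf' : c * (f * z) * c⁻¹ = f * z := by
        rw [mul_inv_eq_iff_eq_mul]
        exact ((show Commute c f from hc2).mul_right hc1).eq
      calc g' * c * g' * c⁻¹ * z * (g' * c * g' * c⁻¹)⁻¹
          = g' * (c * (g' * (c⁻¹ * z * c) * g') * c⁻¹) * g' := by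
            rw [mul_inv_rev, mul_inv_rev, mul_inv_rev, inv_inv, e2]; group
        _ = g' * f * g' * (g' * z * g') := by
            rw [hci, D.hz, hcf']
            calc g' * (f * z) * g' = g' * f * (g' * g') * z * g' := by rw [D.hh]; group
              _ = g' * f * g' * (g' * z * g') := by group
              _ = g' * f * g' * (f * z) := by rw [D.hz]
        _ = z := by rw [D.hz, D.hf, mul_assoc f, D.hh, mul_one, ← mul_assoc, D.ff, one_mul]
  have gA : ∀ b ∈ hB z Q h, g * b * g ∈ R := fun b hb => by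
    have := g_mid b (X.B_comm hb).1 (X.B_comm hb).2
    exact memR.2 ⟨_, this, b, hb, by group⟩
  have hconj : ∀ c, c * z = z * c → c * f = f * c → h * c * h⁻¹ * c⁻¹ ∈ R := by
    intro c hc1 hc2
    have hb := g'_mid c hc1 hc2
    have ha := g_mid c hc1 hc2
    have key : h * c * h⁻¹ * c⁻¹ = g * (g' * c * g' * c⁻¹) * g * (g * c * g * c⁻¹) := by
      rw [hh, mul_inv_rev, e1, e2]
      calc g * g' * c * (g' * g) * c⁻¹ = g * (g' * c * g' * c⁻¹) * (g * g) * c * g * c⁻¹ := by
            rw [D.gg]; group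
        _ = _ := by group
    rw [key]
    exact Subgroup.mul_mem _ (gA _ hb) (Subgroup.mem_sup_left ha)
  have hnorm : ∀ r ∈ R, h * r * h⁻¹ ∈ R := fun r hr => by
    have h1 := Subgroup.mul_mem _ (hconj r (Rcomm r hr).1 (Rcomm r hr).2) hr
    rwa [inv_mul_cancel_right] at h1
  have hord : orderOf h = 3 := by
    haveI : Fact (Nat.Prime 3) := ⟨Nat.prime_three⟩
    refine orderOf_eq_prime ?_ fun e => ?_
    · rw [pow_succ, pow_two]; exact D.three
    · have := D.conj_z
      rw [← hh, e] at this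
      exact X.sne (by simpa using this.symm)
  -- correct the lift
  obtain ⟨r, hr, hrc⟩ := Cfsg.Agent.CoThree.three_conj (R := R) (b := h) (c := c₀ * h * c₀⁻¹) Rcop hord hnorm
    (by
      have := inv_mem (hconj c₀ hcz hcs)
      rwa [show (h * c₀ * h⁻¹ * c₀⁻¹)⁻¹ = c₀ * h * c₀⁻¹ * h⁻¹ by group] at this)
    (by rw [show c₀ * h * c₀⁻¹ = MulAut.conj c₀ h by rfl, MulEquiv.orderOf_eq, hord])
  have hkz : r * c₀ * z = z * (r * c₀) := ((show Commute r z from (Rcomm r hr).1).mul_left hcz).eq
  have hkf : r * c₀ * f = f * (r * c₀) := ((show Commute r f from (Rcomm r hr).2).mul_left hcs).eq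
  have hkh : r * c₀ * h = h * (r * c₀) := mul_inv_eq_iff_eq_mul.1 (by
    calc r * c₀ * h * (r * c₀)⁻¹ = r * (c₀ * h * c₀⁻¹) * r⁻¹ := by group
      _ = h := hrc)
  set k := r * c₀ with hk
  -- `k` commutes with `g`
  have hghg : g * h * g = h⁻¹ := by
    rw [hh, mul_inv_rev, e1, e2, ← mul_assoc, D.gg, one_mul]
  have hkg : k * g = g * k := by
    have h1 := g_mid k hkz hkf
    have h2 : g * k * g * k⁻¹ = 1 := by
      refine D.eq_one_of_fix h1.1 (mem_centralizer_one.1 h1.2) ?_
      have hk' : Commute k h⁻¹ := (show Commute k h from hkh).inv_right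
      have hgk : Commute (g * k * g) h := by
        show g * k * g * h = h * (g * k * g)
        calc g * k * g * h = g * k * (g * h * g) * g := by
              rw [show g * k * (g * h * g) * g = g * k * (g * h) * (g * g) by group, D.gg]; group
          _ = g * (h⁻¹ * k) * g := by rw [hghg, mul_assoc g k, hk'.eq]
          _ = g * (g * h * g) * k * g := by rw [hghg]; group
          _ = h * (g * k * g) := by
              rw [show g * (g * h * g) = g * g * h * g by group, D.gg]; group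
      exact (hgk.mul_left (show Commute k h from hkh).inv_left).eq
    rw [mul_inv_eq_one] at h2
    calc k * g = g * g * k * g := by rw [D.gg, one_mul]
      _ = g * (g * k * g) := by group
      _ = g * k := by rw [h2]
  have hkg' : k * g' = g' * k := by
    have : g' = g * h := by rw [hh, ← mul_assoc, D.gg, one_mul]
    rw [this]
    exact ((show Commute k g from hkg).mul_right hkh).eq
  refine ⟨k, ⟨hkz, hkf, hkg, hkg'⟩, ?_⟩
  obtain ⟨a, ha, b, hb, rfl⟩ := memR.1 hr
  have hab := Rcomm _ hr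
  have hρk : ∀ v, ρ k v = sg e0 (inW (vb ρ b)) (φ v) := fun v => by
    rw [hk, D.S.rho_mul hab.1 hcz, D.S.rho_mul (D.S.Qz ha.1) (X.B_comm hb).1, (D.S.ker a (D.S.Qz ha.1)).2 ha.1,
      X.rho_B hb, hρ]
  have hv0 : vb ρ b = 0 := by
    have h3 := hρk f0
    rw [(D.fix_pair ⟨hkz, hkf, hkg, hkg'⟩).2, h1] at h3
    have key : ∀ w : W, sg e0 (inW w) f0 = f0 → w = 0 := by decide +kernel
    exact key _ h3.symm
  funext v
  rw [hρk v, hv0, (sg_zero _).2]

end Quad

end Cfsg.Agent.SuzHom
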