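import Cfsg.Agent.Lib.SuzHom.ModelChecks
import Cfsg.Agent.Lib.U43Rec.Aut

/-!
The coded permutations lie in the model group; the automorphisms of the model graph centralising three of
them and inverting properly are two known maps.
-/

set_option autoImplicit false
set_option maxRecDepth 10000
set_option linter.unusedSectionVars false

namespace Cfsg.Agent.SuzHom

open Subgroup Cfsg.Agent.U43Rec Cfsg.Agent.PermCert
open Cfsg.Agent.SchurMult (u43Gens)

attribute [local irreducible] tabs words dTabs rels orbList roundList forced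

theorem exists_uM (k : Fin 15) : ∃ σ ∈ uM, ∀ x, σ x = mp k x := by
  have hv := fun j : Fin 2 => (gens_valid j).1
  have hg : ∀ j : Fin 2, toPerm 7 112 (u43Gens.getD j (0, 0)) ∈ genGroup 7 112 u43Gens := fun j =>
    Subgroup.subset_closure (List.mem_map.2 ⟨_, by
      have hl : u43Gens.length = 2 := rfl
      rw [List.getD_eq_getElem _ _ (by rw [hl]; exact j.2)]
      exact List.getElem_mem _, rfl⟩)
  have hpool : ∀ e ∈ pool, ∃ σ ∈ (genGroup 7 112 u43Gens).toSubmonoid, Rep 7 e σ := by
    intro e he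
    simp only [pool, List.mem_cons, List.not_mem_nil, or_false] at he
    rcases he with rfl | rfl | rfl | rfl
    · exact ⟨_, hg 0, rep_toPerm (hv 0)⟩
    · exact ⟨_, hg 1, rep_toPerm (hv 1)⟩
    · refine ⟨_, Subgroup.inv_mem _ (hg 0), fun i => ?_⟩
      rw [inv_inv]
      exact ⟨(rep_toPerm (hv 0) i).2, (rep_toPerm (hv 0) i).1⟩
    · refine ⟨_, Subgroup.inv_mem _ (hg 1), fun i => ?_⟩
      rw [inv_inv]
      exact ⟨(rep_toPerm (hv 1) i).2, (rep_toPerm (hv 1) i).1⟩
  obtain ⟨σ, hσ, hrep⟩ := rep_wordProd (n := 112) (w := 7) (by norm_num) hpool (words.getD k [])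
  refine ⟨_, Subgroup.mem_map_of_mem _ hσ, fun x => ?_⟩
  have h := words_ok k
  simp only [wordOK, List.all_eq_true, Nat.beq_eq] at h
  have h' : ofLine (Fin.ofNat 112 (Cfsg.Agent.PermCert.get 7 _ (toLine x : ℕ))) = mp k x :=
    Fin.ext (h x (List.mem_finRange _))
  rw [(hrep (toLine x)).1] at h'
  rw [Fin.ofNat_val_eq_self] at h'
  exact h'

/-- The chosen permutation. -/
noncomputable def pm (k : Fin 15) : Equiv.Perm (Fin 112) := (exists_uM k).choose

theorem pm_mem (k : Fin 15) : pm k ∈ uM := (exists_uM k).choose_spec.1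

theorem pm_apply (k : Fin 15) (x : Fin 112) : pm k x = mp k x := (exists_uM k).choose_spec.2 x

/-- The product of a word. -/
noncomputable def pw (w : List ℕ) : Equiv.Perm (Fin 112) := (w.map fun k => pm (Fin.ofNat 15 k)).prod

theorem pw_apply : ∀ w : List ℕ, (∀ k ∈ w, k < 15) → ∀ x, pw w x = evT w x
  | [], _, _ => rfl
  | k :: w, h, x => by
    have h1 := pw_apply w (fun j hj => h j (List.mem_cons_of_mem _ hj)) x
    simp only [pw, List.map_cons, List.prod_cons, Equiv.Perm.mul_apply, evT] at h1 ⊢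
    rw [h1, pm_apply]
    congr
    exact Nat.mod_eq_of_lt (h k List.mem_cons_self)

theorem pw_rel {w : List ℕ} (hw : w ∈ rels) : pw w = 1 := by
  have h := List.all_eq_true.1 rels_ok w hw
  simp only [Bool.and_eq_true, List.all_eq_true, Nat.blt_eq, Nat.beq_eq] at h
  exact Equiv.ext fun x => (pw_apply w h.1 x).trans (Fin.ext (h.2 x (List.mem_finRange _)))

/-- The classification of the outer involution. -/
theorem classify {σ : Equiv.Perm (Fin 112)} (hσ : σ ∈ autM) (h2 : ∀ k : ℕ, k = 1 ∨ k = 3 → ∀ x, σ (σ (mp k x)) = mp k (σ (σ x)))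
    (hc : ∀ k : ℕ, k = 4 ∨ k = 5 ∨ k = 6 → ∀ x, σ (mp k x) = mp k (σ x))
    (hne : ∃ x, mp 3 (σ (mp 3 (σ x))) ≠ σ (mp 3 (σ (mp 3 x)))) :
    ∃ i : Fin 2, ∀ x, σ x = dp i x := by
  obtain ⟨hs0, hsw, hq⟩ := stab_ok
  have hword : ∀ w : List ℕ, (w.all fun k => Nat.beq k 4 || Nat.beq k 5 || Nat.beq k 6) = true →
      ∀ x, σ (evT w x) = evT w (σ x) := by
    intro w
    induction w with
    | nil => exact fun _ _ => rfl
    | cons k w ih =>
      intro h x
      simp only [List.all_cons, Bool.and_eq_true, Bool.or_eq_true, Nat.beq_eq] at h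
      simp only [evT]
      rw [hc k (or_assoc.1 h.1), ih h.2]
  obtain ⟨j, hj⟩ := hq (σ 0) (by rw [← hword _ hsw, hs0])
  set T : Fin 112 → Fin 112 := tp (forced.getD j 0) with hT
  have h := cand_ok j
  simp only [candOK, Bool.and_eq_true, Nat.beq_eq] at h
  obtain ⟨⟨⟨h0, horb⟩, hrounds⟩, hend⟩ := h
  -- agreement along the orbit
  have hO : ∀ (l : List (ℕ × ℕ × ℕ)) (K : List ℕ), orbOK T l K = true →
      (∀ k ∈ K, σ (Fin.ofNat 112 k) = T (Fin.ofNat 112 k)) →
      ∀ k ∈ l.reverse.map Prod.fst ++ K, σ (Fin.ofNat 112 k) = T (Fin.ofNat 112 k) := by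
    intro l
    induction l with
    | nil => intro K _ hK k hk; exact hK k (by simpa using hk)
    | cons e l ih =>
      obtain ⟨y, par, g⟩ := e
      intro K hl hK k hk
      simp only [orbOK, Bool.and_eq_true, Bool.or_eq_true, Nat.beq_eq, Nat.blt_eq, List.contains_iff_mem] at hl
      obtain ⟨⟨⟨⟨⟨⟨hpar, hy⟩, -⟩, hg⟩, hgy⟩, hTy⟩, hrest⟩ := hl
      refine ih (y :: K) hrest ?_ k ?_
      · intro k' hk'
        rcases List.mem_cons.1 hk' with rfl | hk'
        · have he : mp g (Fin.ofNat 112 par) = Fin.ofNat 112 k' := Fin.ext (by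
            rw [hgy]; exact (Nat.mod_eq_of_lt hy).symm)
          rw [← he, hc g (or_assoc.1 hg), hK par hpar, he]
          exact Fin.ext hTy.symm
        · exact hK k' hk'
      · simpa [List.mem_append, or_assoc, or_comm, or_left_comm] using hk
  have hK0 : ∀ k ∈ orbPts, σ (Fin.ofNat 112 k) = T (Fin.ofNat 112 k) := hO orbList [0] horb (by
    intro k hk
    rw [List.mem_singleton] at hk
    subst hk
    exact Fin.ext (show (σ 0 : ℕ) = (T 0 : ℕ) by rw [h0, hj]))
  -- agreement after the rounds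
  have hR : ∀ (l : List (List ℕ)) (K : List ℕ), roundsOK T l K = true →
      (∀ k ∈ K, σ (Fin.ofNat 112 k) = T (Fin.ofNat 112 k)) → ∀ x, σ x = T x := by
    intro l
    induction l with
    | nil =>
      intro K hl hK x
      simp only [roundsOK, List.all_eq_true, List.contains_iff_mem] at hl
      have := hK x (hl x (List.mem_range.2 x.2))
      rwa [Fin.ofNat_val_eq_self] at this
    | cons ys l ih =>
      intro K hl hK
      simp only [roundsOK, Bool.and_eq_true] at hl
      refine ih (K ++ ys) hl.2 fun k hk => ?_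
      rcases List.mem_append.1 hk with hk | hk
      · exact hK k hk
      · have h1 := List.all_eq_true.1 (List.all_eq_true.1 hl.1 k hk) (σ (Fin.ofNat 112 k)) (List.mem_finRange _)
        simp only [Bool.or_eq_true, Nat.beq_eq, List.any_eq_true, bne_iff_ne, ne_eq] at h1
        rcases h1 with h1 | ⟨k', hk', hne'⟩
        · exact Fin.ext h1
        · exfalso
          rw [← hK k' hk'] at hne'
          exact hne' (hσ _ _)
  have hall : ∀ x, σ x = tp (forced.getD j 0) x := hR roundList orbPts hrounds hK0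
  simp only [endOK, sameMap, Bool.or_eq_true, Bool.not_eq_true', List.all_eq_true, List.any_eq_true,
    Nat.beq_eq, bne_iff_ne, ne_eq, id_eq] at hend
  rcases hend with ((((h | h) | h) | h') | h) | ⟨a, -, b, -, hab⟩
  · exact ⟨0, fun x => (hall x).trans (Fin.ext (h x (List.mem_finRange _)))⟩
  · exact ⟨1, fun x => (hall x).trans (Fin.ext (h x (List.mem_finRange _)))⟩
  · exfalso
    refine absurd h (Bool.not_eq_false _ ▸ List.all_eq_true.2 fun x _ => ?_)
    rw [Nat.beq_eq, ← hall, ← hall, ← hall x, ← hall (σ x), h2 3 (Or.inr rfl)]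
  · exfalso
    refine absurd h' (Bool.not_eq_false _ ▸ List.all_eq_true.2 fun x _ => ?_)
    rw [Nat.beq_eq, ← hall, ← hall, ← hall x, ← hall (σ x), h2 1 (Or.inl rfl)]
  · exfalso
    obtain ⟨x, hx⟩ := hne
    refine hx (Fin.ext ?_)
    simp only [hall]
    exact h x (List.mem_finRange _)
  · rw [← hall, ← hall] at hab
    exact absurd (hσ a b) hab

end Cfsg.Agent.SuzHom
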