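import Cfsg.Agent.Lib.U43Rec.Auto
import Cfsg.Agent.Lib.SuzHom.Model
import Cfsg.Agent.Lib.SuzY.Quot

/-!
The action of the centraliser of an element of order three on the model, and lifts of involutions.
-/

set_option autoImplicit false
set_option linter.style.haveILetI false
set_option linter.unusedSectionVars false
set_option maxRecDepth 4000

namespace Cfsg.Agent.SuzHom

open Subgroup Cfsg.Agent.U43Rec

variable {G : Type*} [Group G]

/-- The action on the model. -/
structure Act (x : G) where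
  psi : ↥(centralizer ({x} : Set G)) →* Equiv.Perm (Fin 112)
  ker : ∀ y, psi y = 1 ↔ (y : G) ∈ zpowers x
  surj : ∀ p ∈ uM, ∃ y, psi y = p
  auto : ∀ d : G, d * x * d⁻¹ = x⁻¹ → ∃ σ ∈ autM, ∀ y y' : ↥(centralizer ({x} : Set G)),
    (y' : G) = d * y * d⁻¹ → psi y' = σ * psi y * σ⁻¹

theorem pm_zero_ne : pm 0 ≠ 1 := fun h => by
  have key : ∃ x : Fin 112, mp 0 x ≠ x := by decide +kernel
  obtain ⟨x, hx⟩ := key
  exact hx ((pm_apply 0 x).symm.trans (by rw [h]; rfl))

theorem inv_conj {d x : G} (hd : d * x * d⁻¹ = x⁻¹) : d⁻¹ * x * d = x⁻¹ :=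
  calc d⁻¹ * x * d = d⁻¹ * (d * x * d⁻¹)⁻¹ * d := by rw [hd, inv_inv]
    _ = x⁻¹ := by group

namespace Act

variable {x : G} (A : Act x)

/-- `y` commutes with `x` and acts as `p`. -/
def Img (y : G) (p : Equiv.Perm (Fin 112)) : Prop :=
  ∃ h : y ∈ centralizer ({x} : Set G), A.psi ⟨y, h⟩ = p

variable {A}

theorem Img.comm {y : G} {p : Equiv.Perm (Fin 112)} (h : A.Img y p) : y * x = x * y :=
  mem_centralizer_singleton_iff.1 h.1

theorem Img.mul {y y' : G} {p p' : Equiv.Perm (Fin 112)} (h : A.Img y p) (h' : A.Img y' p') :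
    A.Img (y * y') (p * p') :=
  ⟨mul_mem h.1 h'.1, by rw [← h.2, ← h'.2, ← map_mul]; rfl⟩

theorem Img.inv {y : G} {p : Equiv.Perm (Fin 112)} (h : A.Img y p) : A.Img y⁻¹ p⁻¹ :=
  ⟨inv_mem h.1, by rw [← h.2, ← map_inv]; rfl⟩

theorem img_one : A.Img 1 1 := ⟨one_mem _, map_one A.psi⟩

theorem Img.pow {y : G} {p : Equiv.Perm (Fin 112)} (h : A.Img y p) (n : ℕ) : A.Img (y ^ n) (p ^ n) :=
  ⟨pow_mem h.1 n, by rw [← h.2, ← map_pow]; rfl⟩

theorem Img.list {m : ℕ → G} : ∀ {w : List ℕ}, (∀ k ∈ w, A.Img (m k) (pm (Fin.ofNat 15 k))) →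
    A.Img (w.map m).prod (pw w)
  | [], _ => img_one
  | k :: w, h => by
    simp only [pw, List.map_cons, List.prod_cons]
    exact (h k List.mem_cons_self).mul (Img.list fun j hj => h j (List.mem_cons_of_mem _ hj))

theorem img_unique {y : G} {p p' : Equiv.Perm (Fin 112)} (h : A.Img y p) (h' : A.Img y p') : p = p' := by
  rw [← h.2, ← h'.2]

theorem pow_three_mem (hx : x ^ 3 = 1) {t : G} (ht : t ∈ zpowers x) : t ^ 3 = 1 := by
  obtain ⟨k, rfl⟩ := mem_zpowers_iff.1 ht
  rw [← zpow_natCast, ← zpow_mul, mul_comm, zpow_mul, zpow_natCast, hx, one_zpow]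

theorem Img.diff {y y' : G} {p : Equiv.Perm (Fin 112)} (h : A.Img y p) (h' : A.Img y' p) :
    y⁻¹ * y' ∈ zpowers x := by
  have hh := h.inv.mul h'
  rw [inv_mul_cancel] at hh
  exact (A.ker ⟨_, hh.1⟩).1 hh.2

theorem comm_zpowers {y t : G} (hy : y * x = x * y) (ht : t ∈ zpowers x) : y * t = t * y := by
  obtain ⟨k, rfl⟩ := mem_zpowers_iff.1 ht
  exact ((show Commute y x from hy).zpow_right k).eq

/-- The part of an element killed by an involution inverting it. -/
theorem eq_one_of_sq (hx : x ^ 3 = 1) {t : G} (ht : t ∈ zpowers x) (h2 : t * t = 1) : t = 1 := by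
  have h3 := pow_three_mem hx ht
  rwa [pow_succ, pow_two, h2, one_mul] at h3

theorem invol_ext (hx : x ^ 3 = 1) {y y' : G} {p : Equiv.Perm (Fin 112)} (h : A.Img y p) (h' : A.Img y' p)
    (hy : y * y = 1) (hy' : y' * y' = 1) : y = y' := by
  have ht := h.diff h'
  have hc := comm_zpowers h.comm ht
  refine inv_mul_eq_one.1 (eq_one_of_sq hx ht ?_)
  rw [inv_eq_of_mul_eq_one_right hy] at hc ⊢
  calc y * y' * (y * y') = y * y' * y * y' := by group
    _ = y * (y * y') * y' := by rw [hc]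
    _ = y * y * (y' * y') := by simp only [mul_assoc]
    _ = 1 := by rw [hy, hy', one_mul]

theorem exists_invol (hx : x ^ 3 = 1) {k : Fin 15} (hk : pm k * pm k = 1) :
    ∃ y, y * y = 1 ∧ A.Img y (pm k) := by
  obtain ⟨⟨y, hy⟩, hp⟩ := A.surj _ (pm_mem k)
  have h : A.Img y (pm k) := ⟨hy, hp⟩
  have h2 := h.mul h
  rw [hk] at h2
  have h3 := pow_three_mem hx ((A.ker ⟨_, h2.1⟩).1 h2.2)
  refine ⟨y ^ 3, ?_, ?_⟩
  · rw [← pow_two, ← pow_mul, mul_comm, pow_mul, pow_two, h3]
  · have := h.pow 3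
    rwa [pow_succ (pm k), pow_two (pm k), hk, one_mul] at this

/-- A relation between two involutions lifts. -/
theorem rel_lift (hx : x ^ 3 = 1) {u v : G} {p q : Equiv.Perm (Fin 112)} (hu : A.Img u p) (hv : A.Img v q)
    (hu2 : u * u = 1) (hv2 : v * v = 1) {n : ℕ} (h : (p * q) ^ n = 1) : (u * v) ^ n = 1 := by
  have hh := (hu.mul hv).pow n
  rw [h] at hh
  have ht := (A.ker ⟨_, hh.1⟩).1 hh.2
  refine eq_one_of_sq hx ht ?_
  have e1 := comm_zpowers hu.comm ht
  have e2 : u * (u * v) ^ n * u⁻¹ = ((u * v) ^ n)⁻¹ := by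
    rw [← conj_pow, ← inv_pow, mul_inv_rev, inv_eq_of_mul_eq_one_right hu2, inv_eq_of_mul_eq_one_right hv2,
      ← mul_assoc u u v, hu2, one_mul]
  rw [e1, mul_inv_cancel_right] at e2
  calc (u * v) ^ n * (u * v) ^ n = (u * v) ^ n * ((u * v) ^ n)⁻¹ := by rw [← e2]
    _ = 1 := mul_inv_cancel _

/-- Composing with an inner automorphism. -/
noncomputable def conj (A : Act x) (c : ↥(centralizer ({x} : Set G))) : Act x where
  psi := A.psi.comp (MulAut.conj c).toMonoidHom
  ker y := by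
    show A.psi (c * y * c⁻¹) = 1 ↔ _
    rw [map_mul, map_mul, map_inv, conj_eq_one_iff, A.ker]
  surj p hp := by
    obtain ⟨y, hy⟩ := A.surj p hp
    refine ⟨c⁻¹ * y * c, ?_⟩
    show A.psi (c * (c⁻¹ * y * c) * c⁻¹) = p
    rw [show c * (c⁻¹ * y * c) * c⁻¹ = y by group, hy]
  auto d hd := by
    have hc := mem_centralizer_singleton_iff.1 c.2
    have hc' : (c : G) * x * (c : G)⁻¹ = x := mul_inv_eq_iff_eq_mul.2 hc
    obtain ⟨σ, hσ, h⟩ := A.auto (c * d * (c : G)⁻¹) (by
      calc _ = (c : G) * d * ((c : G)⁻¹ * x * c) * d⁻¹ * (c : G)⁻¹ := by group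
        _ = (c : G) * (d * x * d⁻¹) * (c : G)⁻¹ := by rw [mul_assoc _⁻¹ x, ← hc, inv_mul_cancel_left]; group
        _ = x⁻¹ := by rw [hd, ← conj_inv, hc'])
    refine ⟨σ, hσ, fun y y' hy => ?_⟩
    refine h (c * y * c⁻¹) (c * y' * c⁻¹) ?_
    rw [Subgroup.coe_mul, Subgroup.coe_mul, Subgroup.coe_mul, Subgroup.coe_mul, InvMemClass.coe_inv, hy]
    group

theorem conj_img {c : ↥(centralizer ({x} : Set G))} {y : G} {p : Equiv.Perm (Fin 112)}
    (h : A.Img ((c : G) * y * (c : G)⁻¹) p) : (A.conj c).Img y p := by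
  obtain ⟨hm, hp⟩ := h
  have hy : y ∈ centralizer ({x} : Set G) := by
    have := mul_mem (mul_mem (inv_mem c.2) hm) c.2
    rwa [show (c : G)⁻¹ * ((c : G) * y * (c : G)⁻¹) * c = y by group] at this
  refine ⟨hy, ?_⟩
  rw [← hp]
  exact congrArg A.psi (Subtype.ext rfl)

/-- The automorphism induced by an element inverting `x`, on images. -/
theorem exists_sigma {d : G} (hd : d * x * d⁻¹ = x⁻¹) :
    ∃ σ ∈ autM, ∀ y p, A.Img y p → A.Img (d * y * d⁻¹) (σ * p * σ⁻¹) := by
  obtain ⟨σ, hσ, h⟩ := A.auto d hd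
  refine ⟨σ, hσ, fun y p hy => ?_⟩
  have hm : d * y * d⁻¹ ∈ centralizer ({x} : Set G) := mem_centralizer_singleton_iff.2 (by
    have e : d⁻¹ * x * d = x⁻¹ := inv_conj hd
    calc d * y * d⁻¹ * x = d * (y * (d⁻¹ * x * d)) * d⁻¹ := by group
      _ = d * ((d⁻¹ * x * d) * y) * d⁻¹ := by rw [e, ((show Commute y x from hy.comm).inv_right).eq]
      _ = x * (d * y * d⁻¹) := by group)
  exact ⟨hm, by rw [← hy.2]; exact h _ _ rfl⟩

end Act

/-- The action exists once the quotient is of type `U4(3)`. -/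
theorem exists_act [Finite G] {x z : G}
    (L : Loc (↥(centralizer ({x} : Set G)) ⧸ (zpowers x).subgroupOf (centralizer ({x} : Set G))))
    (hzx : z * x = x * z) (hz2 : z * z = 1) (hz : z ∉ zpowers x) :
    ∃ A : Act x, A.Img z (pm 0) := by
  classical
  obtain ⟨p₀, hp₀⟩ := L.exists_far
  let ρ := L.rho ⟨p₀, hp₀⟩
  have hρ : Function.Injective ρ := L.rho_injective _
  have hrange : ρ.range = uM := L.range_rho _
  let q := QuotientGroup.mk' ((zpowers x).subgroupOf (centralizer ({x} : Set G)))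
  let A₀ : Act x :=
    { psi := ρ.comp q
      ker := fun y => by
        show ρ (q y) = 1 ↔ _
        rw [← map_one ρ, hρ.eq_iff]
        exact (QuotientGroup.eq_one_iff y).trans mem_subgroupOf
      surj := fun p hp => by
        obtain ⟨u, hu⟩ := hrange.ge hp
        obtain ⟨y, rfl⟩ := QuotientGroup.mk'_surjective _ u
        exact ⟨y, hu⟩
      auto := fun d hd => by
        have hmapx : (zpowers x).map (MulAut.conj d).toMonoidHom = zpowers x := by
          rw [MonoidHom.map_zpowers]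
          show zpowers (d * x * d⁻¹) = zpowers x
          rw [hd, zpowers_inv]
        have hmapC : (centralizer ({x} : Set G)).map (MulAut.conj d).toMonoidHom = centralizer ({x} : Set G) := by
          have hle : ∀ d : G, d * x * d⁻¹ = x⁻¹ → ∀ y, y * x = x * y → d * y * d⁻¹ * x = x * (d * y * d⁻¹) := by
            intro d hd y hy
            have e : d⁻¹ * x * d = x⁻¹ := inv_conj hd
            calc d * y * d⁻¹ * x = d * (y * (d⁻¹ * x * d)) * d⁻¹ := by group
              _ = d * ((d⁻¹ * x * d) * y) * d⁻¹ := by rw [e, ((show Commute y x from hy).inv_right).eq]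
              _ = x * (d * y * d⁻¹) := by group
          have hdi : d⁻¹ * x * d⁻¹⁻¹ = x⁻¹ := by rw [inv_inv]; exact inv_conj hd
          ext y
          rw [mem_map_equiv, mem_centralizer_singleton_iff, mem_centralizer_singleton_iff, MulAut.conj_symm_apply]
          constructor
          · intro hy
            have := hle d hd _ hy
            rwa [show d * (d⁻¹ * y * d) * d⁻¹ = y by group] at this
          · intro hy
            have := hle d⁻¹ hdi y hy
            rwa [inv_inv] at this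
        let e : ↥(centralizer ({x} : Set G)) ≃* ↥(centralizer ({x} : Set G)) :=
          (Subgroup.equivMapOfInjective _ _ (MulAut.conj d).injective).trans (MulEquiv.subgroupCongr hmapC)
        have he : ∀ y, (e y : G) = d * y * d⁻¹ := fun y => rfl
        have hmap : ((zpowers x).subgroupOf (centralizer ({x} : Set G))).map e.toMonoidHom =
            (zpowers x).subgroupOf (centralizer ({x} : Set G)) := by
          ext y
          rw [mem_map, mem_subgroupOf]
          constructor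
          · rintro ⟨u, hu, rfl⟩
            rw [← hmapx]
            exact ⟨_, mem_subgroupOf.1 hu, (he u).symm⟩
          · intro hy
            obtain ⟨u, hu, huy⟩ := hmapx.ge hy
            refine ⟨e.symm y, mem_subgroupOf.2 ?_, e.apply_symm_apply y⟩
            have h2 := he (e.symm y)
            rw [e.apply_symm_apply, ← huy] at h2
            have h3 : u = ((e.symm y : ↥(centralizer ({x} : Set G))) : G) :=
              mul_left_cancel (mul_right_cancel h2)
            rwa [← h3]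
        let θ := QuotientGroup.congr _ _ e hmap
        obtain ⟨σ, hσ, hθ⟩ := L.exists_sigma ⟨p₀, hp₀⟩ θ
        refine ⟨σ, hσ, fun y y' hy => ?_⟩
        show ρ (q y') = σ * ρ (q y) * σ⁻¹
        rw [← hθ]
        refine congrArg ρ ?_
        show q y' = q (e y)
        exact congrArg q (Subtype.ext (hy.trans (he y).symm)) }
  -- move the image of `z`
  obtain ⟨y, hy⟩ := A₀.surj _ (pm_mem 0)
  have hz' : z ∈ centralizer ({x} : Set G) := mem_centralizer_singleton_iff.2 hzx
  have hpm : pm 0 * pm 0 = 1 := by simpa [pw] using pw_rel (w := [0, 0]) (by decide +kernel)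
  have hzq2 : q ⟨z, hz'⟩ * q ⟨z, hz'⟩ = 1 := by
    rw [← map_mul, ← map_one q]
    exact congrArg q (Subtype.ext hz2)
  have hzq : q ⟨z, hz'⟩ ≠ 1 := fun h => hz (mem_subgroupOf.1 ((QuotientGroup.eq_one_iff _).1 h))
  have hyq2 : q y * q y = 1 := hρ (by rw [map_mul, show ρ (q y) = pm 0 from hy, hpm, map_one])
  have hyq : q y ≠ 1 := fun h => pm_zero_ne (by rw [← hy]; show ρ (q y) = 1; rw [h, map_one])
  obtain ⟨u, hu⟩ := isConj_iff.1 (L.one_class _ _ hzq2 hzq hyq2 hyq)
  obtain ⟨c, rfl⟩ := QuotientGroup.mk'_surjective _ u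
  refine ⟨A₀.conj c, hz', ?_⟩
  show ρ (q (c * ⟨z, hz'⟩ * c⁻¹)) = pm 0
  have e : q (c * ⟨z, hz'⟩ * c⁻¹) = q y := by rw [map_mul q, map_mul q, map_inv q]; exact hu
  rw [e]
  exact hy

end Cfsg.Agent.SuzHom
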