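import Cfsg.Agent.Lib.SuzHom.Space
import Cfsg.Agent.Lib.SuzHom.Frame
import Cfsg.Agent.Lib.SuzHom.Lift

/-!
Seven elements of a group of Suzuki sporadic type, with the relations visible in the centraliser of an
element of order three and in the centraliser of the involution.
-/

set_option autoImplicit false
set_option linter.style.haveILetI false
set_option linter.unusedSectionVars false
set_option maxRecDepth 20000
set_option synthInstance.maxSize 4000
set_option synthInstance.maxHeartbeats 400000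

namespace Cfsg.Agent.SuzHom

open Subgroup Cfsg.Agent.SuzT Cfsg.Agent.SuzY
open Cfsg.Agent.U43Rec (uM autM)

attribute [local irreducible] mp dp tabs dTabs rels

local notation "F" => ZMod 2

/-- The index of the chosen `b`. -/
def bi (i : Fin 2) : Fin 15 := ⟨1 + i, by omega⟩

/-- The index of the chosen `h`. -/
def hi (i : Fin 2) : Fin 15 := ⟨7 + i, by omega⟩

theorem rels_flat : ∀ i : Fin 2,
    [(0 : ℕ), 0] ∈ rels ∧ [(3 : ℕ), 3] ∈ rels ∧ [(6 : ℕ), 6] ∈ rels ∧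
    [(bi i : ℕ), (bi i : ℕ)] ∈ rels ∧ [(hi i : ℕ), (hi i : ℕ)] ∈ rels ∧
    [(4 : ℕ), 5, 4, 5, 0] ∈ rels ∧ [(6 : ℕ), 0, 6, 0, 4] ∈ rels ∧
    [(hi i : ℕ), 0, (hi i : ℕ), 0, 5] ∈ rels ∧
    [(4 : ℕ), 6, (hi i : ℕ), 6, 5, (hi i : ℕ), (bi i : ℕ)] ∈ rels ∧
    [(4 : ℕ), 4] ∈ rels ∧ [(5 : ℕ), 5] ∈ rels := by decide +kernel

theorem rels_pow : ∀ i : Fin 2,
    (List.replicate 3 [(5 : ℕ), 6]).flatten ∈ rels ∧ (List.replicate 2 [(6 : ℕ), 4]).flatten ∈ rels ∧
    (List.replicate 2 [(3 : ℕ), 4]).flatten ∈ rels ∧ (List.replicate 2 [(3 : ℕ), 5]).flatten ∈ rels ∧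
    (List.replicate 3 [(4 : ℕ), (hi i : ℕ)]).flatten ∈ rels ∧
    (List.replicate 2 [(5 : ℕ), (hi i : ℕ)]).flatten ∈ rels ∧
    (List.replicate 5 [(0 : ℕ), (bi i : ℕ)]).flatten ∈ rels ∧
    (List.replicate 3 [(bi i : ℕ), 3]).flatten ∈ rels ∧
    (List.replicate 3 [(bi i : ℕ), 4]).flatten ∈ rels ∧
    (List.replicate 3 [(bi i : ℕ), 5]).flatten ∈ rels ∧
    (List.replicate 5 [(0 : ℕ), (bi i : ℕ), 3, 4]).flatten ∈ rels ∧
    (List.replicate 5 [(bi i : ℕ), 4, 5]).flatten ∈ rels := by decide +kernel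

theorem rels_q : ∀ t : Fin 3, ∀ j ∈ [(9 + 2 * t : ℕ), 10 + 2 * t],
    [j, j, j] ∈ rels ∧ [j, 0, j, j, 0] ∈ rels ∧ j < 15 := by decide +kernel

theorem rels_prod : [(9 : ℕ), 10, 4] ∈ rels ∧ [(11 : ℕ), 12, 5] ∈ rels ∧ [(13 : ℕ), 14, 3] ∈ rels := by
  decide +kernel

theorem mp_ne : ∀ k ∈ [(3 : ℕ), 4, 5], (∃ x, mp k x ≠ x) ∧ ∃ x, mp k x ≠ mp 0 x := by decide +kernel

theorem pm_ne (k : Fin 15) (h : (k : ℕ) ∈ [(3 : ℕ), 4, 5]) : pm k ≠ 1 ∧ pm k ≠ pm 0 := by
  obtain ⟨⟨x, hx⟩, ⟨y, hy⟩⟩ := mp_ne _ h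
  refine ⟨fun e => hx ?_, fun e => hy ?_⟩
  · rw [← pm_apply, e]; rfl
  · rw [← pm_apply, e, pm_apply]; rfl

theorem pw_append (w w' : List ℕ) : pw (w ++ w') = pw w * pw w' := by simp [pw]

theorem pow_rel {w : List ℕ} {n : ℕ} (h : (List.replicate n w).flatten ∈ rels) : pw w ^ n = 1 := by
  rw [← pw_rel h]
  clear h
  induction n with
  | zero => simp [pw]
  | succ n ih => rw [List.replicate_succ, List.flatten_cons, pw_append, ← ih, pow_succ']

theorem pair_rel {j k : Fin 15} {n : ℕ} (h : (List.replicate n [(j : ℕ), (k : ℕ)]).flatten ∈ rels) :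
    (pm j * pm k) ^ n = 1 := by
  have := pow_rel h
  simpa only [pw, List.map_cons, List.map_nil, List.prod_cons, List.prod_nil, mul_one,
    Fin.ofNat_val_eq_self] using this

theorem sq_rel {j : Fin 15} (h : [(j : ℕ), (j : ℕ)] ∈ rels) : pm j * pm j = 1 := by
  have := pw_rel h
  simpa only [pw, List.map_cons, List.map_nil, List.prod_cons, List.prod_nil, mul_one,
    Fin.ofNat_val_eq_self] using this

theorem q_facts {j : Fin 15} (h3 : [(j : ℕ), (j : ℕ), (j : ℕ)] ∈ rels)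
    (h0 : [(j : ℕ), 0, (j : ℕ), (j : ℕ), 0] ∈ rels) :
    pm j ^ 3 = 1 ∧ pm j * pm 0 * (pm j)⁻¹ = pm 0 := by
  have e3 : pm j * (pm j * pm j) = 1 := by
    simpa only [pw, List.map_cons, List.map_nil, List.prod_cons, List.prod_nil, mul_one,
      Fin.ofNat_val_eq_self] using pw_rel h3
  have e0' : pm j * (pm 0 * (pm j * (pm j * pm 0))) = 1 := by
    have := pw_rel h0
    simp only [pw, List.map_cons, List.map_nil, List.prod_cons, List.prod_nil, mul_one,
      Fin.ofNat_val_eq_self] at this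
    exact this
  have ei : (pm j)⁻¹ = pm j * pm j := inv_eq_of_mul_eq_one_right e3
  have ea : (pm 0)⁻¹ = pm 0 := inv_eq_of_mul_eq_one_right (sq_rel (rels_flat 0).1)
  refine ⟨by rw [pow_succ, pow_two, mul_assoc, e3], ?_⟩
  rw [ei]
  calc pm j * pm 0 * (pm j * pm j) = (pm j * (pm 0 * (pm j * (pm j * pm 0)))) * (pm 0)⁻¹ := by group
    _ = pm 0 := by rw [e0', one_mul, ea]

theorem comm_of_sq {M : Type*} [Group M] {u v : M} (hu : u * u = 1) (hv : v * v = 1)
    (h : (u * v) ^ 2 = 1) : u * v = v * u := by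
  rw [pow_two] at h
  rw [← inv_eq_of_mul_eq_one_right h, mul_inv_rev, inv_eq_of_mul_eq_one_right hu,
    inv_eq_of_mul_eq_one_right hv]

variable {G : Type*} [Group G] [Finite G] {z x : G} {Q : Subgroup G} {π : G → V} {ρ : G → V → V}

theorem z_nmem (Z : Fy z Q π ρ x) : z ∉ zpowers x := fun h =>
  Z.S.loc.ne_one (Act.eq_one_of_sq Z.pow_three h Z.S.loc.sq)

theorem Act.img_x (A : Act x) {t : G} (ht : t ∈ zpowers x) : A.Img t 1 := by
  have hm : t ∈ centralizer ({x} : Set G) := mem_centralizer_singleton_iff.2 (by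
    obtain ⟨k, rfl⟩ := mem_zpowers_iff.1 ht
    exact ((Commute.refl x).zpow_left k).eq)
  exact ⟨hm, (A.ker ⟨t, hm⟩).2 ht⟩

theorem Act.mem_of_img {A : Act x} {t : G} (h : A.Img t 1) : t ∈ zpowers x := (A.ker ⟨t, h.1⟩).1 h.2

/-- An element acting as one of the elements of order three lifts to the group generated by the elements
of odd order. -/
theorem exists_J (Z : Fy z Q π ρ x) {A : Act x} (hA : A.Img z (pm 0)) {qa ta qc tb : G}
    (T : Two Z qa ta qc tb) {j : Fin 15} (hj : pm j ^ 3 = 1 ∧ pm j * pm 0 * (pm j)⁻¹ = pm 0) :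
    ∃ d ∈ T.J, A.Img d (pm j) := by
  obtain ⟨⟨y, hy⟩, hp⟩ := A.surj _ (pm_mem j)
  have hi : A.Img y (pm j) := ⟨hy, hp⟩
  have hyz : y * z * y⁻¹ = z := by
    have h1 := (hi.mul hA).mul hi.inv
    rw [hj.2] at h1
    exact Act.invol_ext Z.pow_three h1 hA
      (by rw [show y * z * y⁻¹ * (y * z * y⁻¹) = y * (z * z) * y⁻¹ by group, Z.S.loc.sq, mul_one, mul_inv_cancel])
      Z.S.loc.sq
  obtain ⟨k, d, hd, rfl⟩ := Z.split (Z.mem_cen (mul_inv_eq_iff_eq_mul.1 hyz) hi.comm)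
  have hdi : A.Img d (pm j) := by
    have := hi.mul (A.img_x (inv_mem (npow_mem_zpowers x k)))
    rwa [mul_inv_cancel_right, mul_one] at this
  have h9 : d ^ 9 = 1 := by
    have h := hdi.pow 3
    rw [hj.1] at h
    rw [show 9 = 3 * 3 from rfl, pow_mul]
    exact Act.pow_three_mem Z.pow_three (Act.mem_of_img h)
  exact ⟨d, T.odd_mem hd (Odd.of_dvd_nat (by decide : Odd 9) (orderOf_dvd_of_pow_eq_one h9)), hdi⟩

/-- Three of the involutions lift into the extraspecial group. -/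
theorem exists_U (Z : Fy z Q π ρ x) {A : Act x} (hA : A.Img z (pm 0)) {j j' k : Fin 15}
    (hj : pm j ^ 3 = 1 ∧ pm j * pm 0 * (pm j)⁻¹ = pm 0)
    (hj' : pm j' ^ 3 = 1 ∧ pm j' * pm 0 * (pm j')⁻¹ = pm 0) (hk : pm k * pm k = 1)
    (hjk : pm j * (pm j' * pm k) = 1) :
    ∃ u, u ∈ Z.U ∧ u * u = 1 ∧ A.Img u (pm k) := by
  obtain ⟨qa, ta, qc, tb, T⟩ := Z.exists_two
  obtain ⟨d, hd, hdi⟩ := exists_J Z hA T hj
  obtain ⟨d', hd', hdi'⟩ := exists_J Z hA T hj'
  have he : pm j * pm j' = pm k := by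
    rw [← mul_assoc, mul_eq_one_iff_eq_inv, inv_eq_of_mul_eq_one_right hk] at hjk
    exact hjk
  have hu := hdi.mul hdi'
  rw [he] at hu
  have h2 : d * d' * (d * d') = 1 := by
    have h := hu.mul hu
    rw [hk] at h
    obtain ⟨n, hn⟩ := (isOfFinOrder_of_finite x).mem_powers_iff_mem_zpowers.2 (Act.mem_of_img h)
    simp only at hn
    rw [← hn]
    exact Z.x_pow_of_fix (hn ▸ T.J_le (mul_mem (mul_mem hd hd') (mul_mem hd hd')))
  exact ⟨_, T.two_elt (mul_mem hd hd') (n := 1) (by rw [pow_one, pow_two, h2]), h2, hu⟩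

theorem exists_U3 (Z : Fy z Q π ρ x) {A : Act x} (hA : A.Img z (pm 0)) :
    ∀ k : Fin 15, (k : ℕ) ∈ [(3 : ℕ), 4, 5] → ∃ u, u ∈ Z.U ∧ u * u = 1 ∧ A.Img u (pm k) := by
  intro k hk
  obtain ⟨p4, p5, p3⟩ := rels_prod
  have go : ∀ (t : Fin 3) (j j' l : Fin 15), (j : ℕ) = 9 + 2 * t → (j' : ℕ) = 10 + 2 * t →
      [(j : ℕ), (j' : ℕ), (l : ℕ)] ∈ rels → [(l : ℕ), (l : ℕ)] ∈ rels →
      ∃ u, u ∈ Z.U ∧ u * u = 1 ∧ A.Img u (pm l) := by
    intro t j j' l e e' hp hl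
    have h1 := rels_q t j (by simp [e])
    have h2 := rels_q t j' (by simp [e'])
    refine exists_U Z hA (q_facts h1.1 h1.2.1) (q_facts h2.1 h2.2.1) (sq_rel hl) ?_
    simpa only [pw, List.map_cons, List.map_nil, List.prod_cons, List.prod_nil, mul_one,
      Fin.ofNat_val_eq_self] using pw_rel hp
  obtain ⟨-, c3, -, -, -, -, -, -, -, c4, c5⟩ := rels_flat 0
  simp only [List.mem_cons, List.not_mem_nil, or_false] at hk
  rcases hk with h | h | h
  · obtain rfl : k = 3 := Fin.ext h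
    exact go 2 13 14 3 rfl rfl p3 c3
  · obtain rfl : k = 4 := Fin.ext h
    exact go 0 9 10 4 rfl rfl p4 c4
  · obtain rfl : k = 5 := Fin.ext h
    exact go 1 11 12 5 rfl rfl p5 c5

/-- The action can be moved so that the two involutions have the standard images. -/
theorem exists_norm (Z : Fy z Q π ρ x) (A₀ : Act x) (hA₀ : A₀.Img z (pm 0)) :
    ∃ (A : Act x) (f g : G), A.Img z (pm 0) ∧ A.Img f (pm 4) ∧ A.Img g (pm 5) ∧ f ∈ Q ∧ g ∈ Q ∧
      f * f = 1 ∧ g * g = 1 ∧ π f = e0 ∧ π g = f0 := by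
  have S := Z.S
  obtain ⟨f, hfU, hf2, hfi⟩ := exists_U3 Z hA₀ 4 (by decide)
  obtain ⟨g, hgU, hg2, hgi⟩ := exists_U3 Z hA₀ 5 (by decide)
  obtain ⟨hfQ, hfP⟩ := Z.mem_U.1 hfU
  obtain ⟨hgQ, hgP⟩ := Z.mem_U.1 hgU
  have sing : ∀ {u : G}, u ∈ Q → u * u = 1 → q (π u) = 0 := fun {u} hu h2 => by
    have h := S.sq u hu
    rw [h2] at h
    rcases F_cases (q (π u)) with e | e
    · exact e
    · rw [e, zb_one] at h
      exact absurd h.symm S.loc.ne_one
  have hb : bil (π f) (π g) = 1 := by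
    rcases F_cases (bil (π f) (π g)) with e | e
    · exfalso
      have hc : f * g = g * f := (S.comm_iff hfQ hgQ).2 e
      have h1 := ((hfi.mul hgi).mul (hfi.mul hgi)).mul hA₀
      have h45 : pm 4 * (pm 5 * (pm 4 * (pm 5 * pm 0))) = 1 := by
        have := pw_rel (rels_flat 0).2.2.2.2.2.1
        simp only [pw, List.map_cons, List.map_nil, List.prod_cons, List.prod_nil, mul_one] at this
        exact this
      rw [show f * g * (f * g) * z = z by
          rw [(show Commute g f from hc.symm).mul_mul_mul_comm, hf2, hg2, one_mul, one_mul],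
        show pm 4 * pm 5 * (pm 4 * pm 5) * pm 0 = 1 by rw [← h45]; simp only [mul_assoc]] at h1
      exact z_nmem Z (Act.mem_of_img h1)
    · exact e
  obtain ⟨p, hp1, hp2⟩ := pair_norm _ _ hfP hgP (sing hfQ hf2) (sing hgQ hg2) hb
  obtain ⟨c, hc, hcρ⟩ := Z.lift_em p
  have hcz := Z.cen_z hc
  have hcx : c⁻¹ ∈ centralizer ({x} : Set G) :=
    inv_mem (mem_centralizer_singleton_iff.2 (Z.cen_x hc))
  let k : ↥(centralizer ({x} : Set G)) := ⟨c⁻¹, hcx⟩
  have hmove : ∀ {u : G} {l : Equiv.Perm (Fin 112)}, A₀.Img u l → (A₀.conj k).Img (c * u * c⁻¹) l :=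
    fun {u l} h => Act.conj_img (by
      rwa [show (k : G) * (c * u * c⁻¹) * (k : G)⁻¹ = u by show c⁻¹ * _ * c⁻¹⁻¹ = u; group])
  have hconj2 : ∀ {u : G}, u * u = 1 → c * u * c⁻¹ * (c * u * c⁻¹) = 1 := fun {u} h => by
    rw [show c * u * c⁻¹ * (c * u * c⁻¹) = c * (u * u) * c⁻¹ by group, h, mul_one, mul_inv_cancel]
  refine ⟨A₀.conj k, c * f * c⁻¹, c * g * c⁻¹, ?_, hmove hfi, hmove hgi, S.conj_mem hcz hfQ, S.conj_mem hcz hgQ,
    hconj2 hf2, hconj2 hg2, ?_, ?_⟩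
  · have := hmove hA₀
    rwa [hcz, mul_inv_cancel_right] at this
  · rw [S.conj c hcz f hfQ, hcρ, hp1]
  · rw [S.conj c hcz g hgQ, hcρ, hp2]

/-- The configuration. -/
structure Sys (z : G) (Q : Subgroup G) (π : G → V) (ρ : G → V → V) (x f g g' c d b h : G) : Prop where
  Z : Fy z Q π ρ x
  D : Quad z Q π ρ f g g'
  xC : Cen z f g g' x
  dC : Cen z f g g' d
  dρ : ρ d = dl
  dd : d * d = 1
  dx : d * x * d⁻¹ = x⁻¹
  cQ : c ∈ Q
  cv : π c = e1 ∨ π c = f1
  cc : c * c = 1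
  cx : c * x = x * c
  cf : c * f = f * c
  cg : c * g = g * c
  bb : b * b = 1
  hh : h * h = 1
  hx : h * x = x * h
  bd : b * d = d * b
  hd : h * d = d * h
  hg : h * g = g * h
  hz : h * z * h = g * z
  fh : f * h * (f * h) * (f * h) = 1
  zb5 : (z * b) ^ 5 = 1
  bc3 : (b * c) ^ 3 = 1
  bf3 : (b * f) ^ 3 = 1
  bg3 : (b * g) ^ 3 = 1
  beq : (f * g' * h * g' * g * h) ^ 3 = b
  w1 : (z * b * c * f) ^ 5 ∈ zpowers x
  w2 : (b * f * g) ^ 5 ∈ zpowers x
  w3 : (b * c * (d * c * d⁻¹)) ^ 5 ∈ zpowers x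

theorem exists_sys (Z : Fy z Q π ρ x) (A₀ : Act x) (hA₀ : A₀.Img z (pm 0)) :
    ∃ f g g' c d b h, Sys z Q π ρ x f g g' c d b h := by
  have S := Z.S
  have hx3 := Z.pow_three
  obtain ⟨A, f, g, hA, hfi, hgi, hfQ, hgQ, hf2, hg2, hπf, hπg⟩ := exists_norm Z A₀ hA₀
  have hz2 : z * z = 1 := S.loc.sq
  obtain ⟨hs0, -, hs6, -, -, -, h6z, -, -, -, -⟩ := rels_flat 0
  obtain ⟨h56, h64, h34, h35, -⟩ := rels_pow 0
  obtain ⟨g', hg'2, hg'i⟩ := Act.exists_invol (A := A) hx3 (k := 6) (sq_rel hs6)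
  have hg'f : g' * f = f * g' :=
    comm_of_sq hg'2 hf2 (Act.rel_lift hx3 hg'i hfi hg'2 hf2 (pair_rel (j := 6) (k := 4) h64))
  have hfz : f * z = z * f := S.Qz hfQ
  have hg'z : g' * z * g' = f * z := by
    have he : pm 6 * pm 0 * pm 6 = pm 4 * pm 0 := by
      have e1 : pm 6 * (pm 0 * (pm 6 * (pm 0 * pm 4))) = 1 := by
        have := pw_rel h6z
        simp only [pw, List.map_cons, List.map_nil, List.prod_cons, List.prod_nil, mul_one] at this
        exact this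
      have e2 : (pm 0)⁻¹ = pm 0 := inv_eq_of_mul_eq_one_right (sq_rel hs0)
      have e3 : (pm 4)⁻¹ = pm 4 := inv_eq_of_mul_eq_one_right (sq_rel (rels_flat 0).2.2.2.2.2.2.2.2.2.1)
      calc pm 6 * pm 0 * pm 6 = pm 6 * (pm 0 * (pm 6 * (pm 0 * pm 4))) * ((pm 4)⁻¹ * (pm 0)⁻¹) := by group
        _ = pm 4 * pm 0 := by rw [e1, one_mul, e2, e3]
    have h1 := (hg'i.mul hA).mul hg'i
    rw [he] at h1
    refine Act.invol_ext hx3 h1 (hfi.mul hA) ?_ ?_
    · rw [show g' * z * g' * (g' * z * g') = g' * (z * (g' * g') * z) * g' by group, hg'2, mul_one, hz2, mul_one, hg'2]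
    · rw [(show Commute z f from hfz.symm).mul_mul_mul_comm, hf2, hz2, one_mul]
  have hthree : g * g' * (g * g') * (g * g') = 1 := by
    have := Act.rel_lift hx3 hgi hg'i hg2 hg'2 (pair_rel (j := 5) (k := 6) h56)
    rwa [pow_succ, pow_two] at this
  have D : Quad z Q π ρ f g g' := ⟨S, hfQ, hπf, hgQ, hπg, hg2, hg'2, hg'f, hg'z, hthree⟩
  have xC : Cen z f g g' x := ⟨Z.hz, hfi.comm.symm, hgi.comm.symm, hg'i.comm.symm⟩
  obtain ⟨hqa2, hd0, hdf0, hde1, hdf1, hb11, hdd, hdrot, -, hr0, hrf0⟩ := dl_facts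
  obtain ⟨d, dC, dρ⟩ := D.exists_cen isOm_dl hd0 hdf0
  have dd : d * d = 1 := D.eq_one (dC.mul dC) fun v => by rw [S.rho_mul dC.cz dC.cz, dρ, hdd]
  have dinv : d⁻¹ = d := inv_eq_of_mul_eq_one_right dd
  have dx : d * x * d⁻¹ = x⁻¹ := by
    refine D.ext ((dC.mul xC).mul dC.inv) xC.inv (funext fun v => ?_)
    rw [dinv, S.rho_mul (dC.mul xC).cz dC.cz, S.rho_mul dC.cz xC.cz, dρ, Z.rho, hdrot, ← Z.rho, ← Z.rho,
      ← S.rho_mul xC.cz xC.cz, show x * x = x⁻¹ from (inv_eq_of_mul_eq_one_right (by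
        rw [← mul_assoc, ← pow_two, ← pow_succ, hx3])).symm]
  -- the third involution
  obtain ⟨c, hcU, hc2, hci⟩ := exists_U3 Z hA 3 (by decide)
  obtain ⟨hcQ, hcP⟩ := Z.mem_U.1 hcU
  have hcf : c * f = f * c :=
    comm_of_sq hc2 hf2 (Act.rel_lift hx3 hci hfi hc2 hf2 (pair_rel (j := 3) (k := 4) h34))
  have hcg : c * g = g * c :=
    comm_of_sq hc2 hg2 (Act.rel_lift hx3 hci hgi hc2 hg2 (pair_rel (j := 3) (k := 5) h35))
  have cv : π c = e1 ∨ π c = f1 := by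
    refine third_cases _ hcP ?_ ?_ ?_ ?_
    · have h := S.sq c hcQ
      rw [hc2] at h
      rcases F_cases (q (π c)) with e | e
      · exact e
      · rw [e, zb_one] at h
        exact absurd h.symm S.loc.ne_one
    · intro e
      rcases (S.pi_eq c hcQ).1 e with e' | e'
      · exact (pm_ne 3 (by decide)).1 (Act.img_unique hci (e' ▸ Act.img_one))
      · exact (pm_ne 3 (by decide)).2 (Act.img_unique hci (e' ▸ hA))
    · rw [← hπf]; exact (S.comm_iff hcQ hfQ).1 hcf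
    · rw [← hπg]; exact (S.comm_iff hcQ hgQ).1 hcg
  have hbc : bil (π c) (π (d * c * d⁻¹)) = 1 := by
    rw [S.conj d dC.cz c hcQ, dρ]
    rcases cv with e | e <;> rw [e]
    · rw [hde1]; exact hb11
    · rw [hdf1, bil_comm]; exact hb11
  -- the outer automorphism
  obtain ⟨σ, hσ, hσi⟩ := A.exists_sigma dx
  have hss : ∀ k : Fin 15, ∀ y, σ (σ (pm k y)) = pm k (σ (σ y)) := by
    intro k y
    obtain ⟨⟨u, hu⟩, hp⟩ := A.surj _ (pm_mem k)
    have hi0 : A.Img u (pm k) := ⟨hu, hp⟩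
    have h1 := hσi _ _ (hσi _ _ hi0)
    rw [show d * (d * u * d⁻¹) * d⁻¹ = d * d * u * (d * d)⁻¹ by group, dd, one_mul, inv_one, mul_one] at h1
    have h2 := Act.img_unique hi0 h1
    have h3 : σ * σ * pm k = pm k * (σ * σ) := by
      conv_rhs => rw [h2]
      group
    exact congrArg (fun p : Equiv.Perm (Fin 112) => p y) h3
  have hcom : ∀ {u : G} {k : Fin 15}, A.Img u (pm k) → d * u = u * d → σ * pm k = pm k * σ := by
    intro u k hi0 hdu
    have h1 := hσi _ _ hi0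
    rw [hdu, mul_inv_cancel_right] at h1
    exact mul_inv_eq_iff_eq_mul.1 (Act.img_unique h1 hi0)
  have e4 := hcom hfi dC.cf
  have e5 := hcom hgi dC.cg
  have e6 := hcom hg'i dC.cg'
  have hmp : ∀ (k : Fin 15), σ * pm k = pm k * σ → ∀ y, σ (mp k y) = mp k (σ y) := fun k e y => by
    rw [← pm_apply, ← pm_apply]
    exact congrArg (fun p : Equiv.Perm (Fin 112) => p y) e
  obtain ⟨i, hσd⟩ := classify hσ
    (fun k hk y => by
      rcases hk with rfl | rfl
      · have := hss 1 y; rw [pm_apply, pm_apply] at this; exact this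
      · have := hss 3 y; rw [pm_apply, pm_apply] at this; exact this)
    (fun k hk y => by
      rcases hk with rfl | rfl | rfl
      · exact hmp 4 e4 y
      · exact hmp 5 e5 y
      · exact hmp 6 e6 y)
    (by
      by_contra hne
      push Not at hne
      have hall : pm 3 * σ * pm 3 * σ = σ * pm 3 * σ * pm 3 := Equiv.ext fun y => by
        simp only [Equiv.Perm.mul_apply, pm_apply]
        exact hne y
      have hs : σ * σ * pm 3 = pm 3 * (σ * σ) := Equiv.ext (hss 3)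
      have hcomm : pm 3 * (σ * pm 3 * σ⁻¹) = σ * pm 3 * σ⁻¹ * pm 3 := by
        calc pm 3 * (σ * pm 3 * σ⁻¹) = pm 3 * σ * pm 3 * σ * (σ * σ)⁻¹ := by group
          _ = σ * pm 3 * σ * (pm 3 * (σ * σ)⁻¹) := by rw [hall]; group
          _ = σ * pm 3 * σ * ((σ * σ)⁻¹ * pm 3) := by rw [(show Commute (σ * σ) (pm 3) from hs).inv_left.eq]
          _ = σ * pm 3 * σ⁻¹ * pm 3 := by group
      have hc' := hσi _ _ hci
      have h1 := (hci.mul hc').mul ((hc'.mul hci).inv)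
      rw [hcomm, mul_inv_cancel] at h1
      rw [show c * (d * c * d⁻¹) * (d * c * d⁻¹ * c)⁻¹ = z by
        rw [S.rule hcQ (S.conj_mem dC.cz hcQ), hbc, zb_one,
          (show Commute (d * c * d⁻¹ * c) z from ((S.Qz (Q.mul_mem (S.conj_mem dC.cz hcQ) hcQ)))).eq,
          mul_inv_cancel_right]] at h1
      exact z_nmem Z (Act.mem_of_img h1))
  have hσ2 : σ * σ = 1 := Equiv.ext fun y => by
    show σ (σ y) = y
    rw [hσd, hσd, (dp_comm i y).1]
  have σinv : σ⁻¹ = σ := inv_eq_of_mul_eq_one_right hσ2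
  obtain ⟨-, -, -, hsb, hsh, -, -, hhz, hword, -, -⟩ := rels_flat i
  obtain ⟨-, -, -, -, hfh, hgh, hzb, hbc3, hbf, hbg, hw1, hw2⟩ := rels_pow i
  obtain ⟨b, hb2, hbi⟩ := Act.exists_invol (A := A) hx3 (sq_rel hsb)
  obtain ⟨h, hh2, hhi⟩ := Act.exists_invol (A := A) hx3 (sq_rel hsh)
  have hfix : ∀ {u : G} {k : Fin 15}, A.Img u (pm k) → u * u = 1 → (∀ y, dp i (mp k y) = mp k (dp i y)) →
      u * d = d * u := by
    intro u k hi0 hu2 hdp
    have he : σ * pm k * σ⁻¹ = pm k := mul_inv_eq_iff_eq_mul.2 (Equiv.ext fun y => by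
      simp only [Equiv.Perm.mul_apply, pm_apply, hσd]
      exact hdp y)
    have h1 := hσi _ _ hi0
    rw [he] at h1
    have := Act.invol_ext hx3 h1 hi0 (by
      rw [show d * u * d⁻¹ * (d * u * d⁻¹) = d * (u * u) * d⁻¹ by group, hu2, mul_one, mul_inv_cancel]) hu2
    exact (mul_inv_eq_iff_eq_mul.1 this).symm
  have hbd := hfix hbi hb2 fun y => (dp_comm i y).2.2.2.2.1
  have hhd := hfix hhi hh2 fun y => (dp_comm i y).2.2.2.2.2
  have lift5 : ∀ {u : G} {p : Equiv.Perm (Fin 112)}, A.Img u p → p ^ 5 = 1 → u ^ 5 ∈ zpowers x :=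
    fun {u p} hu hp => Act.mem_of_img (hp ▸ hu.pow 5)
  refine ⟨f, g, g', c, d, b, h, Z, D, xC, dC, dρ, dd, dx, hcQ, cv, hc2, mem_centralizer_singleton_iff.1 hcU.2,
    hcf, hcg, hb2, hh2, hhi.comm, hbd, hhd,
    (comm_of_sq hg2 hh2 (Act.rel_lift hx3 hgi hhi hg2 hh2 (pair_rel (j := 5) hgh))).symm, ?_, ?_, Act.rel_lift hx3 hA hbi hz2 hb2 (pair_rel (j := 0) hzb),
    Act.rel_lift hx3 hbi hci hb2 hc2 (pair_rel (k := 3) hbc3),
    Act.rel_lift hx3 hbi hfi hb2 hf2 (pair_rel (k := 4) hbf),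
    Act.rel_lift hx3 hbi hgi hb2 hg2 (pair_rel (k := 5) hbg), ?_, ?_, ?_, ?_⟩
  · have he : pm (hi i) * pm 0 * pm (hi i) = pm 5 * pm 0 := by
      have e1 : pm (hi i) * (pm 0 * (pm (hi i) * (pm 0 * pm 5))) = 1 := by
        have := pw_rel hhz
        simp only [pw, List.map_cons, List.map_nil, List.prod_cons, List.prod_nil, mul_one,
          Fin.ofNat_val_eq_self] at this
        exact this
      have e2 : (pm 0)⁻¹ = pm 0 := inv_eq_of_mul_eq_one_right (sq_rel hs0)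
      have e3 : (pm 5)⁻¹ = pm 5 := inv_eq_of_mul_eq_one_right (sq_rel (rels_flat 0).2.2.2.2.2.2.2.2.2.2)
      calc pm (hi i) * pm 0 * pm (hi i)
          = pm (hi i) * (pm 0 * (pm (hi i) * (pm 0 * pm 5))) * ((pm 5)⁻¹ * (pm 0)⁻¹) := by group
        _ = pm 5 * pm 0 := by rw [e1, one_mul, e2, e3]
    have h1 := (hhi.mul hA).mul hhi
    rw [he] at h1
    refine Act.invol_ext hx3 h1 (hgi.mul hA) ?_ ?_
    · rw [show h * z * h * (h * z * h) = h * (z * (h * h) * z) * h by group, hh2, mul_one, hz2, mul_one, hh2]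
    · rw [(show Commute z g from (S.Qz hgQ).symm).mul_mul_mul_comm, hg2, hz2, one_mul]
  · have h1 := Act.rel_lift hx3 hfi hhi hf2 hh2 (pair_rel (j := 4) hfh)
    rwa [pow_succ, pow_two] at h1
  · have e1 : pm 4 * (pm 6 * (pm (hi i) * (pm 6 * (pm 5 * (pm (hi i) * pm (bi i)))))) = 1 := by
      have := pw_rel hword
      simp only [pw, List.map_cons, List.map_nil, List.prod_cons, List.prod_nil, mul_one,
        Fin.ofNat_val_eq_self] at this
      exact this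
    have h1 := ((((hfi.mul hg'i).mul hhi).mul hg'i).mul hgi).mul hhi
    have h2 := h1.mul hbi
    rw [show pm 4 * pm 6 * pm (hi i) * pm 6 * pm 5 * pm (hi i) * pm (bi i) = 1 by
      rw [← e1]; simp only [mul_assoc]] at h2
    have ht := Act.mem_of_img h2
    set y := f * g' * h * g' * g * h with hy
    set t := y * b with htd
    have hy' : y = t * b := by rw [htd, mul_assoc, hb2, mul_one]
    have htb : Commute t b := (Act.comm_zpowers hbi.comm ht).symm
    rw [hy', htb.mul_pow, Act.pow_three_mem hx3 ht, one_mul, pow_succ, pow_two, hb2, one_mul]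
  · refine lift5 (((hA.mul hbi).mul hci).mul hfi) ?_
    have := pow_rel hw1
    simp only [pw, List.map_cons, List.map_nil, List.prod_cons, List.prod_nil, mul_one,
      Fin.ofNat_val_eq_self] at this
    rw [mul_assoc, mul_assoc]
    exact this
  · refine lift5 ((hbi.mul hfi).mul hgi) ?_
    have := pow_rel hw2
    simp only [pw, List.map_cons, List.map_nil, List.prod_cons, List.prod_nil, mul_one,
      Fin.ofNat_val_eq_self] at this
    rw [mul_assoc]
    exact this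
  · refine lift5 ((hbi.mul hci).mul (hσi _ _ hci)) (Equiv.ext fun y => ?_)
    have h5 := five_ok i
    simp only [fiveOK, List.all_eq_true, Nat.beq_eq] at h5
    rw [Equiv.Perm.coe_pow, Equiv.Perm.one_apply]
    refine Eq.trans ?_ (Fin.ext (h5 y (List.mem_finRange _)))
    refine congrArg (fun k : Fin 112 → Fin 112 => k^[5] y) (funext fun u => ?_)
    simp only [Equiv.Perm.mul_apply, pm_apply, σinv, hσd]
    rfl

end Cfsg.Agent.SuzHom
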