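import Cfsg.Agent.Lib.SuzHom.CollapseData
import Cfsg.Agent.Lib.Compute.CosetBound

/-!
In a group with the relators of the Suzuki group, the last one replaced by `(bcdcd)⁵ = 1`, the generator `a` is trivial.
-/

set_option autoImplicit false
set_option maxRecDepth 100000

namespace Cfsg.Agent.SuzHom

open Cfsg.Agent.CosetCert

theorem collapse_fix : tact CollapseData.P [3, 2, 3] 0 = 0 ∧ CollapseData.P.k = 7 ∧
    CollapseData.subs = [[0], [1], [2], [5], [6]] := by decide +kernel

/-- The collapse. -/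
theorem collapse {G : Type*} [Group G] (gen : ℕ → G) (hinv : ∀ x, gen x * gen x = 1)
    (hbase : ∀ w ∈ CollapseData.base, wprod gen w = 1) : gen 0 = 1 := by
  set X := Subgroup.closure (gen '' {x | x < 7}) with hX
  let gn : ℕ → X := fun x => if h : x < 7 then ⟨gen x, Subgroup.subset_closure ⟨x, h, rfl⟩⟩ else 1
  have hgn : ∀ x, x < 7 → (gn x : G) = gen x := fun x hx => by simp only [gn, dif_pos hx]
  have hwp : ∀ w : List ℕ, (∀ x ∈ w, x < 7) → ((wprod gn w : X) : G) = wprod gen w := by
    intro w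
    induction w with
    | nil => simp [wprod]
    | cons a w ih =>
      intro h
      simp only [wprod, List.map_cons, List.prod_cons, Subgroup.coe_mul, hgn a (h a List.mem_cons_self)] at ih ⊢
      rw [ih fun x hx => h x (List.mem_cons_of_mem _ hx)]
  have hgi : ∀ x, gn x * gn x = 1 := fun x => by
    by_cases h : x < 7
    · exact Subtype.ext (by rw [Subgroup.coe_mul, hgn x h]; exact hinv x)
    · simp only [gn, dif_neg h, mul_one]
  have hgen : Subgroup.closure (gn '' {x | x < CollapseData.P.k}) = ⊤ := by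
    rw [collapse_fix.2.1]
    refine eq_top_iff.2 ((Subgroup.closure_closure_coe_preimage (k := gen '' {x | x < 7})).symm.trans_le
      (Subgroup.closure_mono ?_))
    rintro ⟨g, hg⟩ ⟨x, hx, rfl⟩
    exact ⟨x, hx, Subtype.ext (hgn x hx)⟩
  have hlt : ∀ w ∈ CollapseData.base, ∀ x ∈ w, x < 7 := by
    have : (CollapseData.base.all fun w => w.all fun x => Nat.blt x 7) = true := by decide +kernel
    intro w hw x hx
    exact Nat.blt_eq ▸ List.all_eq_true.1 (List.all_eq_true.1 this w hw) x hx
  set H : Subgroup X := Subgroup.closure {gn 0, gn 1, gn 2, gn 5, gn 6} with hH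
  obtain ⟨-, -, hmem⟩ := index_bound (P := CollapseData.P) (H := H) hgi hgen (base := CollapseData.base)
    (fun w hw => Subtype.ext ((hwp w (hlt w hw)).trans (hbase w hw))) CollapseData.rots_ok
    (fun w hw => by
      have hw' : w ∈ ([[0], [1], [2], [5], [6]] : List (List ℕ)) := collapse_fix.2.2 ▸ hw
      simp only [List.mem_cons, List.not_mem_nil, or_false] at hw'
      rcases hw' with rfl | rfl | rfl | rfl | rfl <;> simp only [wprod, List.map_cons, List.map_nil,
        List.prod_cons, List.prod_nil, mul_one] <;> exact Subgroup.subset_closure (by simp))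
    CollapseData.cert_ok CollapseData.tab_ok (by norm_num)
  have h323 := hmem [3, 2, 3] (by decide +kernel) collapse_fix.1
  have hr : ∀ w : List ℕ, w ∈ CollapseData.base → wprod gn w = 1 := fun w hw =>
    Subtype.ext ((hwp w (hlt w hw)).trans (hbase w hw))
  -- `gn 4` centralises `H`
  have hc : ∀ u ∈ H, gn 4 * u = u * gn 4 := by
    intro u hu
    have hle : H ≤ Subgroup.centralizer {gn 4} := by
      rw [hH, Subgroup.closure_le]
      intro v hv
      simp only [Set.mem_insert_iff, Set.mem_singleton_iff] at hv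
      rw [SetLike.mem_coe, Subgroup.mem_centralizer_singleton_iff]
      have comm : ∀ i, [i, 4, i, 4] ∈ CollapseData.base ∨ [4, i, 4, i] ∈ CollapseData.base → gn i * gn 4 = gn 4 * gn i := by
        intro i hi
        have hh : gn i * gn 4 * (gn i * gn 4) = 1 ∨ gn 4 * gn i * (gn 4 * gn i) = 1 := by
          rcases hi with h | h
          · exact Or.inl (by simpa [wprod, mul_assoc] using hr _ h)
          · exact Or.inr (by simpa [wprod, mul_assoc] using hr _ h)
        have e4 : (gn 4)⁻¹ = gn 4 := inv_eq_of_mul_eq_one_right (hgi 4)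
        have ei : (gn i)⁻¹ = gn i := inv_eq_of_mul_eq_one_right (hgi i)
        rcases hh with h | h
        · rw [mul_eq_one_iff_eq_inv, mul_inv_rev, e4, ei] at h; exact h
        · rw [mul_eq_one_iff_eq_inv, mul_inv_rev, e4, ei] at h; exact h.symm
      rcases hv with rfl | rfl | rfl | rfl | rfl <;> exact comm _ (by decide +kernel)
    exact (Subgroup.mem_centralizer_singleton_iff.1 (hle hu)).symm
  have h3 : gn 3 * gn 4 * (gn 3 * gn 4) * (gn 3 * gn 4) = 1 := by
    have := hr [3, 4, 3, 4, 3, 4] (by decide +kernel)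
    simpa [wprod, mul_assoc] using this
  have h8 : gn 0 = (gn 2 * gn 3) ^ 4 := by
    have := hr [0, 3, 2, 3, 2, 3, 2, 3, 2] (by decide +kernel)
    have e : gn 0 * ((gn 2 * gn 3) ^ 4)⁻¹ = 1 := by
      rw [← inv_pow, mul_inv_rev, inv_eq_of_mul_eq_one_right (hgi 2), inv_eq_of_mul_eq_one_right (hgi 3)]
      simpa [wprod, pow_succ, mul_assoc] using this
    exact mul_inv_eq_one.1 e
  have e3 : (gn 3)⁻¹ = gn 3 := inv_eq_of_mul_eq_one_right (hgi 3)
  have e4 : (gn 4)⁻¹ = gn 4 := inv_eq_of_mul_eq_one_right (hgi 4)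
  set c' := gn 3 * gn 2 * gn 3 with hc'
  have hc'H : c' ∈ H := by
    have : wprod gn [3, 2, 3] = c' := by simp [wprod, hc', mul_assoc]
    exact this ▸ h323
  have h1 := hc c' hc'H
  have h2 := hc (gn 2) (Subgroup.subset_closure (by simp))
  -- conjugation by `gn 3` fixes `gn 2`
  have key : gn 3 * gn 2 * gn 3 = gn 2 := by
    have h6 : gn 3 * gn 4 * gn 3 = gn 4 * gn 3 * gn 4 := by
      have := mul_eq_one_iff_eq_inv.1 (show gn 3 * gn 4 * gn 3 * (gn 4 * gn 3 * gn 4) = 1 by
        simpa only [mul_assoc] using h3)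
      rw [this, mul_inv_rev, mul_inv_rev, e3, e4, mul_assoc]
    have h7 : c' = gn 4 * c' * gn 4 := by rw [h1, mul_assoc, hgi 4, mul_one]
    have h9 : gn 4 * gn 2 * gn 4 = gn 2 := by rw [h2, mul_assoc, hgi 4, mul_one]
    calc gn 3 * gn 2 * gn 3 = c' := rfl
      _ = gn 4 * (gn 3 * (gn 4 * gn 2 * gn 4) * gn 3) * gn 4 := by rw [h9]; exact h7
      _ = gn 4 * (gn 3 * gn 4 * gn 2 * (gn 4 * gn 3)) * gn 4 := by group
      _ = (gn 4 * gn 3 * gn 4) * gn 2 * (gn 4 * gn 3 * gn 4) := by group
      _ = gn 3 * (gn 4 * c' * gn 4) * gn 3 := by rw [← h6, hc']; group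
      _ = gn 3 * c' * gn 3 := by rw [← h7]
      _ = gn 2 := by rw [hc']; rw [show gn 3 * (gn 3 * gn 2 * gn 3) * gn 3 = gn 3 * gn 3 * gn 2 * (gn 3 * gn 3) by group, hgi 3, one_mul, mul_one]
  have h10 : gn 0 = 1 := by
    rw [h8, show (4 : ℕ) = 2 * 2 from rfl, pow_mul, pow_two (gn 2 * gn 3),
      show gn 2 * gn 3 * (gn 2 * gn 3) = gn 2 * (gn 3 * gn 2 * gn 3) by group, key, hgi 2, one_pow]
  rw [← hgn 0 (by norm_num), h10, OneMemClass.coe_one]

end Cfsg.Agent.SuzHom
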