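import Cfsg.Agent.Lib.Compute.CosetOrbit

/-! Coset enumeration certificate data (collapse). -/

set_option autoImplicit false
set_option maxRecDepth 100000
set_option Elab.async false

namespace Cfsg.Agent.SuzHom.CollapseData

open Cfsg.Agent.CosetCert

/-- the coset table -/
def tab : Tab :=
  .leaf 0x500050004000300050005000500040004000500020004000400040003000300010005000300030003000200020000000400020002000200010001000300000001000100010000000000020001000000000000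

/-- base relators -/
def base : List (List ℕ) := [
  [0, 1, 0, 1, 0, 1, 0, 1, 0, 1],
  [0, 2, 0, 2],
  [0, 3, 0, 3],
  [0, 4, 0, 4],
  [0, 5, 0, 5],
  [0, 6, 0, 6],
  [1, 2, 1, 2, 1, 2],
  [1, 3, 1, 3],
  [1, 4, 1, 4],
  [1, 5, 1, 5, 1, 5],
  [1, 6, 1, 6, 1, 6],
  [2, 3, 2, 3, 2, 3, 2, 3, 2, 3, 2, 3, 2, 3, 2, 3],
  [2, 4, 2, 4],
  [2, 5, 2, 5],
  [2, 6, 2, 6],
  [3, 4, 3, 4, 3, 4],
  [3, 5, 3, 5],
  [3, 6, 3, 6],
  [4, 5, 4, 5],
  [4, 6, 4, 6],
  [5, 6, 5, 6, 5, 6, 5, 6],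
  [0, 3, 2, 3, 2, 3, 2, 3, 2],
  [0, 6, 5, 6, 5],
  [0, 1, 2, 5, 0, 1, 2, 5, 0, 1, 2, 5, 0, 1, 2, 5, 0, 1, 2, 5],
  [1, 5, 6, 1, 5, 6, 1, 5, 6, 1, 5, 6, 1, 5, 6],
  [1, 2, 3, 2, 3, 1, 2, 3, 2, 3, 1, 2, 3, 2, 3, 1, 2, 3, 2, 3, 1, 2, 3, 2, 3]]

/-- rotations of the relators -/
def rots : WTab :=
  (.node (.node (.node (.node (.node (.node (.node (.leaf [0, 1, 0, 1, 0, 1, 0, 1, 0, 1]) (.leaf [5, 0, 6, 5, 6])) (.node (.leaf [3, 5, 3, 5]) (.leaf [0, 1, 0, 1, 0, 1, 0, 1, 0, 1]))) (.node (.node (.leaf [1, 4, 1, 4]) (.leaf [6, 1, 5, 6, 1, 5, 6, 1, 5, 6, 1, 5, 6, 1, 5])) (.node (.leaf [2, 3, 2, 0, 3, 2, 3, 2, 3]) (.leaf [0, 1, 0, 1, 0, 1, 0, 1, 0, 1])))) (.node (.node (.node (.leaf [0, 5, 0, 5]) (.leaf [2, 5, 0, 1, 2, 5, 0, 1, 2, 5, 0, 1, 2, 5, 0, 1, 2, 5, 0, 1])) (.node (.leaf [5, 6, 5, 6, 5, 6, 5, 6]) (.leaf [0, 1, 0, 1, 0, 1, 0, 1, 0, 1]))) (.node (.node (.leaf [2, 4, 2, 4]) (.leaf [3, 1, 2, 3, 2,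 3, 1, 2, 3, 2, 3, 1, 2, 3, 2, 3, 1, 2, 3, 2, 3, 1, 2, 3, 2])) (.node (.leaf [3, 2, 3, 0, 2, 3, 2, 3, 2]) (.leaf [0, 1, 0, 1, 0, 1, 0, 1, 0, 1]))))) (.node (.node (.node (.node (.leaf [0, 3, 0, 3]) (.leaf [6, 0, 5, 6, 5])) (.node (.leaf [4, 5, 4, 5]) (.leaf [0, 1, 0, 1, 0, 1, 0, 1, 0, 1]))) (.node (.node (.leaf [1, 6, 1, 6, 1, 6]) (.leaf [1, 2, 3, 2, 3, 1, 2, 3, 2, 3, 1, 2, 3, 2, 3, 1, 2, 3, 2, 3, 1, 2, 3, 2, 3])) (.node (.leaf [3, 2, 3, 2, 3, 2, 3, 0, 2]) (.leaf [0, 1, 0, 1, 0, 1, 0, 1, 0, 1])))) (.node (.node (.node (.leaf [1, 2, 1, 2, 1, 2]) (.leaf [1, 0, 5, 2, 1, 0, 5, 2, 1, 0, 5, 2, 1, 0, 5, 2, 1, 0, 5, 2])) (.node (.leaf [2, 3, 2, 3, 2, 3, 2, 0, 3]) (.leaf [0, 1, 0, 1, 0, 1, 0, 1, 0, 1]))) (.node (.node (.leaf [2, 6, 2, 6]) (.leaf [2, 1, 3, 2, 3, 2, 1, 3, 2, 3, 2, 1, 3, 2, 3, 2, 1, 3, 2, 3, 2, 1, 3, 2, 3])) (.node (.leaf [0, 6, 5, 6, 5]) (.leaf [0, 1, 0, 1, 0, 1, 0, 1, 0, 1])))))) (.node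 (.node (.node (.node (.node (.leaf [0, 2, 0, 2]) (.leaf [6, 5, 6, 0, 5])) (.node (.leaf [3, 6, 3, 6]) (.leaf [0, 1, 0, 1, 0, 1, 0, 1, 0, 1]))) (.node (.node (.leaf [1, 5, 1, 5, 1, 5]) (.leaf [5, 1, 6, 5, 1, 6, 5, 1, 6, 5, 1, 6, 5, 1, 6])) (.node (.leaf [2, 0, 3, 2, 3, 2, 3, 2, 3]) (.leaf [0, 1, 0, 1, 0, 1, 0, 1, 0, 1])))) (.node (.node (.node (.leaf [0, 6, 0, 6]) (.leaf [5, 2, 1, 0, 5, 2, 1, 0, 5, 2, 1, 0, 5, 2, 1, 0, 5, 2, 1, 0])) (.node (.leaf [0, 3, 2, 3, 2, 3, 2, 3, 2]) (.leaf [0, 1, 0, 1, 0, 1, 0, 1, 0, 1]))) (.node (.node (.leaf [2, 5, 2, 5]) (.leaf [2, 3, 2, 1, 3, 2, 3, 2, 1, 3, 2, 3, 2, 1, 3, 2, 3, 2, 1, 3, 2, 3, 2, 1, 3])) (.node (.leaf [3, 0, 2, 3, 2, 3, 2, 3, 2]) (.leaf [0, 1, 0, 1, 0, 1, 0, 1, 0, 1]))))) (.node (.node (.node (.node (.leaf [0, 4, 0, 4]) (.leaf [0, 1, 2, 5, 0, 1, 2, 5, 0, 1, 2, 5, 0, 1, 2, 5, 0, 1, 2, 5])) (.node (.leaf [4, 6, 4, 6]) (.leaf [0, 1, 0, 1, 0, 1, 0, 1,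 0, 1]))) (.node (.node (.leaf [2, 3, 2, 3, 2, 3, 2, 3, 2, 3, 2, 3, 2, 3, 2, 3]) (.leaf [3, 2, 3, 1, 2, 3, 2, 3, 1, 2, 3, 2, 3, 1, 2, 3, 2, 3, 1, 2, 3, 2, 3, 1, 2])) (.node (.leaf [3, 2, 3, 2, 3, 0, 2, 3, 2]) (.leaf [0, 1, 0, 1, 0, 1, 0, 1, 0, 1])))) (.node (.node (.node (.leaf [1, 3, 1, 3]) (.leaf [1, 5, 6, 1, 5, 6, 1, 5, 6, 1, 5, 6, 1, 5, 6])) (.node (.leaf [2, 3, 2, 3, 2, 0, 3, 2, 3]) (.leaf [0, 1, 0, 1, 0, 1, 0, 1, 0, 1]))) (.node (.node (.leaf [3, 4, 3, 4, 3, 4]) (.leaf [0, 1, 0, 1, 0, 1, 0, 1, 0, 1])) (.node (.leaf [5, 6, 5, 0, 6]) (.leaf [0, 1, 0, 1, 0, 1, 0, 1, 0, 1]))))))) (.node (.node (.node (.node (.node (.node (.leaf [1, 0, 1, 0, 1, 0, 1, 0, 1, 0]) (.leaf [5, 6, 5, 6, 0])) (.node (.leaf [5, 3, 5, 3]) (.leaf [0, 1, 0, 1, 0, 1, 0, 1, 0, 1]))) (.node (.node (.leaf [4, 1, 4, 1]) (.leaf [6, 5, 1, 6, 5, 1, 6, 5, 1, 6, 5, 1, 6, 5, 1])) (.node (.leaf [3, 2, 0, 3, 2, 3, 2, 3, 2]) (.leaf [0,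 1, 0, 1, 0, 1, 0, 1, 0, 1])))) (.node (.node (.node (.leaf [5, 0, 5, 0]) (.leaf [5, 0, 1, 2, 5, 0, 1, 2, 5, 0, 1, 2, 5, 0, 1, 2, 5, 0, 1, 2])) (.node (.leaf [6, 5, 6, 5, 6, 5, 6, 5]) (.leaf [0, 1, 0, 1, 0, 1, 0, 1, 0, 1]))) (.node (.node (.leaf [4, 2, 4, 2]) (.leaf [3, 2, 3, 2, 1, 3, 2, 3, 2, 1, 3, 2, 3, 2, 1, 3, 2, 3, 2, 1, 3, 2, 3, 2, 1])) (.node (.leaf [2, 3, 0, 2, 3, 2, 3, 2, 3]) (.leaf [0, 1, 0, 1, 0, 1, 0, 1, 0, 1]))))) (.node (.node (.node (.node (.leaf [3, 0, 3, 0]) (.leaf [0, 5, 6, 5, 6])) (.node (.leaf [5, 4, 5, 4]) (.leaf [0, 1, 0, 1, 0, 1, 0, 1, 0, 1]))) (.node (.node (.leaf [6, 1, 6, 1, 6, 1]) (.leaf [2, 3, 2, 3, 1, 2, 3, 2, 3, 1, 2, 3, 2, 3, 1, 2, 3, 2, 3, 1, 2, 3, 2, 3, 1])) (.node (.leaf [2, 3, 2, 3, 2, 3, 0, 2, 3]) (.leaf [0, 1, 0, 1, 0, 1, 0, 1, 0, 1])))) (.node (.node (.node (.leaf [2, 1, 2, 1, 2, 1]) (.leaf [0, 5, 2, 1, 0, 5, 2, 1, 0, 5, 2, 1, 0, 5, 2, 1, 0, 5, 2, 1])) (.node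 (.leaf [3, 2, 3, 2, 3, 2, 0, 3, 2]) (.leaf [0, 1, 0, 1, 0, 1, 0, 1, 0, 1]))) (.node (.node (.leaf [6, 2, 6, 2]) (.leaf [1, 3, 2, 3, 2, 1, 3, 2, 3, 2, 1, 3, 2, 3, 2, 1, 3, 2, 3, 2, 1, 3, 2, 3, 2])) (.node (.leaf [6, 5, 6, 5, 0]) (.leaf [0, 1, 0, 1, 0, 1, 0, 1, 0, 1])))))) (.node (.node (.node (.node (.node (.leaf [2, 0, 2, 0]) (.leaf [5, 6, 0, 5, 6])) (.node (.leaf [6, 3, 6, 3]) (.leaf [0, 1, 0, 1, 0, 1, 0, 1, 0, 1]))) (.node (.node (.leaf [5, 1, 5, 1, 5, 1]) (.leaf [1, 6, 5, 1, 6, 5, 1, 6, 5, 1, 6, 5, 1, 6, 5])) (.node (.leaf [2, 3, 2, 3, 2, 3, 2, 3, 0]) (.leaf [0, 1, 0, 1, 0, 1, 0, 1, 0, 1])))) (.node (.node (.node (.leaf [6, 0, 6, 0]) (.leaf [2, 1, 0, 5, 2, 1, 0, 5, 2, 1, 0, 5, 2, 1, 0, 5, 2, 1, 0, 5])) (.node (.leaf [3, 2, 3, 2, 3, 2, 3, 2, 0]) (.leaf [0, 1, 0, 1, 0, 1, 0, 1, 0, 1]))) (.node (.node (.leaf [5, 2, 5, 2]) (.leaf [3, 2, 1, 3, 2, 3, 2, 1, 3, 2, 3, 2, 1, 3, 2, 3, 2, 1, 3, 2, 3,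 2, 1, 3, 2])) (.node (.leaf [0, 2, 3, 2, 3, 2, 3, 2, 3]) (.leaf [0, 1, 0, 1, 0, 1, 0, 1, 0, 1]))))) (.node (.node (.node (.node (.leaf [4, 0, 4, 0]) (.leaf [1, 2, 5, 0, 1, 2, 5, 0, 1, 2, 5, 0, 1, 2, 5, 0, 1, 2, 5, 0])) (.node (.leaf [6, 4, 6, 4]) (.leaf [0, 1, 0, 1, 0, 1, 0, 1, 0, 1]))) (.node (.node (.leaf [3, 2, 3, 2, 3, 2, 3, 2, 3, 2, 3, 2, 3, 2, 3, 2]) (.leaf [2, 3, 1, 2, 3, 2, 3, 1, 2, 3, 2, 3, 1, 2, 3, 2, 3, 1, 2, 3, 2, 3, 1, 2, 3])) (.node (.leaf [2, 3, 2, 3, 0, 2, 3, 2, 3]) (.leaf [0, 1, 0, 1, 0, 1, 0, 1, 0, 1])))) (.node (.node (.node (.leaf [3, 1, 3, 1]) (.leaf [5, 6, 1, 5, 6, 1, 5, 6, 1, 5, 6, 1, 5, 6, 1])) (.node (.leaf [3, 2, 3, 2, 0, 3, 2, 3, 2]) (.leaf [0, 1, 0, 1, 0, 1, 0, 1, 0, 1]))) (.node (.node (.leaf [4, 3, 4, 3, 4, 3]) (.leaf [0, 1, 0, 1, 0, 1, 0, 1, 0, 1])) (.node (.leaf [6, 5, 0, 6, 5]) (.leaf [0, 1, 0, 1, 0, 1, 0, 1, 0, 1]))))))))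

def hints_0 : List (ℕ × ℕ × Bool) := [
  (0, 0, false), (22, 4, false), (16, 0, false), (0, 0, false), (8, 0, false), (24, 2, false), (21, 6, false), (0, 0, false),
  (4, 0, false), (23, 2, false), (20, 0, false), (0, 0, false), (12, 0, false), (25, 4, false), (21, 5, true), (0, 0, false),
  (2, 0, false), (22, 3, true), (18, 0, false), (0, 0, false), (10, 0, false), (25, 0, false), (21, 1, true), (0, 0, false),
  (6, 0, false), (23, 2, true), (21, 2, false), (0, 0, false), (14, 0, false), (25, 3, true), (22, 0, false), (0, 0, false),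
  (1, 0, false), (22, 1, true), (17, 0, false), (0, 0, false), (9, 0, false), (24, 1, true), (21, 8, false), (0, 0, false),
  (5, 0, false), (23, 0, true), (21, 0, false), (0, 0, false), (13, 0, false), (25, 1, true), (21, 7, true), (0, 0, false),
  (3, 0, false), (23, 0, false), (19, 0, false), (0, 0, false), (11, 0, false), (25, 2, false), (21, 3, true), (0, 0, false),
  (7, 0, false), (24, 0, false), (21, 4, false), (0, 0, false), (15, 0, false), (0, 0, false), (22, 2, false), (0, 0, false),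
  (0, 1, false), (22, 0, true), (16, 1, false), (0, 0, false), (8, 1, false), (24, 0, true), (21, 7, false), (0, 0, false),
  (4, 1, false), (23, 3, false), (20, 1, false), (0, 0, false), (12, 1, false), (25, 0, true), (21, 6, true), (0, 0, false),
  (2, 1, false), (22, 4, true), (18, 1, false), (0, 0, false), (10, 1, false), (25, 1, false), (21, 2, true), (0, 0, false),
  (6, 1, false), (23, 3, true), (21, 3, false), (0, 0, false), (14, 1, false), (25, 4, true), (22, 1, false), (0, 0, false),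
  (1, 1, false), (22, 2, true), (17, 1, false), (0, 0, false), (9, 1, false), (24, 2, true), (21, 0, true), (0, 0, false),
  (5, 1, false), (23, 1, true), (21, 1, false), (0, 0, false), (13, 1, false), (25, 2, true), (21, 8, true), (0, 0, false),
  (3, 1, false), (23, 1, false), (19, 1, false), (0, 0, false), (11, 1, false), (25, 3, false), (21, 4, true), (0, 0, false),
  (7, 1, false), (24, 1, false), (21, 5, false), (0, 0, false), (15, 1, false), (0, 0, false), (22, 3, false), (0, 0, false)]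
def hints : List (ℕ × ℕ × Bool) :=
  hints_0

/-- subgroup words -/
def sw : List (List ℕ) := [[0], [1], [2], [5], [6]]

def subs : List (List ℕ) := [[0], [1], [2], [5], [6]]

/-- parameters -/
def P : Params := ⟨tab, 7, rots, subs⟩

def tree_0 : List ℕ := [
  3, 4, 11, 17, 24]
def tree : List ℕ :=
  tree_0

def ph0_0 : List ℕ := [
  2048, 2049, 2050, 2051, 2052, 4130, 8230, 16418,
  12326, 20514, 4128, 8228, 16416, 8257, 16389, 12324,
  4161, 12295, 20485, 20512, 8217, 4111, 8209, 16399,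
  12305, 20495, 16414]

def ph1_0 : List Aux := [
  .node 1 2, .derive 6 [.bwd 0, .edge 0, .fwd 0] [0] (.rel 3), .derive 6 [.bwd 1, .edge 5, .fwd 1] [5] (.rel 26), .derive 6 [.bwd 2, .edge 6, .fwd 2] [6] (.rel 28), .node 3 2, .derive 7 [.bwd 0, .edge 4, .fwd 4] [4] (.rel 24), .derive 7 [.bwd 1, .edge 5, .fwd 1] [5] (.rel 26), .derive 7 [.bwd 2, .edge 6, .fwd 2] [6] (.rel 28),
  .node 4 2, .derive 8 [.bwd 0, .edge 0, .fwd 0] [0] (.rel 3), .node 5 2, .derive 9 [.bwd 0, .edge 0, .fwd 0] [0] (.rel 3), .derive 9 [.bwd 1, .edge 4, .fwd 3] [4] (.rel 24), .derive 9 [.bwd 2, .edge 5, .fwd 2] [5] (.rel 26), .derive 9 [.bwd 3, .edge 6, .fwd 3] [6] (.rel 28), .node 6 1,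
  .derive 10 [.bwd 0, .bwd 15, .edge 1, .fwd 15, .fwd 0] [2] (.rel 12), .node 6 3, .derive 11 [.bwd 0, .bwd 15, .fwd 0] [5] (.rel 32), .derive 11 [.bwd 1, .bwd 17, .bwd 18, .edge 3, .edge 2, .edge 3, .fwd 18, .fwd 1] [2] (.rel 58), .node 7 1, .derive 12 [.bwd 0, .bwd 16, .edge 1, .fwd 16, .fwd 0] [2] (.rel 12), .derive 12 [.bwd 1, .fwd 16, .fwd 6] [4] (.rel 16), .node 7 3,
  .derive 13 [.bwd 0, .bwd 17, .fwd 0] [5] (.rel 32), .derive 13 [.bwd 1, .bwd 17, .fwd 1] [6] (.rel 34), .node 8 1, .derive 14 [.bwd 0, .bwd 18, .edge 1, .fwd 18, .fwd 0] [2] (.rel 12), .node 8 3, .derive 15 [.bwd 0, .bwd 19, .bwd 20, .edge 3, .edge 2, .edge 3, .fwd 20, .fwd 0] [2] (.rel 58), .node 9 1, .derive 16 [.bwd 0, .bwd 20, .edge 1, .fwd 20, .fwd 0] [2] (.rel 12),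
  .derive 16 [.bwd 1, .fwd 19, .fwd 5] [4] (.rel 16), .node 9 3, .derive 17 [.bwd 0, .bwd 20, .fwd 0] [5] (.rel 32), .derive 17 [.bwd 1, .bwd 20, .fwd 1] [6] (.rel 34), .node 10 0, .derive 18 [.bwd 0, .bwd 20, .fwd 0] [2] (.rel 2), .node 10 3, .derive 19 [.bwd 0, .bwd 23, .fwd 21] [1] (.rel 15),
  .node 10 5, .derive 20 [.bwd 0, .bwd 25, .bwd 38, .fwd 25, .fwd 0] [1] (.rel 19), .node 10 6, .derive 21 [.bwd 0, .bwd 27, .bwd 39, .fwd 27, .fwd 0] [1] (.rel 21), .node 11 4, .derive 22 [.bwd 0, .bwd 26, .fwd 0] [5] (.rel 36), .node 12 0, .derive 23 [.bwd 0, .fwd 24, .fwd 10] [4] (.rel 6),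
  .node 12 3, .derive 24 [.bwd 0, .bwd 28, .fwd 25] [1] (.rel 15), .node 12 5, .derive 25 [.bwd 0, .bwd 30, .bwd 44, .fwd 30, .fwd 0] [1] (.rel 19), .derive 25 [.bwd 1, .fwd 29, .fwd 11] [4] (.rel 37), .node 12 6, .derive 26 [.bwd 0, .bwd 33, .bwd 46, .fwd 33, .fwd 0] [1] (.rel 21), .node 13 2,
  .derive 27 [.bwd 0, .bwd 31, .fwd 0] [5] (.rel 26), .derive 27 [.bwd 1, .bwd 31, .fwd 1] [6] (.rel 28), .node 13 4, .derive 28 [.bwd 0, .bwd 35, .fwd 53, .fwd 41, .fwd 14] [3] (.rel 31), .derive 28 [.bwd 1, .bwd 35, .fwd 1] [5] (.rel 36), .node 14 0, .node 14 3, .derive 30 [.bwd 0, .bwd 36, .fwd 34] [1] (.rel 15),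
  .node 15 4, .node 16 0, .derive 32 [.bwd 0, .fwd 33, .fwd 4] [4] (.rel 6), .node 16 3, .derive 33 [.bwd 0, .bwd 37, .fwd 34] [1] (.rel 15), .node 17 2, .derive 34 [.bwd 0, .bwd 35, .fwd 0] [5] (.rel 26), .derive 34 [.bwd 1, .bwd 35, .fwd 1] [6] (.rel 28),
  .derive 34 [.bwd 2, .bwd 38, .bwd 60, .bwd 61, .edge 3, .fwd 67, .fwd 48, .fwd 16] [3] (.rel 57), .node 17 4, .derive 35 [.bwd 0, .bwd 40, .fwd 61, .fwd 45, .fwd 9] [3] (.rel 31), .node 18 1, .node 18 3, .derive 37 [.bwd 0, .bwd 40, .fwd 38] [0] (.rel 5), .node 18 5, .derive 38 [.bwd 0, .bwd 42, .fwd 38] [0] (.rel 9),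
  .derive 38 [.bwd 1, .bwd 42, .fwd 1] [2] (.rel 27), .node 18 6, .node 19 2, .derive 40 [.bwd 0, .fwd 43, .bwd 63, .bwd 43, .fwd 0] [1] (.rel 13), .node 19 4, .node 19 5, .derive 42 [.bwd 0, .bwd 47, .fwd 45] [3] (.rel 33), .node 19 6,
  .derive 43 [.bwd 0, .bwd 49, .fwd 45] [3] (.rel 35), .node 20 6, .derive 44 [.bwd 0, .bwd 10, .bwd 11, .fwd 8] [5] (.rel 68), .node 21 5, .derive 45 [.bwd 0, .bwd 49, .fwd 51, .fwd 2, .fwd 1, .bwd 10, .fwd 13] [6] (.rel 40), .node 23 1, .derive 46 [.bwd 0, .fwd 46, .fwd 18] [4] (.rel 16), .node 23 3,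
  .derive 47 [.bwd 0, .bwd 49, .fwd 47] [0] (.rel 5), .node 23 5, .derive 48 [.bwd 0, .bwd 51, .fwd 47] [0] (.rel 9), .derive 48 [.bwd 1, .fwd 51, .fwd 20] [4] (.rel 37)]
def ph1_1 : List Aux := [
  .node 23 6, .node 24 2, .node 24 4, .derive 51 [.bwd 0, .bwd 54, .fwd 80, .fwd 64, .fwd 18] [3] (.rel 31), .node 24 5, .derive 52 [.bwd 0, .fwd 55, .bwd 80, .bwd 55, .fwd 0] [1] (.rel 19), .derive 52 [.bwd 1, .bwd 57, .fwd 55] [3] (.rel 33), .node 24 6,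
  .derive 53 [.bwd 0, .fwd 58, .bwd 82, .bwd 58, .fwd 0] [1] (.rel 21), .node 25 6, .derive 54 [.bwd 0, .fwd 57, .fwd 20] [4] (.rel 39), .derive 54 [.bwd 1, .bwd 12, .bwd 13, .fwd 10] [5] (.rel 68), .node 26 5, .derive 55 [.bwd 0, .bwd 59, .fwd 62, .fwd 3, .fwd 1, .bwd 12, .fwd 15] [6] (.rel 40), .node 27 1, .node 27 4,
  .derive 57 [.bwd 0, .bwd 59, .fwd 0] [5] (.rel 36), .derive 57 [.bwd 1, .bwd 59, .fwd 1] [6] (.rel 38), .node 29 1, .node 29 3, .derive 59 [.bwd 0, .bwd 58, .fwd 57] [0] (.rel 5), .node 30 2, .derive 60 [.bwd 0, .fwd 58, .bwd 92, .bwd 58, .fwd 0] [1] (.rel 13), .node 32 1,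
  .derive 61 [.bwd 0, .fwd 57, .fwd 5] [4] (.rel 16), .node 32 3, .derive 62 [.bwd 0, .bwd 60, .fwd 58] [0] (.rel 5), .node 33 2, .node 34 1, .derive 64 [.bwd 0, .fwd 56, .fwd 14] [3] (.rel 14), .node 34 4, .derive 65 [.bwd 0, .bwd 60, .fwd 0] [5] (.rel 36),
  .derive 65 [.bwd 1, .bwd 60, .fwd 1] [6] (.rel 38), .node 36 0, .derive 66 [.bwd 0, .bwd 58, .bwd 97, .bwd 118, .bwd 132, .fwd 118, .fwd 97, .fwd 58, .fwd 0] [1] (.rel 0), .node 36 2, .node 36 3, .derive 68 [.bwd 0, .bwd 61, .fwd 60] [1] (.rel 15), .node 36 5, .node 36 6,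
  .node 37 2, .derive 71 [.bwd 0, .fwd 63, .fwd 58] [0] (.rel 3), .node 37 4, .derive 72 [.bwd 0, .fwd 65, .fwd 58] [0] (.rel 7), .node 37 5, .derive 73 [.bwd 0, .fwd 67, .fwd 59] [0] (.rel 9), .derive 73 [.bwd 1, .bwd 69, .fwd 67] [3] (.rel 33), .node 37 6,
  .node 38 1, .node 39 1, .node 40 3, .node 40 4, .derive 78 [.bwd 0, .bwd 69, .fwd 67] [2] (.rel 25), .node 40 5, .derive 79 [.bwd 0, .bwd 71, .fwd 68] [2] (.rel 27), .node 41 5,
  .derive 80 [.bwd 0, .bwd 71, .fwd 70] [4] (.rel 37), .node 41 6, .node 42 6, .derive 82 [.bwd 0, .bwd 13, .bwd 14, .fwd 11] [5] (.rel 68), .node 43 5, .derive 83 [.bwd 0, .bwd 73, .fwd 75, .fwd 2, .fwd 1, .bwd 13, .fwd 16] [6] (.rel 40), .node 44 1, .derive 84 [.bwd 0, .bwd 73, .bwd 121, .fwd 73, .fwd 0] [6] (.rel 20),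
  .node 46 0, .derive 85 [.bwd 0, .fwd 70, .fwd 31] [4] (.rel 6), .node 46 2, .derive 86 [.bwd 0, .fwd 72, .fwd 31] [4] (.rel 24), .node 46 3, .derive 87 [.bwd 0, .bwd 75, .fwd 73] [1] (.rel 15), .node 46 5, .derive 88 [.bwd 0, .fwd 76, .fwd 32] [4] (.rel 37),
  .node 46 6, .node 47 2, .derive 90 [.bwd 0, .fwd 77, .fwd 72] [0] (.rel 3), .node 47 4, .derive 91 [.bwd 0, .fwd 79, .fwd 73] [0] (.rel 7), .derive 91 [.bwd 1, .bwd 81, .fwd 129, .fwd 100, .fwd 34] [3] (.rel 31), .node 47 5, .derive 92 [.bwd 0, .fwd 82, .fwd 74] [0] (.rel 9),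
  .derive 92 [.bwd 1, .bwd 84, .fwd 82] [3] (.rel 33), .node 47 6, .node 48 1, .derive 94 [.bwd 0, .fwd 83, .fwd 34] [4] (.rel 16), .node 49 1, .node 50 1, .derive 96 [.bwd 0, .bwd 84, .fwd 136, .fwd 130, .fwd 71] [2] (.rel 12), .node 50 3,
  .node 50 4, .derive 98 [.bwd 0, .bwd 87, .fwd 86] [2] (.rel 25), .node 50 5, .derive 99 [.bwd 0, .bwd 89, .fwd 86] [2] (.rel 27), .node 50 6, .node 51 5, .derive 101 [.bwd 0, .fwd 90, .fwd 38] [3] (.rel 33), .derive 101 [.bwd 1, .bwd 92, .fwd 90] [4] (.rel 37),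
  .node 51 6, .derive 102 [.bwd 0, .fwd 93, .fwd 39] [3] (.rel 35), .node 52 6, .derive 103 [.bwd 0, .fwd 92, .fwd 89] [3] (.rel 35)]
def ph1_2 : List Aux := [
  .derive 103 [.bwd 1, .bwd 20, .bwd 21, .fwd 18] [5] (.rel 68), .node 53 5, .derive 104 [.bwd 0, .bwd 94, .fwd 97, .fwd 3, .fwd 1, .bwd 20, .fwd 23] [6] (.rel 40), .node 54 1, .derive 105 [.bwd 0, .fwd 93, .fwd 41] [4] (.rel 16), .node 56 0, .node 57 3, .derive 107 [.bwd 0, .bwd 90, .fwd 0] [5] (.rel 32),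
  .derive 107 [.bwd 1, .bwd 90, .fwd 1] [6] (.rel 34), .node 58 0, .node 58 2, .node 58 3, .derive 110 [.bwd 0, .bwd 93, .fwd 92] [1] (.rel 15), .node 59 2, .derive 111 [.bwd 0, .fwd 93, .fwd 92] [0] (.rel 3), .node 59 4,
  .node 60 3, .node 61 0, .derive 114 [.bwd 0, .fwd 93, .fwd 8] [4] (.rel 6), .node 61 2, .derive 115 [.bwd 0, .fwd 95, .fwd 9] [4] (.rel 24), .node 61 3, .derive 116 [.bwd 0, .bwd 98, .fwd 96] [1] (.rel 15), .node 62 2,
  .derive 117 [.bwd 0, .fwd 97, .fwd 96] [0] (.rel 3), .node 62 4, .derive 118 [.bwd 0, .bwd 100, .fwd 159, .fwd 106, .fwd 10] [3] (.rel 31), .node 63 1, .derive 119 [.bwd 0, .bwd 100, .fwd 159, .fwd 158, .fwd 99] [2] (.rel 12), .node 63 3, .node 63 4, .node 64 0,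
  .derive 122 [.bwd 0, .fwd 102, .fwd 26] [3] (.rel 4), .node 64 4, .node 65 3, .derive 124 [.bwd 0, .bwd 104, .fwd 162, .fwd 119, .fwd 28] [4] (.rel 30), .derive 124 [.bwd 1, .bwd 104, .fwd 1] [5] (.rel 32), .derive 124 [.bwd 2, .bwd 104, .fwd 2] [6] (.rel 34), .node 66 3, .node 66 5,
  .derive 126 [.bwd 0, .bwd 106, .fwd 101] [0] (.rel 9), .node 66 6, .node 67 3, .node 67 5, .derive 129 [.bwd 0, .bwd 108, .fwd 105] [2] (.rel 27), .node 68 4, .derive 130 [.bwd 0, .fwd 108, .fwd 103] [1] (.rel 17), .node 68 5,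
  .derive 131 [.bwd 0, .bwd 111, .fwd 109] [3] (.rel 33), .node 69 1, .derive 132 [.bwd 0, .bwd 111, .bwd 174, .fwd 171, .fwd 101] [5] (.rel 18), .node 69 6, .derive 133 [.bwd 0, .bwd 11, .bwd 12, .fwd 10] [5] (.rel 68), .node 70 1, .derive 134 [.bwd 0, .bwd 114, .bwd 178, .fwd 172, .fwd 104] [6] (.rel 20), .node 70 5,
  .derive 135 [.bwd 0, .bwd 116, .fwd 117, .fwd 4, .fwd 3, .bwd 14, .fwd 16] [6] (.rel 40), .node 71 1, .node 71 3, .derive 137 [.bwd 0, .fwd 117, .fwd 108] [0] (.rel 5), .derive 137 [.bwd 1, .fwd 118, .bwd 177, .bwd 221, .bwd 243, .fwd 221, .fwd 177, .fwd 109] [2] (.rel 58), .derive 136 [.bwd 3, .fwd 2, .fwd 0, .bwd 110, .bwd 178, .fwd 221, .bwd 243, .bwd 260, .edge 3, .edge 2, .edge 1, .edge 3, .fwd 260, .fwd 243, .fwd 241, .bwd 221, .bwd 222, .fwd 244, .fwd 222, .fwd 178, .fwd 177, .fwd 110, .bwd 0, .bwd 2, .bwd 120] [] (.rel 93), .derive 136 [.fwd 0] [] (.free), .derive 37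 [.bwd 0, .bwd 5] [1] (.free),
  .derive 68 [.fwd 126, .fwd 0] [] (.free), .derive 71 [.bwd 0] [] (.free), .derive 68 [.bwd 0, .fwd 7] [3] (.free), .derive 36 [.fwd 130, .fwd 0] [] (.free), .derive 137 [.bwd 0] [] (.free), .derive 36 [.bwd 0, .fwd 8] [2] (.free), .derive 67 [.bwd 134, .fwd 0] [] (.free), .derive 77 [.bwd 0] [] (.free),
  .derive 67 [.bwd 0, .bwd 12, .fwd 3] [0] (.free), .derive 66 [.bwd 139, .bwd 0] [] (.free), .derive 67 [.bwd 2, .bwd 123] [3] (.free), .derive 128 [.bwd 32, .fwd 0] [] (.free), .derive 128 [.fwd 0] [] (.free), .derive 67 [.bwd 3] [] (.free), .derive 66 [.bwd 0, .fwd 35, .fwd 1] [3] (.free), .derive 125 [.bwd 40, .fwd 0] [] (.free),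
  .derive 66 [.bwd 2, .bwd 112] [4] (.free), .derive 85 [.fwd 115, .fwd 0] [] (.free), .derive 66 [.bwd 4, .fwd 38] [5] (.free), .derive 126 [.bwd 43, .fwd 0] [] (.free), .derive 129 [.bwd 0] [] (.free), .derive 86 [.bwd 3] [] (.free), .derive 85 [.bwd 0, .bwd 119] [2] (.free), .derive 125 [.fwd 7] [] (.free),
  .derive 130 [.bwd 42, .bwd 22, .bwd 147, .fwd 145] [2] (.rel 25), .derive 131 [.bwd 41, .bwd 23, .bwd 148, .fwd 144] [2] (.rel 27), .derive 79 [.fwd 135, .bwd 144, .bwd 0] [0] (.rel 3), .derive 79 [.fwd 0, .fwd 1, .fwd 144, .fwd 210, .bwd 144, .bwd 1, .fwd 42, .bwd 46, .fwd 6] [3] (.rel 59), .node 72 5, .derive 138 [.bwd 0, .fwd 149, .fwd 137] [0] (.rel 9), .derive 138 [.bwd 1, .bwd 151, .fwd 149] [4] (.rel 37), .node 72 6,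
  .node 73 1, .derive 140 [.bwd 0, .fwd 150, .fwd 148] [3] (.rel 14), .node 75 0, .node 75 2]
def ph1_3 : List Aux := [
  .derive 142 [.bwd 0, .bwd 151, .fwd 220, .bwd 259, .bwd 283, .bwd 284, .bwd 298, .bwd 297, .bwd 299, .edge 1, .edge 0, .edge 5, .fwd 299, .fwd 284, .fwd 263, .fwd 221, .bwd 219, .fwd 151, .fwd 1] [5] (.rel 75), .derive 132 [.fwd 50, .fwd 1, .fwd 0] [2] (.rel 27), .derive 142 [.bwd 2, .fwd 3, .bwd 0] [0] (.rel 3), .node 75 6, .node 76 5, .node 78 3, .node 78 5, .derive 146 [.bwd 0, .bwd 155, .fwd 153] [4] (.rel 37),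
  .node 79 1, .node 79 6, .node 80 6, .derive 149 [.bwd 0, .fwd 154, .fwd 152] [4] (.rel 39), .derive 149 [.bwd 1, .bwd 18, .bwd 19, .fwd 16] [5] (.rel 68), .node 81 5, .derive 150 [.bwd 0, .bwd 156, .fwd 158, .fwd 3, .fwd 1, .bwd 18, .fwd 21] [6] (.rel 40), .node 84 0,
  .derive 151 [.bwd 0, .bwd 152, .fwd 0] [6] (.rel 10), .node 84 5, .derive 152 [.bwd 0, .bwd 155, .fwd 227, .fwd 168, .fwd 13] [1] (.rel 19), .node 85 3, .derive 153 [.bwd 0, .bwd 155, .fwd 151] [0] (.rel 5), .derive 153 [.bwd 1, .fwd 155, .fwd 82, .fwd 33, .fwd 169, .fwd 15] [4] (.rel 30), .node 87 2, .node 87 4,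
  .derive 155 [.bwd 0, .bwd 155, .fwd 229, .fwd 187, .fwd 78] [3] (.rel 31), .node 87 5, .node 87 6, .node 88 1, .derive 158 [.bwd 0, .fwd 156, .fwd 78] [4] (.rel 16), .derive 158 [.bwd 1, .bwd 158, .bwd 235, .fwd 231, .fwd 146] [5] (.rel 18), .node 89 1, .derive 159 [.bwd 0, .bwd 158, .bwd 237, .fwd 230, .fwd 146] [6] (.rel 20),
  .node 89 5, .node 90 1, .node 90 3, .derive 162 [.bwd 0, .fwd 160, .fwd 147] [0] (.rel 5), .derive 162 [.bwd 1, .fwd 161, .bwd 234, .bwd 287, .bwd 314, .fwd 287, .fwd 234, .fwd 148] [2] (.rel 58), .node 90 4, .derive 163 [.bwd 0, .fwd 163, .fwd 149] [0] (.rel 7), .derive 163 [.bwd 1, .bwd 165, .fwd 163] [2] (.rel 25),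
  .node 90 5, .derive 164 [.bwd 0, .fwd 166, .fwd 150] [0] (.rel 9), .derive 164 [.bwd 1, .bwd 168, .fwd 163] [2] (.rel 27), .node 90 6, .node 91 5, .derive 166 [.bwd 0, .fwd 168, .fwd 151] [0] (.rel 9), .derive 166 [.bwd 1, .fwd 168, .fwd 53] [3] (.rel 33), .derive 166 [.bwd 2, .bwd 171, .fwd 168] [4] (.rel 37),
  .node 91 6, .derive 167 [.bwd 0, .bwd 173, .fwd 167] [4] (.rel 39), .node 92 1, .derive 168 [.bwd 0, .fwd 170, .fwd 168] [3] (.rel 14), .node 93 1, .node 94 0, .derive 170 [.bwd 0, .fwd 170, .fwd 55] [4] (.rel 6), .derive 158 [.fwd 26, .fwd 53, .bwd 0] [2] (.rel 25),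
  .node 94 2, .derive 171 [.bwd 0, .fwd 173, .fwd 57] [4] (.rel 24), .derive 171 [.bwd 1, .bwd 28, .fwd 2] [5] (.rel 26), .node 94 6, .node 96 0, .derive 173 [.bwd 0, .fwd 174, .fwd 155] [2] (.rel 2), .node 96 3, .derive 174 [.bwd 0, .bwd 177, .fwd 175] [1] (.rel 15),
  .node 96 4, .derive 175 [.bwd 0, .bwd 179, .fwd 176] [1] (.rel 17), .node 96 5, .node 96 6, .node 97 4, .node 97 5, .derive 179 [.bwd 0, .bwd 182, .fwd 179] [3] (.rel 33), .node 97 6,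
  .derive 180 [.bwd 0, .bwd 184, .fwd 179] [3] (.rel 35), .node 98 3, .node 98 5, .derive 182 [.bwd 0, .bwd 186, .fwd 184] [4] (.rel 37), .node 98 6, .derive 183 [.bwd 0, .bwd 188, .fwd 184] [4] (.rel 39), .node 99 6, .derive 184 [.bwd 0, .fwd 187, .fwd 180] [2] (.rel 29),
  .derive 184 [.bwd 1, .bwd 38, .bwd 39, .fwd 36] [5] (.rel 68), .node 100 5, .derive 185 [.bwd 0, .bwd 189, .fwd 191, .fwd 3, .fwd 1, .bwd 38, .fwd 41] [6] (.rel 40), .node 101 6, .derive 186 [.bwd 0, .fwd 188, .fwd 185] [4] (.rel 39), .derive 186 [.bwd 1, .bwd 39, .bwd 40, .fwd 36] [5] (.rel 68), .node 102 5, .derive 187 [.bwd 0, .bwd 190, .fwd 193, .fwd 3, .fwd 1, .bwd 38, .fwd 42] [6] (.rel 40),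
  .node 103 1, .derive 188 [.bwd 0, .fwd 189, .fwd 185] [3] (.rel 14), .derive 188 [.bwd 1, .bwd 191, .bwd 284, .fwd 191, .fwd 1] [6] (.rel 20), .node 105 0, .derive 189 [.bwd 0, .fwd 187, .fwd 76] [4] (.rel 6), .node 106 1, .node 110 4, .node 111 1,
  .node 111 3, .derive 193 [.bwd 0, .fwd 182, .fwd 180] [0] (.rel 5), .derive 193 [.bwd 1, .fwd 183, .bwd 276, .bwd 335, .bwd 370, .fwd 335, .fwd 276, .fwd 181] [2] (.rel 58), .derive 192 [.bwd 3, .fwd 2, .fwd 0, .bwd 182, .bwd 277, .fwd 335, .bwd 370, .bwd 390, .edge 3, .edge 2, .edge 1, .edge 3, .fwd 390, .fwd 370, .fwd 369, .bwd 335, .bwd 336, .fwd 371, .fwd 336, .fwd 277, .fwd 276, .fwd 182, .bwd 0, .bwd 2, .bwd 185] [] (.rel 93)]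
def ph1_4 : List Aux := [
  .derive 192 [.fwd 0] [] (.free), .derive 59 [.bwd 0, .bwd 5] [1] (.free), .derive 110 [.fwd 189, .fwd 0] [] (.free), .derive 111 [.bwd 0] [] (.free), .derive 110 [.bwd 0, .fwd 7] [3] (.free), .derive 58 [.fwd 193, .fwd 0] [] (.free), .derive 193 [.bwd 0] [] (.free), .derive 58 [.bwd 0, .fwd 8] [2] (.free),
  .derive 109 [.bwd 197, .fwd 0] [] (.free), .derive 113 [.bwd 0] [] (.free), .derive 109 [.bwd 0, .bwd 12, .fwd 3] [0] (.free), .derive 108 [.bwd 201, .bwd 0] [] (.free), .derive 109 [.bwd 0] [] (.free), .derive 108 [.bwd 0, .bwd 192] [4] (.free), .derive 114 [.fwd 195, .fwd 0] [] (.free), .derive 115 [.bwd 0] [] (.free),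
  .derive 114 [.bwd 0, .bwd 196] [2] (.free), .derive 191 [.bwd 22, .bwd 13, .bwd 203, .fwd 201] [2] (.rel 25), .node 114 3, .derive 194 [.bwd 0, .bwd 201, .fwd 197] [0] (.rel 5), .node 116 2, .node 116 4, .derive 196 [.bwd 0, .bwd 200, .fwd 297, .fwd 210, .fwd 27] [3] (.rel 31), .node 117 1,
  .node 117 3, .derive 198 [.bwd 0, .fwd 200, .fwd 195] [0] (.rel 5), .derive 198 [.bwd 1, .fwd 201, .bwd 298, .bwd 358, .bwd 394, .fwd 358, .fwd 298, .fwd 196] [2] (.rel 58), .node 117 4, .derive 199 [.bwd 0, .fwd 203, .fwd 197] [0] (.rel 7), .derive 199 [.bwd 1, .bwd 205, .fwd 203] [2] (.rel 25), .node 119 0, .derive 200 [.bwd 0, .fwd 202, .fwd 199] [2] (.rel 2),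
  .node 119 3, .derive 201 [.bwd 0, .bwd 205, .fwd 203] [1] (.rel 15), .node 119 4, .derive 202 [.bwd 0, .fwd 206, .fwd 201] [2] (.rel 25), .node 119 5, .node 119 6, .node 120 4, .node 121 3,
  .node 122 1, .derive 207 [.bwd 0, .fwd 208, .fwd 47] [3] (.rel 14), .node 126 1, .derive 208 [.bwd 0, .bwd 151, .fwd 134] [3] (.rel 14), .derive 208 [.bwd 1, .bwd 204, .bwd 309, .fwd 204, .fwd 1] [5] (.rel 18), .node 130 5, .derive 209 [.bwd 0, .bwd 200, .fwd 198] [4] (.rel 37), .node 131 1,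
  .derive 210 [.bwd 0, .fwd 199, .fwd 198] [3] (.rel 14), .derive 210 [.bwd 1, .bwd 201, .fwd 311, .fwd 304, .fwd 152] [5] (.rel 18), .node 132 6, .node 134 5, .derive 211 [.bwd 1, .fwd 201, .bwd 303, .bwd 359, .bwd 360, .fwd 408, .bwd 409, .fwd 411, .fwd 410, .fwd 362, .fwd 361, .fwd 302, .bwd 197, .fwd 0] [1] (.rel 81), .node 135 1, .derive 213 [.bwd 0, .bwd 198, .fwd 200, .fwd 2, .bwd 1] [5] (.rel 18), .derive 141 [.bwd 156, .bwd 204, .fwd 4, .bwd 0] [6] (.rel 69),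
  .node 138 1, .derive 214 [.bwd 0, .fwd 162, .fwd 160] [4] (.rel 16), .node 140 0, .derive 215 [.bwd 0, .fwd 161, .fwd 160] [3] (.rel 4), .node 140 6, .node 141 1, .derive 217 [.bwd 0, .fwd 6, .bwd 8, .fwd 205, .fwd 19] [6] (.rel 20), .node 142 3,
  .derive 218 [.bwd 0, .fwd 161, .bwd 15] [0] (.rel 5), .derive 218 [.bwd 1, .fwd 164, .bwd 5] [5] (.rel 32), .node 142 6, .derive 219 [.bwd 0, .fwd 166, .fwd 11, .fwd 12, .bwd 16, .fwd 216, .fwd 163] [5] (.rel 41), .node 145 2, .node 146 1, .derive 221 [.bwd 0, .fwd 162, .fwd 161] [4] (.rel 16), .node 146 6,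
  .node 147 6, .derive 223 [.bwd 0, .bwd 29, .bwd 10] [3] (.rel 35), .derive 215 [.fwd 14, .fwd 12, .bwd 0] [1] (.rel 15), .node 148 1, .derive 224 [.bwd 0, .bwd 166, .fwd 167, .fwd 3, .bwd 1] [6] (.rel 20), .node 151 1, .node 151 5, .derive 226 [.bwd 0, .bwd 162, .bwd 163, .fwd 161] [6] (.rel 67),
  .derive 219 [.bwd 13, .fwd 179, .fwd 18, .fwd 17, .fwd 35, .bwd 37, .bwd 223, .bwd 224, .fwd 226, .fwd 225, .fwd 175, .bwd 161, .bwd 0, .bwd 1, .fwd 2] [] (.rel 81), .derive 225 [.bwd 0] [] (.free), .derive 219 [.bwd 0, .bwd 4] [1] (.free), .node 153 2, .derive 227 [.bwd 0, .fwd 163, .fwd 161] [0] (.rel 3), .derive 227 [.bwd 1, .fwd 163, .fwd 16] [4] (.rel 24), .node 154 1, .derive 228 [.bwd 0, .bwd 164, .fwd 317, .fwd 313, .fwd 153] [2] (.rel 12),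
  .node 154 3, .derive 229 [.bwd 0, .bwd 4, .bwd 5, .bwd 169, .fwd 202, .fwd 320, .fwd 166, .fwd 0] [2] (.rel 58), .node 154 4, .derive 230 [.bwd 0, .bwd 6, .fwd 5] [0] (.rel 7), .derive 230 [.bwd 1, .bwd 169, .fwd 168] [2] (.rel 25), .node 154 5, .node 154 6, .node 156 1,
  .derive 233 [.bwd 0, .bwd 170, .fwd 326, .fwd 317, .fwd 145] [5] (.rel 18), .node 157 1, .derive 234 [.bwd 0, .bwd 171, .fwd 328, .fwd 316, .fwd 145] [6] (.rel 20), .node 157 5]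
def ph1_5 : List Aux := [
  .node 158 6, .node 159 5, .derive 236 [.bwd 1, .fwd 172, .bwd 319, .bwd 388, .bwd 389, .fwd 447, .bwd 448, .fwd 451, .fwd 450, .fwd 392, .fwd 390, .fwd 317, .bwd 170, .fwd 0] [1] (.rel 81), .node 160 1, .derive 238 [.bwd 0, .bwd 171, .fwd 173, .fwd 2, .bwd 1] [5] (.rel 18), .derive 170 [.bwd 151, .bwd 175, .fwd 4, .bwd 0] [6] (.rel 69), .node 161 0, .node 161 3,
  .derive 240 [.bwd 0, .bwd 174, .fwd 173] [1] (.rel 15), .node 161 4, .derive 241 [.bwd 0, .bwd 176, .fwd 172] [1] (.rel 17), .node 161 5, .node 161 6, .node 162 4, .derive 244 [.bwd 0, .fwd 177, .fwd 145] [2] (.rel 25), .node 162 5,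
  .derive 245 [.bwd 0, .fwd 180, .fwd 146] [0] (.rel 9), .node 162 6, .derive 246 [.bwd 0, .fwd 181, .fwd 146] [2] (.rel 29), .derive 246 [.bwd 1, .bwd 184, .fwd 175] [3] (.rel 35), .node 163 3, .derive 247 [.bwd 0, .fwd 182, .fwd 147] [0] (.rel 5), .node 163 5, .derive 248 [.bwd 0, .fwd 184, .fwd 148] [0] (.rel 9),
  .derive 248 [.bwd 1, .fwd 184, .fwd 179] [2] (.rel 27), .node 163 6, .node 166 1, .derive 250 [.bwd 0, .fwd 180, .fwd 70] [3] (.rel 14), .derive 250 [.bwd 1, .fwd 180, .fwd 177] [4] (.rel 16), .node 168 0, .derive 251 [.bwd 0, .fwd 178, .fwd 176] [3] (.rel 4), .node 168 6,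
  .derive 252 [.bwd 0, .fwd 180, .fwd 172] [3] (.rel 35), .node 171 3, .derive 253 [.bwd 0, .fwd 175, .bwd 3] [5] (.rel 32), .node 171 6, .derive 254 [.bwd 0, .fwd 178, .fwd 69] [4] (.rel 39), .derive 254 [.bwd 1, .fwd 178, .fwd 31, .fwd 32, .bwd 36, .fwd 207, .fwd 177] [5] (.rel 41), .derive 189 [.fwd 145, .bwd 55, .bwd 1] [1] (.rel 17), .node 173 1,
  .node 173 3, .derive 256 [.bwd 0, .bwd 180, .fwd 178] [0] (.rel 5), .node 173 4, .derive 257 [.bwd 0, .bwd 182, .fwd 178] [0] (.rel 7), .node 173 5, .derive 258 [.bwd 0, .bwd 184, .fwd 178] [0] (.rel 9), .node 173 6, .node 174 2,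
  .node 174 5, .node 174 6, .derive 262 [.bwd 0, .bwd 187, .fwd 182] [3] (.rel 35), .node 175 3, .derive 263 [.bwd 0, .fwd 186, .fwd 178] [1] (.rel 15), .node 175 5, .node 175 6, .derive 265 [.bwd 0, .bwd 190, .fwd 187] [4] (.rel 39),
  .node 176 6, .derive 266 [.bwd 0, .bwd 11, .bwd 12, .fwd 10] [5] (.rel 68), .node 177 5, .derive 267 [.bwd 0, .bwd 191, .fwd 192, .fwd 2, .fwd 1, .bwd 12, .fwd 14] [6] (.rel 40), .node 178 3, .derive 268 [.bwd 0, .bwd 192, .bwd 373, .fwd 372, .fwd 187] [4] (.rel 30), .node 178 5, .derive 269 [.bwd 0, .bwd 194, .fwd 193] [4] (.rel 37),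
  .node 178 6, .derive 270 [.bwd 0, .bwd 196, .fwd 193] [4] (.rel 39), .node 179 6, .derive 271 [.bwd 0, .bwd 50, .bwd 51, .fwd 49] [5] (.rel 68), .node 180 5, .derive 272 [.bwd 0, .bwd 50, .bwd 1] [2] (.rel 27), .derive 272 [.bwd 1, .bwd 198, .fwd 200, .fwd 3, .fwd 2, .bwd 52, .fwd 54] [6] (.rel 40), .node 181 2,
  .derive 273 [.bwd 0, .bwd 198, .bwd 233, .fwd 232, .fwd 394, .bwd 283, .bwd 247, .bwd 79] [3] (.rel 57), .node 181 5, .derive 274 [.bwd 0, .bwd 200, .fwd 199] [3] (.rel 33), .node 181 6, .derive 275 [.bwd 0, .bwd 202, .fwd 199] [3] (.rel 35), .node 182 6, .derive 276 [.bwd 0, .fwd 202, .fwd 199] [4] (.rel 39), .derive 276 [.bwd 1, .bwd 55, .bwd 56, .fwd 53] [5] (.rel 68),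
  .node 183 5, .derive 277 [.bwd 0, .fwd 203, .fwd 199] [4] (.rel 37), .derive 277 [.bwd 1, .bwd 205, .fwd 207, .fwd 4, .fwd 2, .bwd 56, .fwd 59] [6] (.rel 40), .node 188 0, .derive 278 [.bwd 0, .fwd 194, .fwd 192] [3] (.rel 4), .derive 278 [.bwd 1, .bwd 194, .fwd 1] [6] (.rel 10), .node 190 0, .node 190 2,
  .node 190 5, .node 190 6, .node 194 2, .derive 283 [.bwd 0, .fwd 171, .fwd 170] [0] (.rel 3), .node 195 1, .derive 284 [.bwd 0, .bwd 172, .fwd 370, .fwd 369, .fwd 169] [2] (.rel 12), .node 195 3, .derive 285 [.bwd 0, .bwd 3, .bwd 4, .bwd 176, .fwd 178, .fwd 373, .fwd 174, .fwd 0] [2] (.rel 58),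
  .node 195 4, .derive 286 [.bwd 0, .bwd 176, .fwd 175] [2] (.rel 25), .node 197 3, .derive 287 [.bwd 0, .bwd 175, .fwd 174] [1] (.rel 15)]
def ph1_6 : List Aux := [
  .node 197 4, .node 197 5, .node 197 6, .node 198 4, .derive 291 [.bwd 0, .fwd 178, .fwd 165] [0] (.rel 7), .derive 291 [.bwd 1, .fwd 178, .fwd 166] [2] (.rel 25), .node 200 3, .derive 292 [.bwd 0, .bwd 176, .fwd 174] [0] (.rel 5),
  .node 200 4, .node 200 5, .derive 294 [.bwd 0, .bwd 179, .fwd 173] [0] (.rel 9), .node 200 6, .node 201 2, .node 201 4, .derive 297 [.bwd 0, .fwd 180, .fwd 175] [1] (.rel 17), .node 201 5,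
  .derive 298 [.bwd 0, .bwd 183, .fwd 179] [3] (.rel 33), .node 201 6, .node 202 3, .node 203 6, .derive 301 [.bwd 0, .bwd 9, .bwd 10, .fwd 8] [5] (.rel 68), .node 204 5, .derive 302 [.bwd 0, .bwd 184, .fwd 185, .fwd 2, .fwd 1, .bwd 10, .fwd 12] [6] (.rel 40), .node 205 3,
  .derive 303 [.bwd 0, .bwd 185, .bwd 394, .fwd 393, .fwd 184] [4] (.rel 30), .node 206 2, .derive 304 [.bwd 0, .bwd 186, .bwd 197, .fwd 196, .fwd 399, .bwd 208, .bwd 203, .bwd 28] [3] (.rel 57), .node 207 0, .derive 305 [.bwd 0, .fwd 186, .fwd 41] [3] (.rel 4), .node 207 2, .node 207 5, .node 207 6,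
  .node 209 1, .derive 309 [.bwd 0, .fwd 186, .fwd 185] [4] (.rel 16), .derive 309 [.bwd 1, .bwd 188, .fwd 387, .fwd 341, .fwd 177] [5] (.rel 18), .node 210 6, .derive 310 [.bwd 0, .bwd 171, .fwd 170, .bwd 159] [5] (.rel 68), .node 214 0, .derive 311 [.bwd 0, .fwd 180, .fwd 179] [4] (.rel 6), .node 214 6,
  .node 216 5, .derive 313 [.bwd 0, .bwd 180, .bwd 191, .fwd 5, .fwd 4, .fwd 164, .bwd 175] [6] (.rel 40), .node 218 4, .derive 314 [.bwd 0, .fwd 178, .bwd 9] [0] (.rel 7), .derive 314 [.bwd 1, .fwd 178, .bwd 5] [5] (.rel 36), .node 220 1, .node 220 3, .derive 316 [.bwd 0, .bwd 178, .bwd 341, .fwd 494, .bwd 543, .bwd 457, .fwd 273, .fwd 75, .fwd 74, .fwd 154, .fwd 322, .fwd 358, .bwd 469, .bwd 307, .fwd 126] [2] (.rel 23),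
  .node 220 5, .node 220 6, .node 221 6, .derive 319 [.bwd 0, .fwd 180, .fwd 178] [4] (.rel 39), .derive 311 [.fwd 13, .fwd 177, .bwd 0] [1] (.rel 17), .node 222 1, .derive 320 [.bwd 0, .bwd 182, .fwd 184, .fwd 3, .bwd 1] [6] (.rel 20), .node 227 1,
  .derive 321 [.bwd 0, .fwd 170, .fwd 10] [4] (.rel 16), .derive 283 [.bwd 66, .bwd 238, .bwd 241, .bwd 437, .bwd 533, .fwd 531, .fwd 433, .fwd 232, .fwd 230, .bwd 223, .bwd 224, .fwd 428, .fwd 527, .bwd 470, .bwd 471, .fwd 469, .bwd 320, .bwd 322, .bwd 483, .bwd 487, .bwd 488, .bwd 370, .fwd 337, .fwd 173, .fwd 1] [3] (.rel 90), .derive 321 [.bwd 0, .fwd 66, .fwd 63] [0] (.rel 5), .node 227 3, .derive 322 [.bwd 0, .fwd 175, .fwd 171] [0] (.rel 5), .node 227 5, .derive 323 [.bwd 0, .fwd 177, .fwd 168] [0] (.rel 9), .node 227 6,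
  .derive 324 [.bwd 0, .fwd 178, .fwd 14] [4] (.rel 39), .node 228 0, .derive 325 [.bwd 0, .fwd 178, .fwd 159] [2] (.rel 2), .node 228 3, .node 228 4, .derive 327 [.bwd 0, .bwd 182, .fwd 178] [1] (.rel 17), .derive 327 [.bwd 1, .fwd 182, .fwd 160] [2] (.rel 25), .node 228 5,
  .node 228 6, .derive 329 [.bwd 0, .fwd 185, .fwd 160] [2] (.rel 29), .node 229 5, .derive 330 [.bwd 0, .bwd 185, .fwd 0] [2] (.rel 27), .node 229 6, .node 230 5, .derive 332 [.bwd 0, .fwd 186, .fwd 29] [0] (.rel 9), .node 230 6,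
  .node 231 6, .derive 334 [.bwd 0, .bwd 18, .bwd 19, .fwd 17] [5] (.rel 68), .node 232 5, .derive 335 [.bwd 0, .bwd 188, .fwd 189, .fwd 2, .fwd 1, .bwd 19, .fwd 21] [6] (.rel 40), .node 233 6, .node 234 5, .derive 336 [.bwd 1, .fwd 189, .bwd 335, .bwd 483, .bwd 484, .fwd 577, .bwd 578, .fwd 581, .fwd 580, .fwd 487, .fwd 485, .fwd 333, .bwd 187, .fwd 0] [1] (.rel 81), .node 235 1,
  .derive 338 [.bwd 0, .bwd 188, .fwd 190, .fwd 2, .bwd 1] [5] (.rel 18), .derive 251 [.bwd 159, .bwd 192, .fwd 4, .bwd 0] [6] (.rel 69), .node 239 1, .node 239 3, .derive 340 [.bwd 0, .bwd 185, .fwd 184] [0] (.rel 5), .node 239 4, .derive 341 [.bwd 0, .bwd 187, .fwd 184] [0] (.rel 7), .node 239 5,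
  .derive 342 [.bwd 0, .bwd 189, .fwd 184] [0] (.rel 9), .node 239 6, .node 240 2, .node 240 4]
def ph1_7 : List Aux := [
  .derive 345 [.bwd 0, .fwd 191, .fwd 186] [1] (.rel 17), .node 240 5, .derive 346 [.bwd 0, .bwd 194, .fwd 190] [3] (.rel 33), .node 240 6, .node 241 3, .derive 348 [.bwd 0, .fwd 194, .fwd 184] [1] (.rel 15), .node 241 5, .node 241 6,
  .derive 350 [.bwd 0, .bwd 198, .fwd 195] [4] (.rel 39), .node 242 6, .derive 351 [.bwd 0, .bwd 13, .bwd 14, .fwd 12] [5] (.rel 68), .node 243 5, .derive 352 [.bwd 0, .bwd 199, .fwd 200, .fwd 2, .fwd 1, .bwd 14, .fwd 16] [6] (.rel 40), .node 244 3, .derive 353 [.bwd 0, .bwd 200, .bwd 379, .fwd 376, .fwd 193] [4] (.rel 30), .node 244 6,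
  .derive 354 [.bwd 0, .bwd 202, .fwd 198] [4] (.rel 39), .node 247 5, .derive 355 [.bwd 0, .fwd 196, .fwd 144] [0] (.rel 9), .derive 355 [.bwd 1, .bwd 198, .fwd 196] [3] (.rel 33), .node 247 6, .derive 356 [.bwd 0, .bwd 200, .fwd 195] [3] (.rel 35), .node 250 6, .derive 357 [.bwd 0, .fwd 194, .fwd 191] [4] (.rel 39),
  .node 252 5, .derive 358 [.bwd 0, .fwd 192, .bwd 187] [3] (.rel 33), .derive 358 [.bwd 1, .bwd 194, .bwd 229, .fwd 41, .bwd 37, .bwd 36, .bwd 191] [6] (.rel 40), .derive 278 [.fwd 142, .fwd 188, .bwd 1] [1] (.rel 15), .node 255 2, .derive 359 [.bwd 0, .bwd 189, .fwd 367, .fwd 335, .fwd 141] [1] (.rel 13), .node 255 3, .derive 360 [.bwd 0, .bwd 191, .fwd 190] [1] (.rel 15),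
  .node 255 4, .derive 361 [.bwd 0, .bwd 193, .fwd 190] [1] (.rel 17), .node 255 5, .node 255 6, .node 256 2, .derive 364 [.bwd 0, .bwd 196, .bwd 376, .fwd 550, .bwd 607, .bwd 508, .fwd 304, .fwd 124] [3] (.rel 57), .derive 260 [.bwd 190, .fwd 374, .bwd 550, .bwd 636, .bwd 689, .fwd 716, .bwd 717, .fwd 714, .fwd 682, .bwd 665, .bwd 668, .bwd 669, .bwd 670, .fwd 706, .fwd 670, .fwd 610, .fwd 510, .fwd 305, .fwd 125, .bwd 0, .bwd 1, .bwd 6, .bwd 7, .fwd 9] [3] (.rel 92), .derive 292 [.bwd 132, .fwd 307, .fwd 506, .bwd 377, .fwd 198, .fwd 2, .fwd 1, .bwd 126, .bwd 306, .fwd 510, .fwd 609, .bwd 552, .fwd 376, .fwd 191, .fwd 0, .bwd 10] [] (.rel 23),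
  .derive 292 [.fwd 0] [] (.free), .derive 255 [.bwd 0, .bwd 134] [3] (.free), .derive 360 [.bwd 11, .fwd 0] [] (.free), .derive 360 [.fwd 0] [] (.free), .derive 339 [.bwd 53, .bwd 237, .bwd 410, .fwd 569, .fwd 558, .fwd 383, .fwd 204, .bwd 3, .fwd 136, .fwd 310, .bwd 318] [] (.rel 1), .derive 339 [.fwd 0] [] (.free), .derive 198 [.bwd 0, .bwd 55] [1] (.free), .derive 287 [.fwd 147, .fwd 0] [] (.free),
  .derive 287 [.fwd 0] [] (.free), .derive 239 [.bwd 0, .bwd 150] [3] (.free), .derive 340 [.bwd 58, .fwd 0] [] (.free), .derive 340 [.fwd 0] [] (.free), .derive 361 [.bwd 19, .bwd 11, .fwd 144, .fwd 138] [0] (.rel 7), .derive 362 [.bwd 18, .bwd 12, .fwd 145, .fwd 137] [0] (.rel 9), .derive 294 [.fwd 143, .bwd 137, .bwd 0] [3] (.rel 4), .derive 291 [.fwd 150, .bwd 140, .bwd 2, .fwd 21, .fwd 211, .fwd 389, .bwd 416, .bwd 244, .bwd 60] [1] (.rel 0),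
  .derive 284 [.fwd 162, .bwd 4, .fwd 63, .fwd 57] [0] (.rel 3), .derive 289 [.bwd 155, .bwd 5, .fwd 64, .fwd 55] [0] (.rel 9), .derive 296 [.bwd 145, .fwd 324, .bwd 331, .bwd 12, .bwd 67, .bwd 91] [1] (.rel 13), .derive 306 [.bwd 129, .fwd 317, .fwd 171, .bwd 29, .bwd 20, .bwd 211, .bwd 396, .fwd 572, .bwd 644, .bwd 686, .bwd 689, .bwd 725, .bwd 748, .edge 1, .edge 3, .fwd 754, .fwd 735, .fwd 703, .fwd 644, .bwd 629, .bwd 530, .fwd 326, .fwd 146, .fwd 0] [3] (.rel 90), .derive 344 [.bwd 3, .fwd 166, .bwd 8, .bwd 68, .bwd 93, .bwd 0, .bwd 130, .fwd 318, .fwd 172] [3] (.rel 59), .derive 305 [.fwd 132, .bwd 174, .fwd 173, .bwd 0, .bwd 62, .bwd 253, .bwd 273, .fwd 93] [2] (.rel 58), .node 256 4, .derive 365 [.bwd 0, .bwd 31, .fwd 19, .fwd 154] [1] (.rel 17),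
  .node 256 5, .derive 366 [.bwd 0, .fwd 223, .fwd 216] [0] (.rel 9), .node 256 6, .node 257 5, .derive 368 [.bwd 0, .fwd 224, .fwd 214] [0] (.rel 9), .node 257 6, .node 261 6, .derive 370 [.bwd 0, .bwd 5, .bwd 6, .fwd 4] [5] (.rel 68),
  .node 263 2, .node 263 6, .derive 372 [.bwd 0, .bwd 222, .fwd 219] [3] (.rel 35), .node 264 6, .derive 373 [.bwd 0, .bwd 7, .bwd 8, .fwd 6] [5] (.rel 68), .node 265 5, .derive 374 [.bwd 0, .fwd 222, .fwd 219] [4] (.rel 37), .derive 374 [.bwd 1, .bwd 224, .fwd 225, .fwd 3, .fwd 2, .bwd 9, .fwd 11] [6] (.rel 40),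
  .node 268 5, .derive 375 [.bwd 0, .fwd 219, .fwd 207] [4] (.rel 37), .node 268 6, .derive 376 [.bwd 0, .bwd 222, .fwd 218] [3] (.rel 35), .node 269 6, .derive 377 [.bwd 0, .fwd 221, .fwd 218] [4] (.rel 39), .node 273 1, .derive 378 [.bwd 0, .fwd 214, .bwd 117] [3] (.rel 14),
  .node 274 6, .derive 379 [.bwd 0, .bwd 70, .bwd 71, .fwd 68] [5] (.rel 68), .node 275 5, .derive 380 [.bwd 0, .bwd 215, .fwd 217, .fwd 2, .fwd 1, .bwd 70, .fwd 73] [6] (.rel 40), .node 279 2, .derive 381 [.bwd 0, .bwd 164, .fwd 31, .bwd 125, .fwd 305, .fwd 285, .fwd 94, .fwd 32, .bwd 205, .bwd 351, .fwd 163, .fwd 33, .fwd 126, .fwd 101, .fwd 41, .bwd 199] [3] (.rel 22), .node 279 5, .derive 382 [.bwd 0, .bwd 208, .fwd 206] [0] (.rel 9),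
  .node 279 6, .node 281 6, .derive 384 [.bwd 0, .bwd 2, .bwd 3, .fwd 1] [5] (.rel 68), .node 282 5]
def ph1_8 : List Aux := [
  .derive 385 [.bwd 0, .bwd 210, .fwd 211, .fwd 2, .fwd 1, .bwd 3, .fwd 5] [6] (.rel 40), .node 284 4, .derive 386 [.bwd 0, .fwd 208, .fwd 201] [2] (.rel 25), .node 285 4, .derive 387 [.bwd 0, .bwd 145, .fwd 147] [0] (.rel 7), .derive 387 [.bwd 1, .bwd 209, .fwd 1] [2] (.rel 25), .node 288 3, .node 289 6,
  .derive 389 [.bwd 0, .fwd 50, .bwd 106, .fwd 104] [5] (.rel 68), .node 290 5, .derive 390 [.bwd 0, .bwd 207, .fwd 208, .fwd 2, .fwd 1, .bwd 106, .fwd 108] [6] (.rel 40), .node 291 3, .node 297 3, .derive 392 [.bwd 0, .bwd 199, .bwd 380, .fwd 378, .fwd 194] [4] (.rel 30), .node 298 6, .derive 393 [.bwd 0, .bwd 61, .bwd 80, .fwd 79] [5] (.rel 68),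
  .node 299 5, .derive 394 [.bwd 0, .bwd 199, .fwd 201, .fwd 2, .fwd 1, .bwd 81, .fwd 82] [6] (.rel 40), .node 303 2, .derive 395 [.bwd 0, .fwd 194, .fwd 193] [4] (.rel 24), .derive 387 [.bwd 16, .bwd 225, .fwd 223, .bwd 193, .bwd 0] [3] (.rel 31), .node 305 4, .node 305 5, .derive 397 [.bwd 0, .bwd 195, .fwd 192] [0] (.rel 9),
  .derive 397 [.bwd 1, .fwd 195, .fwd 29] [3] (.rel 33), .node 305 6, .node 307 6, .derive 399 [.bwd 0, .bwd 3, .bwd 4, .fwd 1] [5] (.rel 68), .node 308 5, .derive 400 [.bwd 0, .bwd 197, .fwd 198, .fwd 2, .fwd 1, .bwd 3, .fwd 6] [6] (.rel 40), .node 309 6, .derive 401 [.bwd 0, .bwd 187, .fwd 186, .bwd 176] [5] (.rel 68),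
  .node 312 5, .derive 402 [.bwd 0, .bwd 193, .bwd 198, .fwd 2, .fwd 1, .fwd 178, .bwd 188] [6] (.rel 40), .node 315 3, .derive 403 [.bwd 0, .bwd 189, .fwd 188] [1] (.rel 15), .derive 403 [.bwd 1, .bwd 31, .bwd 30, .fwd 15, .bwd 17, .bwd 212, .bwd 230, .fwd 24] [2] (.rel 58), .node 316 6, .derive 404 [.bwd 0, .bwd 191, .fwd 188] [3] (.rel 35), .node 317 6,
  .derive 405 [.bwd 0, .bwd 161, .bwd 162, .fwd 160] [5] (.rel 68), .node 318 5, .derive 406 [.bwd 0, .bwd 177, .bwd 160] [4] (.rel 37), .derive 406 [.bwd 1, .bwd 193, .fwd 194, .fwd 3, .fwd 2, .bwd 163, .fwd 165] [6] (.rel 40), .node 322 5, .derive 407 [.bwd 0, .fwd 184, .fwd 170] [0] (.rel 9), .node 322 6, .derive 408 [.bwd 0, .bwd 187, .fwd 183] [3] (.rel 35),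
  .node 325 4, .derive 409 [.bwd 0, .bwd 183, .fwd 180] [0] (.rel 7), .derive 409 [.bwd 1, .fwd 183, .fwd 156] [2] (.rel 25), .node 325 5, .derive 410 [.bwd 0, .bwd 186, .fwd 180] [0] (.rel 9), .node 325 6, .node 326 4, .derive 412 [.bwd 0, .bwd 93, .fwd 33] [2] (.rel 25),
  .node 326 6, .derive 413 [.bwd 0, .bwd 189, .fwd 184] [3] (.rel 35), .node 327 5, .derive 414 [.bwd 0, .fwd 188, .fwd 152] [2] (.rel 27), .node 328 6, .derive 415 [.bwd 0, .bwd 8, .bwd 9, .fwd 7] [5] (.rel 68), .node 329 5, .derive 416 [.bwd 0, .fwd 189, .fwd 151] [2] (.rel 27),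
  .derive 416 [.bwd 1, .bwd 191, .fwd 192, .fwd 3, .fwd 2, .bwd 10, .fwd 12] [6] (.rel 40), .node 330 6, .derive 417 [.bwd 0, .bwd 190, .fwd 0] [2] (.rel 29), .derive 417 [.bwd 1, .bwd 21, .bwd 22, .fwd 20] [5] (.rel 68), .node 331 5, .derive 418 [.bwd 0, .bwd 192, .fwd 194, .fwd 3, .fwd 1, .bwd 22, .fwd 24] [6] (.rel 40), .node 341 3, .derive 419 [.bwd 0, .bwd 115, .fwd 59] [1] (.rel 15),
  .derive 419 [.bwd 1, .bwd 178, .fwd 180, .fwd 120, .fwd 271, .fwd 65] [4] (.rel 30), .derive 348 [.fwd 167, .bwd 225, .bwd 37, .fwd 36, .bwd 1] [2] (.rel 12), .derive 378 [.fwd 86, .bwd 24, .fwd 23, .fwd 3, .bwd 0, .bwd 169, .bwd 203, .bwd 86] [2] (.rel 58), .derive 371 [.bwd 102, .fwd 322, .fwd 303, .fwd 88, .fwd 0, .bwd 88] [] (.rel 13), .derive 371 [.fwd 0] [] (.free), .derive 273 [.bwd 0, .bwd 104] [2] (.free), .derive 181 [.fwd 306, .fwd 0] [] (.free), .derive 263 [.bwd 0] [] (.free),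
  .derive 181 [.bwd 0, .fwd 106] [6] (.free), .derive 275 [.bwd 305, .fwd 0] [] (.free), .derive 372 [.bwd 0] [] (.free), .derive 275 [.bwd 0, .fwd 108] [3] (.free), .derive 183 [.bwd 307, .fwd 0] [] (.free), .derive 265 [.bwd 0] [] (.free), .derive 183 [.bwd 0, .bwd 331] [6] (.free), .derive 98 [.fwd 510, .fwd 0] [] (.free),
  .derive 175 [.bwd 0] [] (.free), .derive 98 [.bwd 0, .fwd 335] [5] (.free), .derive 182 [.bwd 515, .fwd 0] [] (.free), .derive 264 [.bwd 0] [] (.free), .derive 182 [.bwd 0, .fwd 116] [6] (.free), .derive 276 [.bwd 315, .fwd 0] [] (.free), .derive 373 [.bwd 0] [] (.free), .derive 276 [.bwd 0, .fwd 118] [5] (.free),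
  .derive 249 [.bwd 316, .fwd 0] [] (.free), .derive 369 [.bwd 0] [] (.free), .derive 249 [.bwd 0, .bwd 128] [6] (.free), .derive 163 [.fwd 373, .fwd 0] [] (.free)]
def ph1_9 : List Aux := [
  .derive 257 [.bwd 0] [] (.free), .derive 163 [.bwd 0, .fwd 133] [5] (.free), .derive 248 [.bwd 379, .fwd 0] [] (.free), .derive 368 [.bwd 0] [] (.free), .derive 248 [.bwd 0, .bwd 124] [6] (.free), .derive 277 [.fwd 322, .fwd 0] [] (.free), .derive 374 [.bwd 0] [] (.free), .derive 277 [.bwd 0, .fwd 128] [4] (.free),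
  .derive 185 [.bwd 326, .fwd 0] [] (.free), .derive 267 [.bwd 0] [] (.free), .derive 185 [.bwd 0, .fwd 350] [6] (.free), .derive 164 [.bwd 528, .fwd 0] [] (.free), .derive 258 [.bwd 0] [] (.free), .derive 164 [.bwd 0, .bwd 368] [5] (.free), .derive 90 [.fwd 573, .fwd 0] [] (.free), .derive 173 [.bwd 0] [] (.free),
  .derive 90 [.bwd 0, .fwd 369] [6] (.free), .derive 165 [.bwd 573, .fwd 0] [] (.free), .derive 259 [.bwd 0] [] (.free), .derive 165 [.bwd 0, .bwd 361] [5] (.free), .derive 184 [.fwd 539, .fwd 0] [] (.free), .derive 266 [.bwd 0] [] (.free), .derive 184 [.bwd 0, .bwd 365] [6] (.free), .derive 99 [.fwd 544, .fwd 0] [] (.free),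
  .derive 176 [.bwd 0] [] (.free), .derive 99 [.bwd 0, .bwd 558] [5] (.free), .derive 50 [.fwd 735, .fwd 0] [] (.free), .derive 96 [.bwd 0] [] (.free), .derive 50 [.bwd 0, .fwd 560] [6] (.free), .derive 100 [.bwd 736, .fwd 0] [] (.free), .derive 177 [.bwd 0] [] (.free), .derive 100 [.bwd 0, .bwd 380] [3] (.free),
  .derive 180 [.fwd 559, .fwd 0] [] (.free), .derive 262 [.bwd 0] [] (.free), .derive 180 [.bwd 0, .bwd 384] [6] (.free), .derive 97 [.fwd 563, .fwd 0] [] (.free), .derive 174 [.bwd 0] [] (.free), .derive 97 [.bwd 0, .fwd 388] [5] (.free), .derive 179 [.bwd 568, .fwd 0] [] (.free), .derive 261 [.bwd 0] [] (.free),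
  .derive 179 [.bwd 0, .fwd 169] [6] (.free), .derive 271 [.bwd 374, .fwd 0] [] (.free), .derive 370 [.bwd 0] [] (.free), .derive 271 [.bwd 0, .fwd 171] [5] (.free), .derive 246 [.bwd 376, .fwd 0] [] (.free), .derive 367 [.bwd 0] [] (.free), .derive 246 [.bwd 0, .bwd 179] [6] (.free), .derive 162 [.fwd 429, .fwd 0] [] (.free),
  .derive 256 [.bwd 0] [] (.free), .derive 162 [.bwd 0, .fwd 186] [4] (.free), .derive 244 [.bwd 436, .fwd 0] [] (.free), .derive 365 [.bwd 0] [] (.free), .derive 244 [.bwd 0, .fwd 188] [1] (.free), .derive 345 [.fwd 252, .fwd 0] [] (.free), .derive 345 [.fwd 0] [] (.free), .derive 293 [.bwd 0, .bwd 255] [4] (.free),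
  .derive 200 [.fwd 347, .fwd 0] [] (.free), .derive 240 [.bwd 0] [] (.free), .derive 200 [.bwd 0, .fwd 254] [6] (.free), .derive 295 [.bwd 347, .fwd 0] [] (.free), .derive 347 [.bwd 0] [] (.free), .derive 295 [.bwd 0, .bwd 152] [5] (.free), .derive 301 [.fwd 341, .fwd 0] [] (.free), .derive 389 [.bwd 0] [] (.free),
  .derive 301 [.bwd 0, .bwd 156] [6] (.free), .derive 203 [.fwd 345, .fwd 0] [] (.free), .derive 289 [.bwd 0] [] (.free), .derive 203 [.bwd 0, .bwd 365] [5] (.free), .derive 119 [.fwd 531, .fwd 0] [] (.free), .derive 197 [.bwd 0] [] (.free), .derive 119 [.bwd 0, .fwd 367] [6] (.free), .derive 204 [.bwd 533, .fwd 0] [] (.free),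
  .derive 290 [.bwd 0] [] (.free), .derive 204 [.bwd 0, .fwd 163] [5] (.free), .derive 302 [.bwd 352, .fwd 0] [] (.free), .derive 390 [.bwd 0] [] (.free), .derive 302 [.bwd 0, .fwd 165] [6] (.free), .derive 294 [.bwd 354, .fwd 0] [] (.free), .derive 346 [.bwd 0] [] (.free), .derive 294 [.bwd 0, .fwd 276] [3] (.free),
  .derive 362 [.bwd 225, .fwd 0] [] (.free), .derive 362 [.fwd 0] [] (.free), .derive 242 [.bwd 0, .bwd 164] [6] (.free), .derive 351 [.bwd 273, .fwd 0] [] (.free), .derive 394 [.bwd 0] [] (.free), .derive 351 [.bwd 0, .bwd 168] [5] (.free), .derive 343 [.bwd 275, .fwd 0] [] (.free), .derive 343 [.fwd 0] [] (.free),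
  .derive 299 [.bwd 0, .bwd 290] [6] (.free), .derive 201 [.fwd 371, .fwd 0] [] (.free), .derive 239 [.bwd 0] [] (.free), .derive 201 [.bwd 0, .fwd 295] [5] (.free), .derive 298 [.bwd 376, .fwd 0] [] (.free), .derive 342 [.bwd 0] [] (.free), .derive 298 [.bwd 0, .bwd 281] [6] (.free), .derive 393 [.bwd 180, .fwd 0] [] (.free),
  .derive 393 [.fwd 0] [] (.free), .derive 352 [.bwd 0, .fwd 181] [5] (.free), .derive 243 [.fwd 286, .fwd 0] [] (.free), .derive 363 [.bwd 0] [] (.free)]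
def ph1_10 : List Aux := [
  .derive 243 [.bwd 0, .bwd 264] [6] (.free), .derive 161 [.fwd 488, .fwd 0] [] (.free), .derive 255 [.bwd 0] [] (.free), .derive 161 [.bwd 0, .fwd 270] [4] (.free), .derive 241 [.bwd 494, .fwd 0] [] (.free), .derive 361 [.bwd 0] [] (.free), .derive 241 [.bwd 0, .fwd 253] [0] (.free), .derive 341 [.fwd 312, .fwd 0] [] (.free),
  .derive 341 [.fwd 0] [] (.free), .derive 297 [.bwd 0, .fwd 138] [3] (.free), .derive 392 [.bwd 197, .fwd 0] [] (.free), .derive 419 [.bwd 0] [] (.free), .derive 392 [.bwd 0, .fwd 139] [4] (.free), .derive 300 [.bwd 199, .fwd 0] [] (.free), .derive 388 [.bwd 0] [] (.free), .derive 300 [.bwd 0, .bwd 208] [3] (.free),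
  .derive 202 [.fwd 397, .fwd 0] [] (.free), .derive 288 [.bwd 0] [] (.free), .derive 202 [.bwd 0, .bwd 215] [2] (.free), .derive 123 [.bwd 583, .fwd 0] [] (.free), .derive 386 [.bwd 0] [] (.free), .derive 123 [.bwd 0, .bwd 219] [4] (.free), .derive 64 [.fwd 788, .fwd 0] [] (.free), .derive 284 [.bwd 0] [] (.free),
  .derive 64 [.bwd 0, .bwd 230] [3] (.free), .derive 56 [.bwd 895, .fwd 0] [] (.free), .derive 381 [.bwd 0] [] (.free), .derive 56 [.bwd 0, .bwd 234] [2] (.free), .derive 96 [.fwd 841, .fwd 0] [] (.free), .derive 279 [.bwd 0, .fwd 101] [] (.free), .derive 50 [.bwd 0, .fwd 233] [6] (.free), .derive 100 [.bwd 838, .fwd 0] [] (.free),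
  .derive 383 [.bwd 0] [] (.free), .derive 100 [.bwd 0, .bwd 234] [5] (.free), .derive 185 [.bwd 652, .fwd 0] [] (.free), .derive 384 [.bwd 0] [] (.free), .derive 185 [.bwd 0, .bwd 238] [6] (.free), .derive 164 [.bwd 654, .fwd 0] [] (.free), .derive 281 [.bwd 0] [] (.free), .derive 164 [.bwd 0, .bwd 450] [5] (.free),
  .derive 90 [.fwd 699, .fwd 0] [] (.free), .derive 190 [.bwd 0] [] (.free), .derive 90 [.bwd 0, .fwd 452] [6] (.free), .derive 165 [.bwd 699, .fwd 0] [] (.free), .derive 282 [.bwd 0] [] (.free), .derive 165 [.bwd 0, .fwd 245] [5] (.free), .derive 184 [.fwd 665, .fwd 0] [] (.free), .derive 385 [.bwd 0] [] (.free),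
  .derive 184 [.bwd 0, .fwd 247] [6] (.free), .derive 99 [.fwd 670, .fwd 0] [] (.free), .derive 382 [.bwd 0] [] (.free), .derive 99 [.bwd 0, .bwd 226] [3] (.free), .derive 179 [.fwd 681, .fwd 0] [] (.free), .derive 397 [.bwd 0] [] (.free), .derive 179 [.bwd 0, .bwd 224] [6] (.free), .derive 271 [.bwd 488, .fwd 0] [] (.free),
  .derive 400 [.bwd 0] [] (.free), .derive 271 [.bwd 0, .bwd 228] [5] (.free), .derive 246 [.bwd 490, .fwd 0] [] (.free), .derive 308 [.bwd 0] [] (.free), .derive 246 [.bwd 0, .bwd 428] [6] (.free), .derive 162 [.fwd 543, .fwd 0] [] (.free), .derive 207 [.bwd 0] [] (.free), .derive 162 [.bwd 0, .fwd 432] [5] (.free),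
  .derive 245 [.bwd 548, .fwd 0] [] (.free), .derive 307 [.bwd 0] [] (.free), .derive 245 [.bwd 0, .fwd 239] [6] (.free), .derive 272 [.fwd 496, .fwd 0] [] (.free), .derive 399 [.bwd 0] [] (.free), .derive 272 [.bwd 0, .fwd 241] [5] (.free), .derive 180 [.fwd 501, .fwd 0] [] (.free), .derive 398 [.bwd 0] [] (.free),
  .derive 180 [.bwd 0, .bwd 246] [6] (.free), .derive 97 [.fwd 701, .fwd 0] [] (.free), .derive 305 [.bwd 0] [] (.free), .derive 97 [.bwd 0, .fwd 253] [4] (.free), .derive 178 [.bwd 707, .fwd 0] [] (.free), .derive 396 [.bwd 0] [] (.free), .derive 178 [.bwd 0, .bwd 222] [2] (.free), .derive 244 [.fwd 564, .fwd 0] [] (.free),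
  .derive 412 [.bwd 0] [] (.free), .derive 244 [.bwd 0, .bwd 226] [4] (.free), .derive 162 [.fwd 568, .fwd 0] [] (.free), .derive 326 [.bwd 0] [] (.free), .derive 162 [.bwd 0, .fwd 227] [6] (.free), .derive 246 [.bwd 567, .fwd 0] [] (.free), .derive 413 [.bwd 0] [] (.free), .derive 246 [.bwd 0, .fwd 229] [3] (.free),
  .derive 165 [.bwd 568, .fwd 0] [] (.free), .derive 329 [.bwd 0] [] (.free), .derive 165 [.bwd 0, .bwd 417] [6] (.free), .derive 90 [.fwd 747, .fwd 0] [] (.free), .derive 228 [.bwd 0] [] (.free), .derive 90 [.bwd 0, .fwd 421] [5] (.free), .derive 164 [.bwd 753, .fwd 0] [] (.free), .derive 328 [.bwd 0] [] (.free),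
  .derive 164 [.bwd 0, .fwd 235] [6] (.free), .derive 185 [.fwd 714, .fwd 0] [] (.free), .derive 415 [.bwd 0] [] (.free), .derive 185 [.bwd 0, .fwd 237] [5] (.free)]
def ph1_11 : List Aux := [
  .derive 100 [.fwd 718, .fwd 0] [] (.free), .derive 411 [.bwd 0] [] (.free), .derive 100 [.bwd 0, .bwd 248] [6] (.free), .derive 50 [.fwd 910, .fwd 0] [] (.free), .derive 325 [.bwd 0] [] (.free), .derive 50 [.bwd 0, .fwd 253] [5] (.free), .derive 99 [.bwd 915, .fwd 0] [] (.free), .derive 410 [.bwd 0] [] (.free),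
  .derive 99 [.bwd 0, .bwd 243] [6] (.free), .derive 184 [.bwd 730, .fwd 0] [] (.free), .derive 416 [.bwd 0] [] (.free), .derive 184 [.bwd 0, .fwd 247] [2] (.free), .derive 103 [.bwd 732, .fwd 0] [] (.free), .derive 352 [.bwd 0] [] (.free), .derive 103 [.bwd 0, .fwd 401, .fwd 120] [6] (.free), .derive 52 [.fwd 916, .fwd 0] [] (.free),
  .derive 298 [.bwd 0] [] (.free), .derive 52 [.bwd 0, .bwd 501] [5] (.free), .derive 24 [.fwd 1013, .fwd 0] [] (.free), .derive 201 [.bwd 0] [] (.free), .derive 24 [.bwd 0, .fwd 502] [6] (.free), .derive 53 [.bwd 1013, .fwd 0] [] (.free), .derive 299 [.bwd 0] [] (.free), .derive 53 [.bwd 0, .fwd 306, .fwd 138] [5] (.free),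
  .derive 104 [.bwd 922, .fwd 0] [] (.free), .derive 351 [.bwd 0] [] (.free), .derive 104 [.bwd 0, .bwd 416] [6] (.free), .derive 92 [.bwd 924, .fwd 0] [] (.free), .derive 242 [.bwd 0] [] (.free), .derive 92 [.bwd 0, .bwd 617] [5] (.free), .derive 47 [.fwd 951, .fwd 0] [] (.free), .derive 161 [.bwd 0] [] (.free),
  .derive 47 [.bwd 0, .fwd 619] [6] (.free), .derive 93 [.bwd 951, .fwd 0] [] (.free), .derive 243 [.bwd 0] [] (.free), .derive 93 [.bwd 0, .bwd 426] [4] (.free), .derive 167 [.fwd 786, .fwd 0] [] (.free), .derive 350 [.bwd 0] [] (.free), .derive 167 [.bwd 0, .bwd 430] [6] (.free), .derive 91 [.fwd 790, .fwd 0] [] (.free),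
  .derive 241 [.bwd 0] [] (.free), .derive 91 [.bwd 0, .fwd 434] [5] (.free), .derive 166 [.bwd 797, .fwd 0] [] (.free), .derive 349 [.bwd 0] [] (.free), .derive 166 [.bwd 0, .bwd 284] [2] (.free), .derive 248 [.fwd 620, .fwd 0] [] (.free), .derive 414 [.bwd 0] [] (.free), .derive 248 [.bwd 0, .bwd 288] [5] (.free),
  .derive 163 [.fwd 625, .fwd 0] [] (.free), .derive 327 [.bwd 0] [] (.free), .derive 163 [.bwd 0, .bwd 362] [3] (.free), .derive 247 [.bwd 630, .fwd 0] [] (.free), .derive 378 [.bwd 0] [] (.free), .derive 247 [.bwd 0, .bwd 278, .fwd 0] [2] (.free), .derive 316 [.fwd 506, .bwd 0] [] (.free), .derive 316 [.fwd 0] [] (.free),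
  .derive 247 [.bwd 0, .fwd 318] [6] (.free), .derive 356 [.bwd 436, .fwd 0] [] (.free), .derive 404 [.bwd 0] [] (.free), .derive 356 [.bwd 0, .fwd 320] [3] (.free), .derive 249 [.bwd 438, .fwd 0] [] (.free), .derive 318 [.bwd 0] [] (.free), .derive 249 [.bwd 0, .bwd 512] [6] (.free), .derive 163 [.fwd 637, .fwd 0] [] (.free),
  .derive 220 [.bwd 0] [] (.free), .derive 163 [.bwd 0, .fwd 516] [5] (.free), .derive 248 [.bwd 643, .fwd 0] [] (.free), .derive 317 [.bwd 0] [] (.free), .derive 248 [.bwd 0, .fwd 328] [6] (.free), .derive 277 [.fwd 586, .fwd 0] [] (.free), .derive 405 [.bwd 0] [] (.free), .derive 277 [.bwd 0, .fwd 330] [5] (.free),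
  .derive 183 [.fwd 591, .fwd 0] [] (.free), .derive 333 [.bwd 0] [] (.free), .derive 183 [.bwd 0, .bwd 494] [6] (.free), .derive 98 [.fwd 798, .fwd 0] [] (.free), .derive 230 [.bwd 0] [] (.free), .derive 98 [.bwd 0, .fwd 499] [5] (.free), .derive 182 [.bwd 803, .fwd 0] [] (.free), .derive 332 [.bwd 0] [] (.free),
  .derive 182 [.bwd 0, .bwd 336] [6] (.free), .derive 276 [.bwd 603, .fwd 0] [] (.free), .derive 406 [.bwd 0] [] (.free), .derive 276 [.bwd 0, .fwd 340] [4] (.free), .derive 184 [.bwd 605, .fwd 0] [] (.free), .derive 334 [.bwd 0] [] (.free), .derive 184 [.bwd 0, .bwd 505] [6] (.free), .derive 99 [.fwd 808, .fwd 0] [] (.free),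
  .derive 231 [.bwd 0] [] (.free), .derive 99 [.bwd 0, .bwd 695] [5] (.free), .derive 50 [.fwd 999, .fwd 0] [] (.free), .derive 154 [.bwd 0] [] (.free), .derive 50 [.bwd 0, .fwd 697] [6] (.free), .derive 100 [.bwd 1000, .fwd 0] [] (.free), .derive 232 [.bwd 0] [] (.free), .derive 100 [.bwd 0, .fwd 512] [5] (.free),
  .derive 185 [.bwd 814, .fwd 0] [] (.free), .derive 335 [.bwd 0] [] (.free), .derive 185 [.bwd 0, .fwd 514] [6] (.free), .derive 164 [.bwd 816, .fwd 0] [] (.free)]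
def ph1_12 : List Aux := [
  .derive 323 [.bwd 0] [] (.free), .derive 164 [.bwd 0, .bwd 539] [5] (.free), .derive 90 [.fwd 861, .fwd 0] [] (.free), .derive 227 [.bwd 0] [] (.free), .derive 90 [.bwd 0, .fwd 540] [6] (.free), .derive 165 [.bwd 861, .fwd 0] [] (.free), .derive 324 [.bwd 0] [] (.free), .derive 165 [.bwd 0, .bwd 359] [3] (.free),
  .derive 246 [.fwd 688, .fwd 0] [] (.free), .derive 408 [.bwd 0] [] (.free), .derive 246 [.bwd 0, .bwd 363] [6] (.free), .derive 162 [.fwd 693, .fwd 0] [] (.free), .derive 322 [.bwd 0] [] (.free), .derive 162 [.bwd 0, .fwd 368] [5] (.free), .derive 245 [.bwd 698, .fwd 0] [] (.free), .derive 407 [.bwd 0] [] (.free),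
  .derive 245 [.bwd 0, .bwd 346] [6] (.free), .derive 272 [.fwd 646, .fwd 0] [] (.free), .derive 418 [.bwd 0] [] (.free), .derive 272 [.bwd 0, .bwd 350] [5] (.free), .derive 180 [.fwd 651, .fwd 0] [] (.free), .derive 331 [.bwd 0] [] (.free), .derive 180 [.bwd 0, .bwd 545] [6] (.free), .derive 97 [.fwd 851, .fwd 0] [] (.free),
  .derive 229 [.bwd 0] [] (.free), .derive 97 [.bwd 0, .fwd 550] [5] (.free), .derive 179 [.bwd 856, .fwd 0] [] (.free), .derive 330 [.bwd 0] [] (.free), .derive 179 [.bwd 0, .fwd 362] [6] (.free), .derive 271 [.bwd 662, .fwd 0] [] (.free), .derive 417 [.bwd 0] [] (.free), .derive 271 [.bwd 0, .bwd 364, .fwd 0] [2] (.free),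
  .derive 272 [.fwd 662, .bwd 0] [] (.free), .derive 272 [.fwd 0] [] (.free), .derive 271 [.bwd 0, .fwd 663] [6] (.free), .derive 179 [.fwd 668, .fwd 0] [] (.free), .derive 245 [.bwd 0] [] (.free), .derive 179 [.bwd 0, .bwd 721] [5] (.free), .derive 97 [.fwd 868, .fwd 0] [] (.free), .derive 162 [.bwd 0] [] (.free),
  .derive 97 [.bwd 0, .fwd 722] [6] (.free), .derive 180 [.bwd 869, .fwd 0] [] (.free), .derive 246 [.bwd 0] [] (.free), .derive 180 [.bwd 0, .bwd 526] [4] (.free), .derive 270 [.fwd 678, .fwd 0] [] (.free), .derive 354 [.bwd 0] [] (.free), .derive 270 [.bwd 0, .bwd 530] [6] (.free), .derive 178 [.fwd 682, .fwd 0] [] (.free),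
  .derive 244 [.bwd 0] [] (.free), .derive 178 [.bwd 0, .fwd 535] [3] (.free), .derive 268 [.bwd 689, .fwd 0] [] (.free), .derive 353 [.bwd 0] [] (.free), .derive 268 [.bwd 0, .fwd 537] [4] (.free), .derive 181 [.bwd 691, .fwd 0] [] (.free), .derive 247 [.bwd 0] [] (.free), .derive 181 [.bwd 0, .fwd 534] [6] (.free),
  .derive 275 [.bwd 680, .fwd 0] [] (.free), .derive 356 [.bwd 0] [] (.free), .derive 275 [.bwd 0, .bwd 468] [5] (.free), .derive 380 [.bwd 468, .fwd 0] [] (.free), .derive 380 [.fwd 0] [] (.free), .derive 379 [.bwd 0, .fwd 469] [6] (.free), .derive 274 [.fwd 473, .fwd 0] [] (.free), .derive 355 [.bwd 0] [] (.free),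
  .derive 274 [.bwd 0, .fwd 544] [3] (.free), .derive 182 [.bwd 690, .fwd 0] [] (.free), .derive 248 [.bwd 0] [] (.free), .derive 182 [.bwd 0, .bwd 684] [6] (.free), .derive 276 [.bwd 690, .fwd 0] [] (.free), .derive 277 [.bwd 0] [] (.free), .derive 276 [.bwd 0, .bwd 689] [5] (.free), .derive 249 [.bwd 691, .fwd 0] [] (.free),
  .derive 249 [.fwd 0] [] (.free), .derive 183 [.bwd 0, .bwd 747] [6] (.free), .derive 98 [.fwd 897, .fwd 0] [] (.free), .derive 163 [.bwd 0] [] (.free), .derive 98 [.bwd 0, .bwd 938] [4] (.free), .derive 50 [.fwd 1088, .fwd 0] [] (.free), .derive 90 [.bwd 0] [] (.free), .derive 50 [.bwd 0, .fwd 935] [6] (.free),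
  .derive 100 [.bwd 1087, .fwd 0] [] (.free), .derive 165 [.bwd 0] [] (.free), .derive 100 [.bwd 0, .bwd 901] [5] (.free), .derive 185 [.bwd 901, .fwd 0] [] (.free), .derive 185 [.fwd 0] [] (.free), .derive 184 [.bwd 0, .fwd 902] [6] (.free), .derive 99 [.fwd 907, .fwd 0] [] (.free), .derive 164 [.bwd 0] [] (.free),
  .derive 99 [.bwd 0, .fwd 945] [2] (.free), .derive 52 [.bwd 1097, .fwd 0] [] (.free), .derive 92 [.bwd 0] [] (.free), .derive 52 [.bwd 0, .bwd 1088] [6] (.free), .derive 103 [.bwd 1093, .fwd 0] [] (.free), .derive 104 [.bwd 0] [] (.free), .derive 103 [.bwd 0, .bwd 1092] [5] (.free), .derive 93 [.bwd 1094, .fwd 0] [] (.free),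
  .derive 93 [.fwd 0] [] (.free), .derive 53 [.bwd 0, .bwd 1115] [6] (.free), .derive 24 [.fwd 1190, .fwd 0] [] (.free), .derive 47 [.bwd 0] [] (.free)]
def ph1_13 : List Aux := [
  .derive 24 [.bwd 0, .fwd 1124] [4] (.free), .derive 51 [.bwd 1198, .fwd 0] [] (.free), .derive 91 [.bwd 0] [] (.free), .derive 51 [.bwd 0, .fwd 954] [6] (.free), .derive 102 [.bwd 1107, .fwd 0] [] (.free), .derive 167 [.bwd 0] [] (.free), .derive 102 [.bwd 0, .bwd 920] [5] (.free), .derive 187 [.bwd 920, .fwd 0] [] (.free),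
  .derive 187 [.fwd 0] [] (.free), .derive 186 [.bwd 0, .fwd 921] [6] (.free), .derive 101 [.fwd 926, .fwd 0] [] (.free), .derive 166 [.bwd 0] [] (.free), .derive 101 [.bwd 0, .fwd 965] [3] (.free), .derive 80 [.bwd 1118, .fwd 0] [] (.free), .derive 138 [.bwd 0] [] (.free), .derive 80 [.bwd 0, .bwd 1000] [6] (.free),
  .derive 149 [.bwd 1005, .fwd 0] [] (.free), .derive 150 [.bwd 0] [] (.free), .derive 149 [.bwd 0, .bwd 1004] [5] (.free), .derive 139 [.bwd 1006, .fwd 0] [] (.free), .derive 139 [.fwd 0] [] (.free), .derive 81 [.bwd 0, .bwd 1025] [6] (.free), .derive 41 [.fwd 1164, .fwd 0] [] (.free), .derive 72 [.bwd 0] [] (.free),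
  .derive 41 [.bwd 0, .bwd 1181] [4] (.free), .derive 19 [.fwd 1240, .fwd 0] [] (.free), .derive 37 [.bwd 0] [] (.free), .derive 19 [.bwd 0, .fwd 1179] [6] (.free), .derive 43 [.bwd 1240, .fwd 0] [] (.free), .derive 74 [.bwd 0] [] (.free), .derive 43 [.bwd 0, .bwd 1170] [5] (.free), .derive 83 [.bwd 1170, .fwd 0] [] (.free),
  .derive 83 [.fwd 0] [] (.free), .derive 82 [.bwd 0, .fwd 1171] [6] (.free), .derive 42 [.fwd 1175, .fwd 0] [] (.free), .derive 73 [.bwd 0] [] (.free), .derive 42 [.bwd 0, .fwd 1189] [3] (.free), .derive 20 [.bwd 1250, .fwd 0] [] (.free), .derive 38 [.bwd 0] [] (.free), .derive 20 [.bwd 0, .bwd 1246] [6] (.free),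
  .derive 44 [.bwd 1250, .fwd 0] [] (.free), .derive 45 [.bwd 0] [] (.free), .derive 44 [.bwd 0, .bwd 1250] [5] (.free), .derive 39 [.bwd 1252, .fwd 0] [] (.free), .derive 39 [.fwd 0] [] (.free), .derive 21 [.bwd 0, .bwd 1263] [6] (.free), .derive 10 [.fwd 1303, .fwd 0] [] (.free), .derive 18 [.bwd 0] [] (.free),
  .derive 10 [.bwd 0, .bwd 1300] [4] (.free), .derive 12 [.fwd 1326, .fwd 0] [] (.free), .derive 23 [.bwd 0] [] (.free), .derive 12 [.bwd 0, .fwd 1250] [6] (.free), .derive 26 [.bwd 1298, .fwd 0] [] (.free), .derive 49 [.bwd 0] [] (.free), .derive 26 [.bwd 0, .bwd 1242] [5] (.free), .derive 55 [.bwd 1242, .fwd 0] [] (.free),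
  .derive 55 [.fwd 0] [] (.free), .derive 54 [.bwd 0, .fwd 1243] [6] (.free), .derive 25 [.fwd 1248, .fwd 0] [] (.free), .derive 48 [.bwd 0] [] (.free), .derive 25 [.bwd 0, .fwd 1177] [1] (.free), .derive 25 [.fwd 1309, .fwd 0] [] (.free), .derive 94 [.bwd 0] [] (.free), .derive 25 [.bwd 0, .fwd 1003] [6] (.free),
  .derive 54 [.bwd 1254, .fwd 0] [] (.free), .derive 172 [.bwd 0] [] (.free), .derive 54 [.bwd 0, .bwd 828] [5] (.free), .derive 49 [.bwd 1255, .fwd 0] [] (.free), .derive 254 [.bwd 0, .fwd 14] [] (.free), .derive 26 [.bwd 0, .bwd 833] [6] (.free), .derive 12 [.fwd 1316, .fwd 0] [] (.free), .derive 171 [.bwd 0] [] (.free),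
  .derive 12 [.bwd 0, .fwd 1013] [5] (.free), .derive 25 [.bwd 1322, .fwd 0] [] (.free), .derive 170 [.bwd 0] [] (.free), .derive 25 [.bwd 0, .fwd 869] [6] (.free), .derive 54 [.bwd 1266, .fwd 0] [] (.free), .derive 238 [.bwd 0] [] (.free), .derive 54 [.bwd 0, .fwd 873] [5] (.free), .derive 49 [.bwd 1267, .fwd 0] [] (.free),
  .derive 236 [.bwd 0, .fwd 26] [] (.free), .derive 26 [.bwd 0, .bwd 880] [6] (.free), .derive 12 [.fwd 1328, .fwd 0] [] (.free), .derive 158 [.bwd 0] [] (.free), .derive 12 [.bwd 0, .fwd 1055] [4] (.free), .derive 10 [.bwd 1362, .fwd 0] [] (.free), .derive 132 [.bwd 0] [] (.free), .derive 10 [.bwd 0, .fwd 936] [6] (.free),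
  .derive 21 [.bwd 1345, .fwd 0] [] (.free), .derive 211 [.bwd 0] [] (.free), .derive 21 [.bwd 0, .bwd 935] [5] (.free), .derive 45 [.bwd 1299, .fwd 0] [] (.free), .derive 213 [.bwd 0, .fwd 50] [] (.free), .derive 44 [.bwd 0, .bwd 937] [6] (.free), .derive 20 [.fwd 1304, .fwd 0] [] (.free), .derive 141 [.bwd 0] [] (.free),
  .derive 20 [.bwd 0, .bwd 1095] [5] (.free), .derive 10 [.fwd 1356, .fwd 0] [] (.free), .derive 142 [.bwd 0] [] (.free), .derive 10 [.bwd 0, .fwd 932] [6] (.free)]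
def ph1_14 : List Aux := [
  .derive 21 [.bwd 1357, .fwd 0] [] (.free), .derive 219 [.bwd 0] [] (.free), .derive 21 [.bwd 0, .fwd 934] [5] (.free), .derive 45 [.bwd 1311, .fwd 0] [] (.free), .derive 143 [.bwd 0, .fwd 62] [] (.free), .derive 44 [.bwd 0, .bwd 1101] [6] (.free), .derive 20 [.fwd 1316, .fwd 0] [] (.free), .derive 75 [.bwd 0] [] (.free),
  .derive 20 [.bwd 0, .bwd 1110] [3] (.free), .derive 42 [.fwd 1322, .fwd 0] [] (.free), .derive 140 [.bwd 0] [] (.free), .derive 42 [.bwd 0, .fwd 950] [6] (.free), .derive 82 [.bwd 1253, .fwd 0] [] (.free), .derive 216 [.bwd 0] [] (.free), .derive 82 [.bwd 0, .fwd 773] [5] (.free), .derive 74 [.bwd 1255, .fwd 0] [] (.free),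
  .derive 313 [.bwd 0, .fwd 86] [] (.free), .derive 43 [.bwd 0, .fwd 775] [6] (.free), .derive 19 [.fwd 1330, .fwd 0] [] (.free), .derive 218 [.bwd 0] [] (.free), .derive 19 [.bwd 0, .fwd 954] [5] (.free), .derive 42 [.bwd 1335, .fwd 0] [] (.free), .derive 215 [.bwd 0] [] (.free), .derive 42 [.bwd 0, .bwd 946] [6] (.free),
  .derive 82 [.bwd 1265, .fwd 0] [] (.free), .derive 224 [.bwd 0] [] (.free), .derive 82 [.bwd 0, .bwd 789] [5] (.free), .derive 74 [.bwd 1267, .fwd 0] [] (.free), .derive 310 [.bwd 0, .fwd 98] [] (.free), .derive 43 [.bwd 0, .bwd 793] [6] (.free), .derive 19 [.fwd 1342, .fwd 0] [] (.free), .derive 210 [.bwd 0] [] (.free),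
  .derive 19 [.bwd 0, .bwd 798] [4] (.free), .derive 41 [.bwd 1348, .fwd 0] [] (.free), .derive 309 [.bwd 0] [] (.free), .derive 41 [.bwd 0, .fwd 604] [6] (.free), .derive 81 [.bwd 1278, .fwd 0] [] (.free), .derive 401 [.bwd 0] [] (.free), .derive 81 [.bwd 0, .fwd 606] [5] (.free), .derive 150 [.bwd 1125, .fwd 0] [] (.free),
  .derive 320 [.bwd 0, .fwd 122] [] (.free), .derive 149 [.bwd 0, .fwd 786] [6] (.free), .derive 80 [.fwd 1131, .fwd 0] [] (.free), .derive 311 [.bwd 0] [] (.free), .derive 80 [.bwd 0, .bwd 799] [5] (.free), .derive 41 [.fwd 1289, .fwd 0] [] (.free), .derive 314 [.bwd 0] [] (.free), .derive 41 [.bwd 0, .bwd 613] [6] (.free),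
  .derive 81 [.bwd 1290, .fwd 0] [] (.free), .derive 402 [.bwd 0] [] (.free), .derive 81 [.bwd 0, .bwd 617] [5] (.free), .derive 150 [.bwd 1137, .fwd 0] [] (.free), .derive 312 [.bwd 0, .fwd 134] [] (.free), .derive 149 [.bwd 0, .bwd 813] [6] (.free), .derive 80 [.fwd 1143, .fwd 0] [] (.free), .derive 214 [.bwd 0] [] (.free),
  .derive 80 [.bwd 0, .bwd 928] [3] (.free), .derive 101 [.fwd 1262, .fwd 0] [] (.free), .derive 250 [.bwd 0] [] (.free), .derive 101 [.bwd 0, .fwd 736] [6] (.free), .derive 186 [.bwd 1076, .fwd 0] [] (.free), .derive 357 [.bwd 0] [] (.free), .derive 186 [.bwd 0, .fwd 738] [4] (.free), .derive 103 [.bwd 1078, .fwd 0] [] (.free),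
  .derive 252 [.bwd 0] [] (.free), .derive 103 [.bwd 0, .bwd 933] [6] (.free), .derive 52 [.fwd 1267, .fwd 0] [] (.free), .derive 168 [.bwd 0] [] (.free), .derive 52 [.bwd 0, .bwd 971] [5] (.free), .derive 24 [.fwd 1364, .fwd 0] [] (.free), .derive 233 [.bwd 0] [] (.free), .derive 24 [.bwd 0, .fwd 786] [6] (.free),
  .derive 53 [.bwd 1364, .fwd 0] [] (.free), .derive 336 [.bwd 0] [] (.free), .derive 53 [.bwd 0, .bwd 785] [5] (.free), .derive 104 [.bwd 1273, .fwd 0] [] (.free), .derive 338 [.bwd 0, .fwd 182] [] (.free), .derive 103 [.bwd 0, .bwd 787] [6] (.free), .derive 52 [.fwd 1279, .fwd 0] [] (.free), .derive 251 [.bwd 0] [] (.free),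
  .derive 52 [.bwd 0, .bwd 945] [5] (.free), .derive 24 [.fwd 1376, .fwd 0] [] (.free), .derive 253 [.bwd 0] [] (.free), .derive 24 [.bwd 0, .bwd 756] [6] (.free), .derive 53 [.bwd 1376, .fwd 0] [] (.free), .derive 358 [.bwd 0] [] (.free), .derive 53 [.bwd 0, .bwd 758] [1] (.free), .derive 53 [.fwd 1378, .fwd 0] [] (.free),
  .derive 278 [.bwd 0] [] (.free), .derive 53 [.bwd 0, .bwd 903, .fwd 0] [6] (.free), .derive 24 [.fwd 1382, .bwd 0] [] (.free), .derive 53 [.bwd 0] [] (.free), .derive 24 [.bwd 0, .fwd 1290, .fwd 198] [5] (.free), .derive 52 [.bwd 1388, .fwd 0] [] (.free), .derive 103 [.bwd 0] [] (.free), .derive 52 [.bwd 0, .bwd 1110] [4] (.free),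
  .derive 101 [.fwd 1300, .fwd 0] [] (.free), .derive 186 [.bwd 0] [] (.free), .derive 101 [.bwd 0, .fwd 1112, .fwd 192] [5] (.free), .derive 51 [.fwd 1305, .fwd 0] [] (.free)]
def ph1_15 : List Aux := [
  .derive 102 [.bwd 0] [] (.free), .derive 51 [.bwd 0, .fwd 1303] [3] (.free), .derive 41 [.bwd 1398, .fwd 0] [] (.free), .derive 81 [.bwd 0] [] (.free), .derive 41 [.bwd 0, .fwd 1190, .fwd 186] [5] (.free), .derive 80 [.bwd 1349, .fwd 0] [] (.free), .derive 149 [.bwd 0] [] (.free), .derive 80 [.bwd 0, .fwd 1195] [4] (.free),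
  .derive 42 [.bwd 1351, .fwd 0] [] (.free), .derive 82 [.bwd 0] [] (.free), .derive 42 [.bwd 0, .fwd 1350, .fwd 180] [5] (.free), .derive 19 [.fwd 1425, .fwd 0] [] (.free), .derive 43 [.bwd 0] [] (.free), .derive 19 [.bwd 0, .fwd 1424] [3] (.free), .derive 10 [.fwd 1475, .fwd 0] [] (.free), .derive 21 [.bwd 0] [] (.free),
  .derive 10 [.bwd 0, .fwd 1424, .fwd 174] [5] (.free), .derive 20 [.bwd 1476, .fwd 0] [] (.free), .derive 44 [.bwd 0] [] (.free), .derive 20 [.bwd 0, .bwd 1408] [4] (.free), .derive 25 [.fwd 1467, .fwd 0] [] (.free), .derive 54 [.bwd 0] [] (.free), .derive 25 [.bwd 0, .fwd 1410, .fwd 168] [5] (.free), .derive 12 [.fwd 1472, .fwd 0] [] (.free),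
  .derive 26 [.bwd 0] [] (.free), .derive 12 [.bwd 0, .bwd 1470, .fwd 0] [1] (.free), .derive 7 [.fwd 1505, .bwd 0] [] (.free), .derive 12 [.bwd 0] [] (.free), .derive 7 [.bwd 0, .fwd 1477] [5] (.free), .derive 7 [.fwd 1522, .fwd 0] [] (.free), .derive 25 [.bwd 0] [] (.free), .derive 7 [.bwd 0, .fwd 1478] [4] (.free),
  .derive 6 [.bwd 1526, .fwd 0] [] (.free), .derive 20 [.bwd 0] [] (.free), .derive 6 [.bwd 0, .bwd 1493] [5] (.free), .derive 6 [.fwd 1532, .fwd 0] [] (.free), .derive 10 [.bwd 0] [] (.free), .derive 6 [.bwd 0, .fwd 1498] [3] (.free), .derive 11 [.bwd 1520, .fwd 0] [] (.free), .derive 19 [.bwd 0] [] (.free),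
  .derive 11 [.bwd 0, .fwd 1454] [5] (.free), .derive 11 [.fwd 1522, .fwd 0] [] (.free), .derive 42 [.bwd 0] [] (.free), .derive 11 [.bwd 0, .bwd 1386] [4] (.free), .derive 22 [.bwd 1499, .fwd 0] [] (.free), .derive 80 [.bwd 0] [] (.free), .derive 22 [.bwd 0, .bwd 1390] [5] (.free), .derive 22 [.fwd 1501, .fwd 0] [] (.free),
  .derive 41 [.bwd 0] [] (.free), .derive 22 [.bwd 0, .bwd 1445] [3] (.free), .derive 28 [.fwd 1490, .fwd 0] [] (.free), .derive 51 [.bwd 0] [] (.free), .derive 28 [.bwd 0, .fwd 1358] [5] (.free), .derive 28 [.fwd 1492, .fwd 0] [] (.free), .derive 101 [.bwd 0] [] (.free), .derive 28 [.bwd 0, .fwd 1359] [4] (.free),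
  .derive 13 [.fwd 1497, .fwd 0] [] (.free), .derive 52 [.bwd 0] [] (.free), .derive 13 [.bwd 0, .bwd 1453] [5] (.free), .derive 13 [.fwd 1534, .fwd 0] [] (.free), .derive 24 [.bwd 0] [] (.free), .derive 13 [.bwd 0, .fwd 1459] [2] (.free), .derive 27 [.bwd 1506, .fwd 0] [] (.free), .derive 50 [.bwd 0] [] (.free),
  .derive 27 [.bwd 0, .fwd 1371] [6] (.free), .derive 27 [.fwd 1507, .fwd 0] [] (.free), .derive 100 [.bwd 0] [] (.free), .derive 27 [.bwd 0, .fwd 1185, .fwd 282] [5] (.free), .derive 27 [.fwd 1511, .fwd 0] [] (.free), .derive 184 [.bwd 0] [] (.free), .derive 27 [.bwd 0, .bwd 1191] [6] (.free), .derive 27 [.fwd 1513, .fwd 0] [] (.free),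
  .derive 99 [.bwd 0] [] (.free), .derive 27 [.bwd 0, .bwd 1197] [4] (.free), .derive 57 [.bwd 1458, .fwd 0] [] (.free), .derive 182 [.bwd 0] [] (.free), .derive 57 [.bwd 0, .fwd 998] [6] (.free), .derive 57 [.fwd 1459, .fwd 0] [] (.free), .derive 276 [.bwd 0] [] (.free), .derive 57 [.bwd 0, .fwd 999, .fwd 306] [5] (.free),
  .derive 57 [.fwd 1463, .fwd 0] [] (.free), .derive 183 [.bwd 0] [] (.free), .derive 57 [.bwd 0, .bwd 1205] [6] (.free), .derive 57 [.fwd 1465, .fwd 0] [] (.free), .derive 98 [.bwd 0] [] (.free), .derive 57 [.bwd 0, .fwd 1211] [3] (.free), .derive 107 [.bwd 1379, .fwd 0] [] (.free), .derive 181 [.bwd 0] [] (.free),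
  .derive 107 [.bwd 0, .fwd 1012] [6] (.free), .derive 107 [.fwd 1380, .fwd 0] [] (.free), .derive 275 [.bwd 0] [] (.free), .derive 107 [.bwd 0, .fwd 800, .fwd 330] [5] (.free), .derive 107 [.fwd 1384, .fwd 0] [] (.free), .derive 379 [.bwd 0] [] (.free), .derive 107 [.bwd 0, .bwd 805] [6] (.free), .derive 107 [.fwd 1386, .fwd 0] [] (.free),
  .derive 274 [.bwd 0] [] (.free), .derive 107 [.bwd 0, .bwd 815] [4] (.free), .derive 124 [.fwd 1362, .fwd 0] [] (.free), .derive 375 [.bwd 0] [] (.free)]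
def ph1_16 : List Aux := [
  .derive 124 [.bwd 0, .bwd 819] [5] (.free), .derive 124 [.fwd 1364, .fwd 0] [] (.free), .derive 268 [.bwd 0] [] (.free), .derive 124 [.bwd 0, .fwd 820] [6] (.free), .derive 124 [.fwd 1366, .fwd 0] [] (.free), .derive 376 [.bwd 0] [] (.free), .derive 124 [.bwd 0, .fwd 822] [3] (.free), .derive 65 [.fwd 1372, .fwd 0] [] (.free),
  .derive 270 [.bwd 0] [] (.free), .derive 65 [.bwd 0, .bwd 1044] [6] (.free), .derive 65 [.fwd 1477, .fwd 0] [] (.free), .derive 178 [.bwd 0] [] (.free), .derive 65 [.bwd 0, .fwd 1049] [5] (.free), .derive 65 [.fwd 1481, .fwd 0] [] (.free), .derive 269 [.bwd 0] [] (.free), .derive 65 [.bwd 0, .fwd 830] [6] (.free),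
  .derive 65 [.fwd 1483, .fwd 0] [] (.free), .derive 377 [.bwd 0] [] (.free), .derive 65 [.bwd 0, .fwd 832] [4] (.free), .derive 34 [.fwd 1488, .fwd 0] [] (.free), .derive 271 [.bwd 0] [] (.free), .derive 34 [.bwd 0, .bwd 1054] [6] (.free), .derive 34 [.fwd 1550, .fwd 0] [] (.free), .derive 179 [.bwd 0] [] (.free),
  .derive 34 [.bwd 0, .bwd 1254] [5] (.free), .derive 34 [.fwd 1554, .fwd 0] [] (.free), .derive 97 [.bwd 0] [] (.free), .derive 34 [.bwd 0, .fwd 1255] [6] (.free), .derive 34 [.fwd 1556, .fwd 0] [] (.free), .derive 180 [.bwd 0] [] (.free), .derive 246 [.fwd 387, .fwd 0] [] (.free), .derive 34 [.bwd 1, .bwd 1112, .fwd 0] [2] (.free),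
  .derive 17 [.fwd 1562, .bwd 0] [] (.free), .derive 34 [.bwd 0] [] (.free), .derive 17 [.bwd 0, .fwd 1503] [4] (.free), .derive 35 [.bwd 1561, .fwd 0] [] (.free), .derive 65 [.bwd 0] [] (.free), .derive 35 [.bwd 0, .fwd 1402] [3] (.free), .derive 31 [.bwd 1563, .fwd 0] [] (.free), .derive 124 [.bwd 0] [] (.free),
  .derive 31 [.bwd 0, .fwd 1404] [4] (.free), .derive 15 [.fwd 1576, .fwd 0] [] (.free), .derive 107 [.bwd 0] [] (.free), .derive 15 [.bwd 0, .bwd 1436] [3] (.free), .derive 8 [.fwd 1615, .fwd 0] [] (.free), .derive 57 [.bwd 0] [] (.free), .derive 8 [.bwd 0, .bwd 1530] [4] (.free), .derive 9 [.fwd 1634, .fwd 0] [] (.free),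
  .derive 27 [.bwd 0] [] (.free), .derive 9 [.bwd 0, .bwd 1593] [2] (.free), .derive 5 [.fwd 1639, .fwd 0] [] (.free), .derive 13 [.bwd 0] [] (.free), .derive 5 [.bwd 0, .fwd 1593] [4] (.free), .derive 4 [.edge 4, .fwd 0] [] (.free), .derive 28 [.bwd 0] [] (.free), .derive 4 [.bwd 0, .fwd 1595] [3] (.free),
  .derive 2 [.edge 3, .fwd 0] [] (.free), .derive 22 [.bwd 0] [] (.free), .derive 2 [.bwd 0, .bwd 1613] [4] (.free), .derive 0 [.edge 4, .fwd 0] [] (.free), .derive 11 [.bwd 0] [] (.free), .derive 0 [.bwd 0, .bwd 1643] [3] (.free), .derive 1 [.edge 3, .fwd 0] [] (.free), .derive 6 [.bwd 0] [] (.free),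
  .derive 1 [.fwd 1663, .fwd 0] [2] (.free), .commit 0]
def ph1 : List Aux :=
  ((((ph1_0 ++ ph1_1) ++ (ph1_2 ++ ph1_3)) ++ ((ph1_4 ++ ph1_5) ++ (ph1_6 ++ ph1_7))) ++ (((ph1_8 ++ ph1_9) ++ (ph1_10 ++ ph1_11)) ++ ((ph1_12 ++ ph1_13) ++ (ph1_14 ++ (ph1_15 ++ ph1_16)))))

def ph2_0 : List ℕ := [
  12313]

def ph3_0 : List Aux := [
  .node 4 2, .derive 420 [.bwd 0, .edge 0, .fwd 0] [0] (.rel 3), .derive 420 [.bwd 1, .edge 5, .fwd 1] [5] (.rel 26), .derive 420 [.bwd 2, .edge 6, .fwd 2] [6] (.rel 28), .node 5 2, .derive 421 [.bwd 0, .edge 0, .fwd 0] [0] (.rel 3), .derive 421 [.bwd 1, .edge 4, .fwd 5] [4] (.rel 24), .derive 421 [.bwd 2, .edge 5, .fwd 2] [5] (.rel 26),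
  .derive 421 [.bwd 3, .edge 6, .fwd 3] [6] (.rel 28), .node 420 1, .derive 422 [.bwd 0, .bwd 9, .edge 1, .fwd 9, .fwd 0] [2] (.rel 12), .node 420 3, .derive 423 [.bwd 0, .bwd 9, .fwd 0] [5] (.rel 32), .derive 423 [.bwd 1, .bwd 9, .fwd 1] [6] (.rel 34), .derive 423 [.bwd 2, .bwd 12, .bwd 13, .edge 3, .edge 2, .edge 3, .fwd 13, .fwd 2] [2] (.rel 58), .node 421 1,
  .derive 424 [.bwd 0, .bwd 11, .edge 1, .fwd 11, .fwd 0] [2] (.rel 12), .derive 424 [.bwd 1, .fwd 10, .fwd 7] [4] (.rel 16), .node 421 3, .derive 425 [.bwd 0, .bwd 11, .fwd 0] [5] (.rel 32), .derive 425 [.bwd 1, .bwd 11, .fwd 1] [6] (.rel 34), .derive 425 [.bwd 2, .bwd 15, .bwd 16, .edge 3, .edge 2, .edge 3, .fwd 16, .fwd 2] [2] (.rel 58), .node 422 0, .derive 426 [.bwd 0, .bwd 12, .fwd 0] [2] (.rel 2),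
  .node 422 3, .derive 427 [.bwd 0, .bwd 15, .fwd 13] [1] (.rel 15), .node 422 5, .derive 428 [.bwd 0, .bwd 17, .bwd 24, .fwd 17, .fwd 0] [1] (.rel 19), .derive 428 [.bwd 1, .bwd 17, .fwd 1] [2] (.rel 27), .node 422 6, .derive 429 [.bwd 0, .bwd 20, .bwd 26, .fwd 20, .fwd 0] [1] (.rel 21), .node 423 4,
  .derive 430 [.bwd 0, .bwd 19, .fwd 0] [5] (.rel 36), .derive 430 [.bwd 1, .bwd 19, .fwd 1] [6] (.rel 38), .node 424 0, .derive 431 [.bwd 0, .bwd 18, .fwd 0] [2] (.rel 2), .derive 431 [.bwd 1, .fwd 18, .fwd 13] [4] (.rel 6), .node 424 3, .derive 432 [.bwd 0, .bwd 22, .fwd 19] [1] (.rel 15), .node 424 5,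
  .node 424 6, .derive 434 [.bwd 0, .fwd 23, .fwd 11] [4] (.rel 39), .node 425 4, .derive 435 [.bwd 0, .bwd 24, .fwd 36, .fwd 31, .fwd 11] [3] (.rel 31), .derive 435 [.bwd 1, .bwd 24, .fwd 1] [5] (.rel 36), .derive 435 [.bwd 2, .bwd 24, .fwd 2] [6] (.rel 38), .node 426 1, .node 426 3,
  .derive 437 [.bwd 0, .bwd 25, .fwd 23] [0] (.rel 5), .node 426 5, .derive 438 [.bwd 0, .bwd 27, .fwd 23] [0] (.rel 9), .node 426 6, .derive 439 [.bwd 0, .bwd 28, .fwd 0] [2] (.rel 29), .node 427 2, .derive 440 [.bwd 0, .fwd 28, .bwd 39, .bwd 28, .fwd 0] [1] (.rel 13), .node 427 4,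
  .node 427 5, .node 427 6, .node 428 6, .derive 444 [.bwd 0, .bwd 30, .fwd 0] [2] (.rel 29), .derive 444 [.bwd 1, .bwd 9, .bwd 10, .fwd 8] [5] (.rel 68), .node 429 5, .derive 445 [.bwd 0, .bwd 32, .fwd 35, .fwd 3, .fwd 1, .bwd 10, .fwd 12] [6] (.rel 40), .node 431 1,
  .derive 446 [.bwd 0, .fwd 27, .fwd 17] [4] (.rel 16), .node 431 3, .derive 447 [.bwd 0, .bwd 31, .fwd 28] [0] (.rel 5), .node 431 5, .derive 448 [.bwd 0, .bwd 33, .fwd 28] [0] (.rel 9), .node 431 6, .derive 449 [.bwd 0, .bwd 34, .fwd 0] [2] (.rel 29), .node 432 2,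
  .derive 450 [.bwd 0, .fwd 33, .bwd 50, .bwd 33, .fwd 0] [1] (.rel 13), .node 432 4, .derive 451 [.bwd 0, .bwd 36, .fwd 56, .fwd 49, .fwd 18] [3] (.rel 31), .node 432 5, .derive 452 [.bwd 0, .bwd 38, .fwd 36] [3] (.rel 33), .node 432 6, .node 433 6, .derive 454 [.bwd 0, .bwd 10, .bwd 11, .fwd 9] [5] (.rel 68),
  .node 434 5, .derive 455 [.bwd 0, .bwd 40, .fwd 41, .fwd 2, .fwd 1, .bwd 11, .fwd 13] [6] (.rel 40), .node 436 0, .node 436 2, .node 436 3, .derive 458 [.bwd 0, .bwd 38, .fwd 37] [1] (.rel 15), .node 436 5, .node 436 6,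
  .node 437 2, .derive 461 [.bwd 0, .fwd 40, .fwd 35] [0] (.rel 3), .node 437 4, .derive 462 [.bwd 0, .fwd 42, .fwd 35] [0] (.rel 7), .node 437 5, .derive 463 [.bwd 0, .fwd 44, .fwd 36] [0] (.rel 9), .node 437 6, .derive 464 [.bwd 0, .fwd 46, .fwd 37] [0] (.rel 11),
  .derive 464 [.bwd 1, .bwd 48, .fwd 44] [3] (.rel 35), .node 438 1, .node 439 1, .node 440 3]
def ph3_1 : List Aux := [
  .node 440 4, .derive 468 [.bwd 0, .bwd 47, .fwd 45] [2] (.rel 25), .node 440 5, .derive 469 [.bwd 0, .bwd 49, .fwd 46] [2] (.rel 27), .node 440 6, .derive 470 [.bwd 0, .bwd 51, .fwd 47] [2] (.rel 29), .node 441 5, .node 441 6,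
  .derive 472 [.bwd 0, .bwd 52, .fwd 50] [4] (.rel 39), .node 442 6, .derive 473 [.bwd 0, .bwd 16, .bwd 17, .fwd 15] [5] (.rel 68), .node 443 5, .derive 474 [.bwd 0, .bwd 54, .fwd 55, .fwd 2, .fwd 1, .bwd 17, .fwd 19] [6] (.rel 40), .node 444 1, .derive 475 [.bwd 0, .bwd 55, .bwd 86, .fwd 55, .fwd 0] [6] (.rel 20), .node 445 1,
  .derive 476 [.bwd 0, .bwd 54, .bwd 85, .fwd 54, .fwd 0] [5] (.rel 18), .node 446 0, .derive 477 [.bwd 0, .fwd 53, .fwd 35] [4] (.rel 6), .node 446 2, .derive 478 [.bwd 0, .fwd 55, .fwd 36] [4] (.rel 24), .node 446 3, .derive 479 [.bwd 0, .bwd 58, .fwd 56] [1] (.rel 15), .node 446 5,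
  .derive 480 [.bwd 0, .fwd 59, .fwd 37] [4] (.rel 37), .node 446 6, .derive 481 [.bwd 0, .fwd 61, .fwd 38] [4] (.rel 39), .node 447 2, .derive 482 [.bwd 0, .fwd 61, .fwd 56] [0] (.rel 3), .node 447 4, .derive 483 [.bwd 0, .bwd 64, .fwd 93, .fwd 82, .fwd 39] [3] (.rel 31), .node 447 5,
  .derive 484 [.bwd 0, .fwd 65, .fwd 56] [0] (.rel 9), .derive 484 [.bwd 1, .bwd 67, .fwd 65] [3] (.rel 33), .node 447 6, .derive 485 [.bwd 0, .fwd 68, .fwd 57] [0] (.rel 11), .derive 485 [.bwd 1, .bwd 70, .fwd 66] [3] (.rel 35), .node 450 3, .node 450 4, .node 450 6,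
  .derive 488 [.bwd 0, .bwd 68, .fwd 62] [2] (.rel 29), .node 451 5, .derive 489 [.bwd 0, .fwd 67, .fwd 35] [3] (.rel 33), .node 451 6, .derive 490 [.bwd 0, .bwd 70, .fwd 66] [4] (.rel 39), .node 452 6, .derive 491 [.bwd 0, .fwd 69, .fwd 67] [3] (.rel 35), .derive 491 [.bwd 1, .bwd 14, .bwd 15, .fwd 12] [5] (.rel 68),
  .node 453 5, .derive 492 [.bwd 0, .bwd 71, .fwd 73, .fwd 3, .fwd 1, .bwd 14, .fwd 17] [6] (.rel 40), .node 456 3, .node 456 5, .derive 494 [.bwd 0, .bwd 69, .fwd 65] [0] (.rel 9), .node 456 6, .node 457 3, .node 457 6,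
  .derive 497 [.bwd 0, .bwd 72, .fwd 68] [2] (.rel 29), .node 458 4, .node 458 5, .node 458 6, .derive 500 [.bwd 0, .bwd 75, .fwd 72] [3] (.rel 35), .node 459 6, .derive 501 [.bwd 0, .bwd 9, .bwd 10, .fwd 8] [5] (.rel 68), .node 460 1,
  .derive 502 [.bwd 0, .bwd 76, .bwd 117, .fwd 112, .fwd 65] [6] (.rel 20), .node 460 5, .derive 503 [.bwd 0, .bwd 78, .fwd 79, .fwd 4, .fwd 3, .bwd 12, .fwd 14] [6] (.rel 40), .node 461 1, .node 461 3, .derive 505 [.bwd 0, .fwd 79, .fwd 69] [0] (.rel 5), .derive 505 [.bwd 1, .fwd 80, .bwd 116, .bwd 145, .bwd 159, .fwd 145, .fwd 116, .fwd 70] [2] (.rel 58), .derive 504 [.bwd 3, .fwd 2, .fwd 0, .bwd 71, .bwd 117, .fwd 145, .bwd 159, .bwd 170, .edge 3, .edge 2, .edge 1, .edge 3, .fwd 170, .fwd 159, .fwd 156, .bwd 145, .bwd 146, .fwd 160, .fwd 146, .fwd 117, .fwd 116, .fwd 71, .bwd 0, .bwd 2, .bwd 82] [] (.rel 93),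
  .derive 504 [.fwd 0] [] (.free), .derive 437 [.bwd 0, .bwd 5] [1] (.free), .derive 458 [.fwd 88, .fwd 0] [] (.free), .derive 461 [.bwd 0] [] (.free), .derive 458 [.bwd 0, .fwd 7] [3] (.free), .derive 436 [.fwd 92, .fwd 0] [] (.free), .derive 505 [.bwd 0] [] (.free), .derive 436 [.bwd 0, .fwd 8] [2] (.free),
  .derive 457 [.bwd 96, .fwd 0] [] (.free), .derive 467 [.bwd 0] [] (.free), .derive 457 [.bwd 0, .bwd 12, .fwd 3] [0] (.free), .derive 456 [.bwd 100, .bwd 0] [] (.free), .derive 457 [.bwd 2, .bwd 84] [3] (.free), .derive 496 [.bwd 30, .fwd 0] [] (.free), .derive 496 [.fwd 0] [] (.free), .derive 457 [.bwd 3] [] (.free),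
  .derive 456 [.bwd 0, .fwd 33, .fwd 1] [3] (.free), .derive 493 [.bwd 38, .fwd 0] [] (.free), .derive 456 [.bwd 2, .bwd 69] [4] (.free), .derive 477 [.fwd 72, .fwd 0] [] (.free), .derive 456 [.bwd 4, .fwd 36] [6] (.free), .derive 495 [.bwd 39, .fwd 0] [] (.free), .derive 497 [.bwd 0] [] (.free), .derive 478 [.bwd 3] [] (.free),
  .derive 477 [.bwd 0, .bwd 76] [2] (.free), .derive 493 [.fwd 7] [] (.free), .derive 498 [.bwd 40, .bwd 22, .bwd 109, .fwd 107] [2] (.rel 25), .derive 499 [.bwd 40, .bwd 23, .bwd 110, .fwd 106] [2] (.rel 27)]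
def ph3_2 : List Aux := [
  .derive 500 [.bwd 40, .bwd 24, .bwd 111, .fwd 105] [2] (.rel 29), .derive 470 [.fwd 95, .bwd 105, .bwd 0] [0] (.rel 3), .derive 470 [.fwd 0, .fwd 1, .fwd 105, .fwd 149, .bwd 105, .bwd 1, .fwd 41, .bwd 45, .fwd 7] [3] (.rel 59), .derive 469 [.fwd 99, .bwd 109, .bwd 3] [0] (.rel 3), .derive 468 [.fwd 102, .bwd 112, .bwd 5] [0] (.rel 3), .node 462 6, .derive 506 [.bwd 0, .bwd 115, .fwd 111] [4] (.rel 39), .node 465 6,
  .node 466 5, .node 468 3, .node 469 6, .derive 510 [.bwd 0, .fwd 107, .fwd 101] [2] (.rel 29), .derive 510 [.bwd 1, .fwd 8, .bwd 53, .fwd 52] [5] (.rel 68), .node 470 5, .derive 511 [.bwd 0, .fwd 108, .fwd 102] [2] (.rel 27), .derive 511 [.bwd 1, .bwd 110, .fwd 112, .fwd 4, .fwd 2, .bwd 55, .fwd 56] [6] (.rel 40),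
  .node 475 5, .derive 512 [.bwd 0, .bwd 103, .fwd 156, .fwd 118, .fwd 8] [1] (.rel 19), .node 476 6, .derive 513 [.bwd 0, .bwd 103, .fwd 156, .fwd 121, .fwd 11] [1] (.rel 21), .node 477 3, .derive 514 [.bwd 0, .fwd 102, .fwd 70, .fwd 23, .fwd 120, .fwd 11] [4] (.rel 30), .node 477 5, .derive 515 [.bwd 0, .bwd 105, .fwd 99] [0] (.rel 9),
  .node 477 6, .derive 516 [.bwd 0, .fwd 28, .fwd 99] [2] (.rel 29), .node 479 4, .derive 517 [.bwd 0, .bwd 105, .fwd 162, .fwd 142, .fwd 69] [3] (.rel 31), .node 479 6, .derive 518 [.bwd 0, .bwd 107, .fwd 103] [3] (.rel 35), .node 480 6, .derive 519 [.bwd 0, .fwd 106, .fwd 69] [4] (.rel 39),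
  .derive 519 [.bwd 1, .bwd 8, .bwd 9, .fwd 7] [5] (.rel 68), .node 481 1, .derive 520 [.bwd 0, .fwd 107, .fwd 70] [4] (.rel 16), .node 481 5, .derive 521 [.bwd 0, .fwd 109, .fwd 70] [4] (.rel 37), .derive 521 [.bwd 1, .bwd 111, .fwd 113, .fwd 6, .fwd 4, .bwd 12, .fwd 14] [6] (.rel 40), .node 482 1, .node 482 3,
  .derive 523 [.bwd 0, .fwd 111, .bwd 168, .bwd 202, .bwd 223, .fwd 202, .fwd 168, .fwd 102] [2] (.rel 58), .derive 522 [.bwd 2, .fwd 1, .fwd 0, .bwd 103, .bwd 169, .fwd 202, .bwd 222, .bwd 236, .edge 3, .edge 2, .edge 1, .edge 3, .fwd 236, .fwd 222, .fwd 219, .bwd 202, .bwd 203, .fwd 224, .fwd 203, .fwd 169, .fwd 168, .fwd 103, .bwd 0, .bwd 1, .bwd 113] [] (.rel 93), .derive 522 [.fwd 0] [] (.free), .derive 447 [.bwd 0, .bwd 4] [1] (.free), .derive 479 [.fwd 121, .fwd 0] [] (.free), .derive 482 [.bwd 0] [] (.free), .derive 479 [.bwd 0, .fwd 6] [3] (.free), .derive 446 [.fwd 125, .fwd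 0] [] (.free),
  .derive 523 [.bwd 0] [] (.free), .derive 446 [.bwd 0, .fwd 8] [2] (.free), .derive 478 [.bwd 130, .fwd 0] [] (.free), .derive 486 [.bwd 0, .fwd 55] [] (.free), .derive 477 [.bwd 0, .bwd 114] [3] (.free), .derive 514 [.bwd 32, .fwd 0] [] (.free), .derive 514 [.fwd 0] [] (.free), .derive 450 [.bwd 0, .fwd 33] [4] (.free),
  .derive 487 [.bwd 117, .fwd 0] [] (.free), .derive 509 [.bwd 0] [] (.free), .derive 517 [.bwd 31, .bwd 12, .bwd 130, .fwd 128] [2] (.rel 25), .derive 518 [.bwd 30, .bwd 13, .bwd 131, .fwd 124] [2] (.rel 29), .derive 488 [.fwd 119, .bwd 124, .bwd 0] [0] (.rel 3), .derive 488 [.fwd 0, .fwd 1, .fwd 124, .fwd 190, .bwd 124, .bwd 1, .fwd 31, .bwd 35] [3] (.rel 59), .derive 487 [.bwd 4, .bwd 52, .fwd 57, .fwd 63, .bwd 131, .bwd 3, .fwd 34, .fwd 63, .bwd 131, .bwd 3] [] (.rel 58), .derive 517 [.bwd 0] [] (.free),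
  .derive 487 [.bwd 0, .bwd 37] [4] (.free), .derive 450 [.fwd 126, .fwd 0] [] (.free), .derive 479 [.bwd 0] [] (.free), .derive 450 [.bwd 0, .fwd 38] [6] (.free), .derive 488 [.bwd 128, .fwd 0] [] (.free), .derive 518 [.bwd 0] [] (.free), .derive 488 [.bwd 0, .fwd 40] [3] (.free), .derive 516 [.bwd 9, .fwd 0] [] (.free),
  .derive 516 [.fwd 0] [] (.free), .derive 481 [.bwd 0, .bwd 48] [6] (.free), .derive 446 [.fwd 148, .fwd 0] [] (.free), .derive 477 [.bwd 0] [] (.free), .derive 446 [.bwd 0, .fwd 53] [5] (.free), .derive 480 [.bwd 153, .fwd 0] [] (.free), .derive 515 [.bwd 0] [] (.free), .derive 480 [.bwd 0, .bwd 41] [6] (.free),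
  .derive 519 [.bwd 49, .fwd 0] [] (.free), .derive 521 [.bwd 0] [] (.free), .derive 519 [.bwd 0, .fwd 45] [4] (.free), .derive 501 [.bwd 51, .fwd 0] [] (.free), .derive 503 [.bwd 0] [] (.free), .derive 501 [.bwd 0, .fwd 118] [6] (.free), .derive 459 [.fwd 124, .fwd 0] [] (.free), .derive 494 [.bwd 0] [] (.free),
  .derive 459 [.bwd 0, .bwd 136] [5] (.free), .derive 436 [.fwd 202, .fwd 0] [] (.free), .derive 456 [.bwd 0] [] (.free), .derive 436 [.bwd 0, .fwd 137] [6] (.free), .derive 460 [.bwd 204, .fwd 0] [] (.free), .derive 495 [.bwd 0] [] (.free), .derive 460 [.bwd 0, .bwd 91] [3] (.free), .derive 500 [.fwd 134, .fwd 0] [] (.free),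
  .derive 500 [.fwd 0] [] (.free), .derive 470 [.bwd 0, .bwd 137] [6] (.free), .derive 440 [.fwd 193, .fwd 0] [] (.free), .derive 458 [.bwd 0] [] (.free)]
def ph3_3 : List Aux := [
  .derive 440 [.bwd 0, .fwd 141] [5] (.free), .derive 469 [.bwd 198, .fwd 0] [] (.free), .derive 499 [.bwd 0] [] (.free), .derive 469 [.bwd 0, .bwd 87] [6] (.free), .derive 510 [.bwd 93, .fwd 0] [] (.free), .derive 511 [.bwd 0] [] (.free), .derive 510 [.bwd 0, .fwd 91] [2] (.free), .derive 473 [.bwd 95, .fwd 0] [] (.free),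
  .derive 474 [.bwd 0] [] (.free), .derive 473 [.bwd 0, .fwd 196] [6] (.free), .derive 442 [.fwd 200, .fwd 0] [] (.free), .derive 463 [.bwd 0] [] (.free), .derive 442 [.bwd 0, .bwd 219] [5] (.free), .derive 427 [.fwd 256, .fwd 0] [] (.free), .derive 437 [.bwd 0] [] (.free), .derive 427 [.bwd 0, .fwd 220] [6] (.free),
  .derive 443 [.bwd 258, .fwd 0] [] (.free), .derive 464 [.bwd 0] [] (.free), .derive 443 [.bwd 0, .bwd 111] [4] (.free), .derive 472 [.fwd 210, .fwd 0] [] (.free), .derive 506 [.bwd 0] [] (.free), .derive 472 [.bwd 0, .bwd 115] [6] (.free), .derive 441 [.fwd 214, .fwd 0] [] (.free), .derive 462 [.bwd 0] [] (.free),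
  .derive 441 [.bwd 0, .bwd 193] [3] (.free), .derive 451 [.fwd 250, .fwd 0] [] (.free), .derive 483 [.bwd 0] [] (.free), .derive 451 [.bwd 0, .bwd 197] [4] (.free), .derive 432 [.fwd 254, .fwd 0] [] (.free), .derive 447 [.bwd 0] [] (.free), .derive 432 [.bwd 0, .fwd 195] [6] (.free), .derive 453 [.bwd 253, .fwd 0] [] (.free),
  .derive 485 [.bwd 0] [] (.free), .derive 453 [.bwd 0, .bwd 185] [5] (.free), .derive 492 [.bwd 185, .fwd 0] [] (.free), .derive 492 [.fwd 0] [] (.free), .derive 491 [.bwd 0, .fwd 186] [6] (.free), .derive 452 [.fwd 191, .fwd 0] [] (.free), .derive 484 [.bwd 0] [] (.free), .derive 452 [.bwd 0, .fwd 205] [3] (.free),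
  .derive 433 [.bwd 263, .fwd 0] [] (.free), .derive 448 [.bwd 0] [] (.free), .derive 433 [.bwd 0, .bwd 260] [6] (.free), .derive 454 [.bwd 264, .fwd 0] [] (.free), .derive 455 [.bwd 0] [] (.free), .derive 454 [.bwd 0, .bwd 264] [5] (.free), .derive 449 [.bwd 266, .fwd 0] [] (.free), .derive 449 [.fwd 0] [] (.free),
  .derive 434 [.bwd 0, .bwd 278] [6] (.free), .derive 424 [.fwd 308, .fwd 0] [] (.free), .derive 431 [.bwd 0] [] (.free), .derive 424 [.bwd 0, .fwd 314] [4] (.free), .derive 422 [.bwd 334, .fwd 0] [] (.free), .derive 426 [.bwd 0] [] (.free), .derive 422 [.bwd 0, .fwd 302] [6] (.free), .derive 429 [.bwd 325, .fwd 0] [] (.free),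
  .derive 439 [.bwd 0] [] (.free), .derive 429 [.bwd 0, .bwd 296] [5] (.free), .derive 445 [.bwd 296, .fwd 0] [] (.free), .derive 445 [.fwd 0] [] (.free), .derive 444 [.bwd 0, .fwd 297] [6] (.free), .derive 428 [.fwd 302, .fwd 0] [] (.free), .derive 438 [.bwd 0] [] (.free), .derive 428 [.bwd 0, .fwd 265] [1] (.free),
  .derive 428 [.fwd 336, .fwd 0] [] (.free), .derive 465 [.bwd 0] [] (.free), .derive 428 [.bwd 0, .fwd 158] [6] (.free), .derive 444 [.bwd 308, .fwd 0] [] (.free), .derive 507 [.bwd 0] [] (.free), .derive 444 [.bwd 0, .bwd 149] [1] (.free), .derive 475 [.bwd 256, .fwd 0] [] (.free), .derive 513 [.bwd 0] [] (.free),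
  .derive 475 [.bwd 0, .bwd 153] [6] (.free), .derive 475 [.fwd 258, .fwd 0] [] (.free), .derive 476 [.bwd 0] [] (.free), .derive 475 [.bwd 0, .bwd 258, .fwd 0] [5] (.free), .derive 512 [.bwd 159, .bwd 0] [] (.free), .derive 512 [.fwd 0] [] (.free), .derive 475 [.bwd 0, .fwd 160] [1] (.free), .derive 444 [.fwd 265, .fwd 0] [] (.free),
  .derive 508 [.bwd 0] [] (.free), .derive 444 [.bwd 0, .bwd 172] [5] (.free), .derive 439 [.bwd 321, .fwd 0] [] (.free), .derive 466 [.bwd 0, .fwd 26] [] (.free), .derive 429 [.bwd 0, .bwd 219] [6] (.free), .derive 422 [.fwd 355, .fwd 0] [] (.free), .derive 502 [.bwd 0] [] (.free), .derive 422 [.bwd 0, .bwd 152] [4] (.free),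
  .derive 424 [.fwd 370, .fwd 0] [] (.free), .derive 520 [.bwd 0] [] (.free), .derive 424 [.bwd 0, .bwd 156] [1] (.free), .derive 421 [.fwd 375, .fwd 0] [] (.free), .derive 481 [.bwd 0] [] (.free), .derive 421 [.bwd 0, .bwd 267] [6] (.free), .derive 421 [.fwd 385, .fwd 0] [] (.free), .derive 446 [.bwd 0] [] (.free),
  .derive 421 [.bwd 0, .fwd 272] [5] (.free), .derive 421 [.fwd 389, .fwd 0] [] (.free), .derive 480 [.bwd 0] [] (.free), .derive 421 [.bwd 0, .fwd 168] [6] (.free)]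
def ph3_4 : List Aux := [
  .derive 421 [.fwd 391, .fwd 0] [] (.free), .derive 519 [.bwd 0] [] (.free), .derive 421 [.bwd 0, .fwd 170] [4] (.free), .derive 420 [.bwd 396, .fwd 0] [] (.free), .derive 501 [.bwd 0] [] (.free), .derive 420 [.bwd 0, .bwd 243] [6] (.free), .derive 420 [.fwd 402, .fwd 0] [] (.free), .derive 459 [.bwd 0] [] (.free),
  .derive 420 [.bwd 0, .bwd 321] [5] (.free), .derive 420 [.fwd 406, .fwd 0] [] (.free), .derive 436 [.bwd 0] [] (.free), .derive 420 [.bwd 0, .fwd 323] [6] (.free), .derive 420 [.fwd 408, .fwd 0] [] (.free), .derive 460 [.bwd 0] [] (.free), .derive 420 [.bwd 0, .bwd 253, .fwd 117] [3] (.free), .derive 423 [.bwd 403, .fwd 0] [] (.free),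
  .derive 470 [.bwd 0] [] (.free), .derive 423 [.bwd 0, .bwd 312] [6] (.free), .derive 423 [.fwd 404, .fwd 0] [] (.free), .derive 440 [.bwd 0] [] (.free), .derive 423 [.bwd 0, .fwd 317] [5] (.free), .derive 423 [.fwd 408, .fwd 0] [] (.free), .derive 469 [.bwd 0] [] (.free), .derive 423 [.bwd 0, .fwd 212] [6] (.free),
  .derive 423 [.fwd 410, .fwd 0] [] (.free), .derive 510 [.bwd 0] [] (.free), .derive 423 [.bwd 0, .fwd 214] [2] (.free), .derive 423 [.fwd 412, .fwd 0] [] (.free), .derive 473 [.bwd 0] [] (.free), .derive 423 [.bwd 0, .bwd 319] [6] (.free), .derive 423 [.fwd 416, .fwd 0] [] (.free), .derive 442 [.bwd 0] [] (.free),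
  .derive 423 [.bwd 0, .bwd 375] [5] (.free), .derive 423 [.fwd 420, .fwd 0] [] (.free), .derive 427 [.bwd 0] [] (.free), .derive 423 [.bwd 0, .fwd 377] [6] (.free), .derive 423 [.fwd 422, .fwd 0] [] (.free), .derive 443 [.bwd 0] [] (.free), .derive 423 [.bwd 0, .bwd 329] [4] (.free), .derive 430 [.bwd 407, .fwd 0] [] (.free),
  .derive 472 [.bwd 0] [] (.free), .derive 430 [.bwd 0, .bwd 333] [6] (.free), .derive 430 [.fwd 408, .fwd 0] [] (.free), .derive 441 [.bwd 0] [] (.free), .derive 430 [.bwd 0, .fwd 337] [5] (.free), .derive 430 [.fwd 412, .fwd 0] [] (.free), .derive 471 [.bwd 0] [] (.free), .derive 430 [.bwd 0, .bwd 304] [3] (.free),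
  .derive 435 [.fwd 404, .fwd 0] [] (.free), .derive 489 [.bwd 0] [] (.free), .derive 435 [.bwd 0, .bwd 308] [5] (.free), .derive 435 [.fwd 406, .fwd 0] [] (.free), .derive 451 [.bwd 0] [] (.free), .derive 435 [.bwd 0, .fwd 309] [6] (.free), .derive 435 [.fwd 408, .fwd 0] [] (.free), .derive 490 [.bwd 0] [] (.free),
  .derive 435 [.bwd 0, .fwd 311] [4] (.free), .derive 425 [.fwd 414, .fwd 0] [] (.free), .derive 453 [.bwd 0] [] (.free), .derive 425 [.bwd 0, .bwd 381] [6] (.free), .derive 425 [.fwd 439, .fwd 0] [] (.free), .derive 432 [.bwd 0] [] (.free), .derive 425 [.bwd 0, .fwd 386] [5] (.free), .derive 425 [.fwd 443, .fwd 0] [] (.free),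
  .derive 452 [.bwd 0] [] (.free), .derive 425 [.bwd 0, .fwd 319] [6] (.free), .derive 425 [.fwd 445, .fwd 0] [] (.free), .derive 491 [.bwd 0] [] (.free), .derive 425 [.bwd 0, .fwd 321] [3] (.free), .derive 421 [.fwd 450, .fwd 0] [] (.free), .derive 454 [.bwd 0] [] (.free), .derive 421 [.bwd 0, .bwd 392] [6] (.free),
  .derive 421 [.fwd 463, .fwd 0] [] (.free), .derive 433 [.bwd 0] [] (.free), .derive 421 [.bwd 0, .bwd 434] [5] (.free), .derive 421 [.fwd 467, .fwd 0] [] (.free), .derive 424 [.bwd 0] [] (.free), .derive 421 [.bwd 0, .fwd 436] [6] (.free), .derive 421 [.fwd 469, .fwd 0] [] (.free), .derive 434 [.bwd 0] [] (.free),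
  .derive 421 [.bwd 0, .fwd 438] [4] (.free), .derive 420 [.bwd 474, .fwd 0] [] (.free), .derive 429 [.bwd 0] [] (.free), .derive 420 [.bwd 0, .bwd 453] [6] (.free), .derive 420 [.fwd 480, .fwd 0] [] (.free), .derive 422 [.bwd 0] [] (.free), .derive 420 [.bwd 0, .fwd 459] [5] (.free), .derive 420 [.fwd 484, .fwd 0] [] (.free),
  .derive 428 [.bwd 0] [] (.free), .derive 420 [.bwd 0, .fwd 430] [6] (.free), .derive 420 [.fwd 486, .fwd 0] [] (.free), .derive 444 [.bwd 0] [] (.free), .derive 420 [.bwd 0, .bwd 432, .fwd 0] [2] (.free), .derive 4 [.fwd 492, .bwd 0] [] (.free), .derive 420 [.bwd 0] [] (.free), .derive 4 [.fwd 494, .fwd 0] [2] (.free),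
  .commit 0]
def ph3 : List Aux :=
  ((ph3_0 ++ ph3_1) ++ (ph3_2 ++ (ph3_3 ++ ph3_4)))

def ph4_0 : List ℕ := [
  20505]

/-- known edges at a check point -/
def mask0 : ℕ := 0x4083060c18

theorem treeRun_ok : stIs (runList (treeStep P) tree ⟨1, 0, []⟩) 6 mask0 = true := by decide +kernel

def seg0 : List Phase := [.scans ph0_0, .aux ph1, .scans ph2_0, .aux ph3, .scans ph4_0]

theorem seg0_ok : stIs (runList (phaseStep P) seg0 ⟨6, mask0, []⟩) 524 (2 ^ (6 * P.k) - 1) = true := by decide +kernel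

/-- the certificate -/
def phases : List Phase :=
  seg0

theorem cert_ok : checkCert P 6 tree phases = true :=
  checkCert_of_run P treeRun_ok (run_last P seg0_ok)

theorem gen0_ok : genOK P 6 0 = true := by decide +kernel

theorem gen1_ok : genOK P 6 1 = true := by decide +kernel

theorem gen2_ok : genOK P 6 2 = true := by decide +kernel

theorem gen3_ok : genOK P 6 3 = true := by decide +kernel

theorem gen4_ok : genOK P 6 4 = true := by decide +kernel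

theorem gen5_ok : genOK P 6 5 = true := by decide +kernel

theorem gen6_ok : genOK P 6 6 = true := by decide +kernel

theorem tab_ok : tableOK P 6 = true := tableOK_of_gens P (by decide +kernel) (by decide +kernel) fun x hx =>
  match x, hx with
  | 0, _ => gen0_ok
  | 1, _ => gen1_ok
  | 2, _ => gen2_ok
  | 3, _ => gen3_ok
  | 4, _ => gen4_ok
  | 5, _ => gen5_ok
  | 6, _ => gen6_ok
  | _ + 7, hx => absurd (show _ + 7 < 7 from hx) (by omega)

theorem base0_ok : Fixes P 6 [0, 1, 0, 1, 0, 1, 0, 1, 0, 1] :=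
  fixes_of_powFix P (u := [0, 1]) (e := 5) (by decide +kernel) (by decide +kernel)

theorem base1_ok : Fixes P 6 [0, 2, 0, 2] :=
  fixes_of_powFix P (u := [0, 2]) (e := 2) (by decide +kernel) (by decide +kernel)

theorem base2_ok : Fixes P 6 [0, 3, 0, 3] :=
  fixes_of_powFix P (u := [0, 3]) (e := 2) (by decide +kernel) (by decide +kernel)

theorem base3_ok : Fixes P 6 [0, 4, 0, 4] :=
  fixes_of_powFix P (u := [0, 4]) (e := 2) (by decide +kernel) (by decide +kernel)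

theorem base4_ok : Fixes P 6 [0, 5, 0, 5] :=
  fixes_of_powFix P (u := [0, 5]) (e := 2) (by decide +kernel) (by decide +kernel)

theorem base5_ok : Fixes P 6 [0, 6, 0, 6] :=
  fixes_of_powFix P (u := [0, 6]) (e := 2) (by decide +kernel) (by decide +kernel)

theorem base6_ok : Fixes P 6 [1, 2, 1, 2, 1, 2] :=
  fixes_of_powFix P (u := [1, 2]) (e := 3) (by decide +kernel) (by decide +kernel)

theorem base7_ok : Fixes P 6 [1, 3, 1, 3] :=
  fixes_of_powFix P (u := [1, 3]) (e := 2) (by decide +kernel) (by decide +kernel)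

theorem base8_ok : Fixes P 6 [1, 4, 1, 4] :=
  fixes_of_powFix P (u := [1, 4]) (e := 2) (by decide +kernel) (by decide +kernel)

theorem base9_ok : Fixes P 6 [1, 5, 1, 5, 1, 5] :=
  fixes_of_powFix P (u := [1, 5]) (e := 3) (by decide +kernel) (by decide +kernel)

theorem base10_ok : Fixes P 6 [1, 6, 1, 6, 1, 6] :=
  fixes_of_powFix P (u := [1, 6]) (e := 3) (by decide +kernel) (by decide +kernel)

theorem base11_ok : Fixes P 6 [2, 3, 2, 3, 2, 3, 2, 3, 2, 3, 2, 3, 2, 3, 2, 3] :=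
  fixes_of_powFix P (u := [2, 3]) (e := 8) (by decide +kernel) (by decide +kernel)

theorem base12_ok : Fixes P 6 [2, 4, 2, 4] :=
  fixes_of_powFix P (u := [2, 4]) (e := 2) (by decide +kernel) (by decide +kernel)

theorem base13_ok : Fixes P 6 [2, 5, 2, 5] :=
  fixes_of_powFix P (u := [2, 5]) (e := 2) (by decide +kernel) (by decide +kernel)

theorem base14_ok : Fixes P 6 [2, 6, 2, 6] :=
  fixes_of_powFix P (u := [2, 6]) (e := 2) (by decide +kernel) (by decide +kernel)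

theorem base15_ok : Fixes P 6 [3, 4, 3, 4, 3, 4] :=
  fixes_of_powFix P (u := [3, 4]) (e := 3) (by decide +kernel) (by decide +kernel)

theorem base16_ok : Fixes P 6 [3, 5, 3, 5] :=
  fixes_of_powFix P (u := [3, 5]) (e := 2) (by decide +kernel) (by decide +kernel)

theorem base17_ok : Fixes P 6 [3, 6, 3, 6] :=
  fixes_of_powFix P (u := [3, 6]) (e := 2) (by decide +kernel) (by decide +kernel)

theorem base18_ok : Fixes P 6 [4, 5, 4, 5] :=
  fixes_of_powFix P (u := [4, 5]) (e := 2) (by decide +kernel) (by decide +kernel)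

theorem base19_ok : Fixes P 6 [4, 6, 4, 6] :=
  fixes_of_powFix P (u := [4, 6]) (e := 2) (by decide +kernel) (by decide +kernel)

theorem base20_ok : Fixes P 6 [5, 6, 5, 6, 5, 6, 5, 6] :=
  fixes_of_powFix P (u := [5, 6]) (e := 4) (by decide +kernel) (by decide +kernel)

theorem base21_ok : Fixes P 6 [0, 3, 2, 3, 2, 3, 2, 3, 2] := fixes_of_wordFix P (by decide +kernel)

theorem base22_ok : Fixes P 6 [0, 6, 5, 6, 5] := fixes_of_wordFix P (by decide +kernel)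

theorem base23_ok : Fixes P 6 [0, 1, 2, 5, 0, 1, 2, 5, 0, 1, 2, 5, 0, 1, 2, 5, 0, 1, 2, 5] :=
  fixes_of_powFix P (u := [0, 1, 2, 5]) (e := 5) (by decide +kernel) (by decide +kernel)

theorem base24_ok : Fixes P 6 [1, 5, 6, 1, 5, 6, 1, 5, 6, 1, 5, 6, 1, 5, 6] :=
  fixes_of_powFix P (u := [1, 5, 6]) (e := 5) (by decide +kernel) (by decide +kernel)

theorem base25_ok : Fixes P 6 [1, 2, 3, 2, 3, 1, 2, 3, 2, 3, 1, 2, 3, 2, 3, 1, 2, 3, 2, 3, 1, 2, 3, 2, 3] :=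
  fixes_of_powFix P (u := [1, 2, 3, 2, 3]) (e := 5) (by decide +kernel) (by decide +kernel)

theorem base_ok : ∀ w ∈ base, Fixes P 6 w := by
  intro w hw
  rw [base] at hw
  rcases List.mem_cons.1 hw with rfl | hw
  · exact base0_ok
  rcases List.mem_cons.1 hw with rfl | hw
  · exact base1_ok
  rcases List.mem_cons.1 hw with rfl | hw
  · exact base2_ok
  rcases List.mem_cons.1 hw with rfl | hw
  · exact base3_ok
  rcases List.mem_cons.1 hw with rfl | hw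
  · exact base4_ok
  rcases List.mem_cons.1 hw with rfl | hw
  · exact base5_ok
  rcases List.mem_cons.1 hw with rfl | hw
  · exact base6_ok
  rcases List.mem_cons.1 hw with rfl | hw
  · exact base7_ok
  rcases List.mem_cons.1 hw with rfl | hw
  · exact base8_ok
  rcases List.mem_cons.1 hw with rfl | hw
  · exact base9_ok
  rcases List.mem_cons.1 hw with rfl | hw
  · exact base10_ok
  rcases List.mem_cons.1 hw with rfl | hw
  · exact base11_ok
  rcases List.mem_cons.1 hw with rfl | hw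
  · exact base12_ok
  rcases List.mem_cons.1 hw with rfl | hw
  · exact base13_ok
  rcases List.mem_cons.1 hw with rfl | hw
  · exact base14_ok
  rcases List.mem_cons.1 hw with rfl | hw
  · exact base15_ok
  rcases List.mem_cons.1 hw with rfl | hw
  · exact base16_ok
  rcases List.mem_cons.1 hw with rfl | hw
  · exact base17_ok
  rcases List.mem_cons.1 hw with rfl | hw
  · exact base18_ok
  rcases List.mem_cons.1 hw with rfl | hw
  · exact base19_ok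
  rcases List.mem_cons.1 hw with rfl | hw
  · exact base20_ok
  rcases List.mem_cons.1 hw with rfl | hw
  · exact base21_ok
  rcases List.mem_cons.1 hw with rfl | hw
  · exact base22_ok
  rcases List.mem_cons.1 hw with rfl | hw
  · exact base23_ok
  rcases List.mem_cons.1 hw with rfl | hw
  · exact base24_ok
  rcases List.mem_cons.1 hw with rfl | hw
  · exact base25_ok
  exact absurd hw List.not_mem_nil

theorem rots_ok : rotsOK base rots.entries hints = true := by decide +kernel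

theorem fix_ok : wordsFixBase P sw = true := by decide +kernel

theorem tree_ok : treeOK P tree 0 = true := by decide +kernel

theorem tree_len : tree.length + 1 = 6 := by decide +kernel

end Cfsg.Agent.SuzHom.CollapseData
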