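import Cfsg.Prelude.Def_Spor_Suz
import Cfsg.Agent.Lib.SuzHom.Collapse

/-!
Seven elements satisfying the relations of the Suzuki group give a homomorphism from the presented group.
-/

set_option autoImplicit false

namespace Cfsg.Agent.SuzHom

open Cfsg.Spor
open Cfsg.Spor.Suz (Gen edges extra)

variable {G : Type*} [Group G]

/-- The data of seven elements with all the relations but the last one. -/
structure Gens (G : Type*) [Group G] where
  v : Gen → G
  sq : ∀ x, v x * v x = 1
  ab : (v .a * v .b) ^ 5 = 1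
  ac : Commute (v .a) (v .c)
  ad : Commute (v .a) (v .d)
  ae : Commute (v .a) (v .e)
  af : Commute (v .a) (v .f)
  ag : Commute (v .a) (v .g)
  bc : (v .b * v .c) ^ 3 = 1
  bd : Commute (v .b) (v .d)
  be : Commute (v .b) (v .e)
  bf : (v .b * v .f) ^ 3 = 1
  bg : (v .b * v .g) ^ 3 = 1
  cd : (v .c * v .d) ^ 8 = 1
  ce : Commute (v .c) (v .e)
  cf : Commute (v .c) (v .f)
  cg : Commute (v .c) (v .g)
  de : (v .d * v .e) ^ 3 = 1
  df : Commute (v .d) (v .f)
  dg : Commute (v .d) (v .g)
  ef : Commute (v .e) (v .f)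
  eg : Commute (v .e) (v .g)
  fg : (v .f * v .g) ^ 4 = 1
  r1 : v .a = (v .c * v .d) ^ 4
  r2 : v .a = (v .f * v .g) ^ 2
  r3 : (v .a * v .b * v .c * v .f) ^ 5 = 1
  r4 : (v .b * v .f * v .g) ^ 5 = 1

namespace Gens

variable (W : Gens G)

theorem swap {x y : G} {n : ℕ} (_hx : x * x = 1) (h : (x * y) ^ n = 1) : (y * x) ^ n = 1 := by
  have e : y * x = x⁻¹ * (x * y) * x⁻¹⁻¹ := by
    rw [inv_inv, mul_assoc x⁻¹, mul_assoc x y x, inv_mul_cancel_left]
  rw [e, conj_pow, h, mul_one, mul_inv_cancel]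

theorem two {x y : G} (hx : x * x = 1) (hy : y * y = 1) (h : Commute x y) : (x * y) ^ 2 = 1 := by
  rw [h.mul_pow, pow_two, pow_two, hx, hy, mul_one]

theorem cox (x y : Gen) : (W.v x * W.v y) ^ coxLabel edges x y = 1 := by
  have key : ∀ {x y : Gen} {n : ℕ}, coxLabel edges x y = n → coxLabel edges y x = n → (W.v x * W.v y) ^ n = 1 →
      (W.v x * W.v y) ^ coxLabel edges x y = 1 ∧ (W.v y * W.v x) ^ coxLabel edges y x = 1 := by
    intro x y n h1 h2 h
    rw [h1, h2]
    exact ⟨h, swap (W.sq x) h⟩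
  have two' : ∀ {x y : Gen}, coxLabel edges x y = 2 → coxLabel edges y x = 2 → Commute (W.v x) (W.v y) →
      (W.v x * W.v y) ^ coxLabel edges x y = 1 ∧ (W.v y * W.v x) ^ coxLabel edges y x = 1 := fun h1 h2 h =>
    key h1 h2 (two (W.sq _) (W.sq _) h)
  have diag : ∀ x : Gen, (W.v x * W.v x) ^ coxLabel edges x x = 1 := fun x => by rw [W.sq, one_pow]
  have kab := key (x := .a) (y := .b) (n := 5) rfl rfl W.ab
  have kac := two' (x := .a) (y := .c) rfl rfl W.ac
  have kad := two' (x := .a) (y := .d) rfl rfl W.ad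
  have kae := two' (x := .a) (y := .e) rfl rfl W.ae
  have kaf := two' (x := .a) (y := .f) rfl rfl W.af
  have kag := two' (x := .a) (y := .g) rfl rfl W.ag
  have kbc := key (x := .b) (y := .c) (n := 3) rfl rfl W.bc
  have kbd := two' (x := .b) (y := .d) rfl rfl W.bd
  have kbe := two' (x := .b) (y := .e) rfl rfl W.be
  have kbf := key (x := .b) (y := .f) (n := 3) rfl rfl W.bf
  have kbg := key (x := .b) (y := .g) (n := 3) rfl rfl W.bg
  have kcd := key (x := .c) (y := .d) (n := 8) rfl rfl W.cd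
  have kce := two' (x := .c) (y := .e) rfl rfl W.ce
  have kcf := two' (x := .c) (y := .f) rfl rfl W.cf
  have kcg := two' (x := .c) (y := .g) rfl rfl W.cg
  have kde := key (x := .d) (y := .e) (n := 3) rfl rfl W.de
  have kdf := two' (x := .d) (y := .f) rfl rfl W.df
  have kdg := two' (x := .d) (y := .g) rfl rfl W.dg
  have kef := two' (x := .e) (y := .f) rfl rfl W.ef
  have keg := two' (x := .e) (y := .g) rfl rfl W.eg
  have kfg := key (x := .f) (y := .g) (n := 4) rfl rfl W.fg
  cases x <;> cases y <;>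
    first
    | exact diag _
    | exact kab.1 | exact kab.2 | exact kac.1 | exact kac.2 | exact kad.1 | exact kad.2 | exact kae.1 | exact kae.2
    | exact kaf.1 | exact kaf.2 | exact kag.1 | exact kag.2 | exact kbc.1 | exact kbc.2 | exact kbd.1 | exact kbd.2
    | exact kbe.1 | exact kbe.2 | exact kbf.1 | exact kbf.2 | exact kbg.1 | exact kbg.2 | exact kcd.1 | exact kcd.2
    | exact kce.1 | exact kce.2 | exact kcf.1 | exact kcf.2 | exact kcg.1 | exact kcg.2 | exact kde.1 | exact kde.2
    | exact kdf.1 | exact kdf.2 | exact kdg.1 | exact kdg.2 | exact kef.1 | exact kef.2 | exact keg.1 | exact keg.2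
    | exact kfg.1 | exact kfg.2

/-- The homomorphism, given the last relation. -/
theorem exists_hom (h5 : ((W.v .b * W.v .c * W.v .d * W.v .c * W.v .d) ^ 5 * W.v .e) ^ 3 = 1) :
    ∃ f : Cfsg.Spor.Suz →* G, ∀ x, f (PresentedGroup.of x) = W.v x := by
  have hrels : ∀ r ∈ coxRelators edges ∪ {r | r ∈ extra}, FreeGroup.lift W.v r = 1 := by
    rintro r (⟨x, -, y, -, rfl⟩ | hr)
    · rw [map_pow, map_mul, FreeGroup.lift_apply_of, FreeGroup.lift_apply_of]
      exact W.cox x y
    · simp only [extra, Set.mem_setOf_eq, List.mem_cons, List.not_mem_nil, or_false] at hr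
      rcases hr with rfl | rfl | rfl | rfl | rfl <;>
        simp only [map_mul, map_inv, map_pow, FreeGroup.lift_apply_of]
      · rw [← W.r1, mul_inv_cancel]
      · rw [← W.r2, mul_inv_cancel]
      · exact W.r3
      · exact W.r4
      · exact h5
  exact ⟨PresentedGroup.toGroup hrels, fun x => PresentedGroup.toGroup.of hrels⟩

/-- The word `(bcdcd)⁵` is not trivial unless `a` is. -/
theorem collapse' (h : (W.v .b * W.v .c * W.v .d * W.v .c * W.v .d) ^ 5 = 1) : W.v .a = 1 := by
  let lst : List Gen := [.a, .b, .c, .d, .e, .f, .g]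
  let gen : ℕ → G := fun n => if h : n < lst.length then W.v lst[n] else 1
  have hinv : ∀ n, gen n * gen n = 1 := fun n => by
    by_cases hn : n < lst.length
    · simp only [gen, dif_pos hn]; exact W.sq _
    · simp only [gen, dif_neg hn, mul_one]
  have hpair : ∀ (x y : Gen) (i j n : ℕ), gen i = W.v x → gen j = W.v y → (W.v x * W.v y) ^ n = 1 →
      Cfsg.Agent.CosetCert.wprod gen (List.replicate n [i, j]).flatten = 1 := by
    intro x y i j n hi hj hn
    suffices ∀ m, Cfsg.Agent.CosetCert.wprod gen (List.replicate m [i, j]).flatten = (W.v x * W.v y) ^ m by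
      rw [this, hn]
    intro m
    induction m with
    | zero => simp [Cfsg.Agent.CosetCert.wprod]
    | succ m ih =>
      rw [List.replicate_succ, List.flatten_cons, pow_succ', ← ih]
      simp only [Cfsg.Agent.CosetCert.wprod, List.cons_append, List.nil_append, List.map_cons, List.prod_cons, hi, hj,
        mul_assoc]
  refine collapse gen hinv fun w hw => ?_
  simp only [CollapseData.base, List.mem_cons, List.not_mem_nil, or_false] at hw
  rcases hw with rfl | rfl | rfl | rfl | rfl | rfl | rfl | rfl | rfl | rfl | rfl | rfl | rfl | rfl | rfl | rfl |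
    rfl | rfl | rfl | rfl | rfl | rfl | rfl | rfl | rfl | rfl
  all_goals
    first
    | exact hpair .a .b 0 1 5 rfl rfl W.ab
    | exact hpair .a .c 0 2 2 rfl rfl (two (W.sq _) (W.sq _) W.ac)
    | exact hpair .a .d 0 3 2 rfl rfl (two (W.sq _) (W.sq _) W.ad)
    | exact hpair .a .e 0 4 2 rfl rfl (two (W.sq _) (W.sq _) W.ae)
    | exact hpair .a .f 0 5 2 rfl rfl (two (W.sq _) (W.sq _) W.af)
    | exact hpair .a .g 0 6 2 rfl rfl (two (W.sq _) (W.sq _) W.ag)
    | exact hpair .b .c 1 2 3 rfl rfl W.bc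
    | exact hpair .b .d 1 3 2 rfl rfl (two (W.sq _) (W.sq _) W.bd)
    | exact hpair .b .e 1 4 2 rfl rfl (two (W.sq _) (W.sq _) W.be)
    | exact hpair .b .f 1 5 3 rfl rfl W.bf
    | exact hpair .b .g 1 6 3 rfl rfl W.bg
    | exact hpair .c .d 2 3 8 rfl rfl W.cd
    | exact hpair .c .e 2 4 2 rfl rfl (two (W.sq _) (W.sq _) W.ce)
    | exact hpair .c .f 2 5 2 rfl rfl (two (W.sq _) (W.sq _) W.cf)
    | exact hpair .c .g 2 6 2 rfl rfl (two (W.sq _) (W.sq _) W.cg)
    | exact hpair .d .e 3 4 3 rfl rfl W.de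
    | exact hpair .d .f 3 5 2 rfl rfl (two (W.sq _) (W.sq _) W.df)
    | exact hpair .d .g 3 6 2 rfl rfl (two (W.sq _) (W.sq _) W.dg)
    | exact hpair .e .f 4 5 2 rfl rfl (two (W.sq _) (W.sq _) W.ef)
    | exact hpair .e .g 4 6 2 rfl rfl (two (W.sq _) (W.sq _) W.eg)
    | exact hpair .f .g 5 6 4 rfl rfl W.fg
    | skip
  all_goals
    show _ = (1 : G)
    simp only [Cfsg.Agent.CosetCert.wprod, List.map_cons, List.map_nil, List.prod_cons, List.prod_nil, mul_one,
      gen, lst, List.length_cons, List.length_nil, Nat.reduceAdd, Nat.reduceLT, ↓reduceDIte, List.getElem_cons_succ,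
      List.getElem_cons_zero]
  · have e := mul_inv_eq_one.2 W.r1
    rw [← inv_pow, mul_inv_rev, inv_eq_of_mul_eq_one_right (W.sq .c), inv_eq_of_mul_eq_one_right (W.sq .d)] at e
    simpa only [pow_succ, pow_zero, one_mul, mul_assoc] using e
  · have e := mul_inv_eq_one.2 W.r2
    rw [← inv_pow, mul_inv_rev, inv_eq_of_mul_eq_one_right (W.sq .f), inv_eq_of_mul_eq_one_right (W.sq .g)] at e
    simpa only [pow_succ, pow_zero, one_mul, mul_assoc] using e
  · simpa only [pow_succ, pow_zero, one_mul, mul_assoc] using W.r3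
  · simpa only [pow_succ, pow_zero, one_mul, mul_assoc] using W.r4
  · simpa only [pow_succ, pow_zero, one_mul, mul_assoc] using h

end Gens

end Cfsg.Agent.SuzHom
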