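import Cfsg.Agent.Lib.SuzHom.Twist
import Cfsg.Agent.Lib.SuzHom.Rels
import Cfsg.Agent.Lib.SuzY.Derived
import Cfsg.Agent.Lib.SuzT.Wrap
import Cfsg.Agent.Lib.U43Rec.Bridge
import Cfsg.Agent.Lib.U43T.EThree

/-!
A homomorphism from the presented Suzuki group to a group of Suzuki sporadic type, sending the first
generator to the given involution.
-/

set_option autoImplicit false
set_option linter.style.haveILetI false
set_option linter.unusedSectionVars false
set_option maxRecDepth 20000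
set_option synthInstance.maxSize 4000
set_option synthInstance.maxHeartbeats 400000

namespace Cfsg.Agent.SuzHom

open Subgroup Cfsg.Agent.SuzT Cfsg.Agent.SuzY
open Cfsg.Spor.Suz (Gen)

local notation "F" => ZMod 2

variable {G : Type*} [Group G] [Finite G] {z x : G} {Q : Subgroup G} {π : G → V} {ρ : G → V → V}
  {f g g' c d b h : G}

namespace Sys

variable (W : Sys z Q π ρ x f g g' c d b h)
include W

/-- The commutator of two elements centralising the frame. -/
theorem exists_e : ∃ e, Cen z f g g' e ∧ e * e = 1 ∧ d * e * (d * e) * (d * e) = 1 ∧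
    x * e * (x * e) * (x * e) = 1 ∧ e * h = h * e ∧ e * c = c * e ∧ e * x ≠ x * e := by
  have S := W.Z.S
  obtain ⟨hp0, hp1, hpv, hq0, hq1, hqv, -, -, -⟩ := fix_facts _ W.cv
  obtain ⟨p, hp, hpρ⟩ := W.D.exists_cen isOm_pp hp0 hp1
  obtain ⟨q, hq, hqρ⟩ := W.D.exists_cen (isOm_qq W.cv) hq0 hq1
  set e := p * q * p⁻¹ * q⁻¹ with he_def
  have he : Cen z f g g' e := ((hp.mul hq).mul hp.inv).mul hq.inv
  have hpi : ρ p⁻¹ = rot a0 v0 := funext fun w => by
    refine S.rho_inj hp.cz ?_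
    rw [← S.rho_mul hp.cz hp.inv.cz, mul_inv_cancel, S.rho_one, hpρ, (inv_facts _ W.cv w).1]
  have hqi : ρ q⁻¹ = qi (π c) := funext fun w => by
    refine S.rho_inj hq.cz ?_
    rw [← S.rho_mul hq.cz hq.inv.cz, mul_inv_cancel, S.rho_one, hqρ, (inv_facts _ W.cv w).2]
  have hρ : ρ e = ee (π c) := funext fun w => by
    rw [he_def, S.rho_mul ((hp.mul hq).mul hp.inv).cz hq.inv.cz, S.rho_mul (hp.mul hq).cz hp.inv.cz,
      S.rho_mul hp.cz hq.cz, hpρ, hqρ, hpi, hqi]
    rfl
  obtain ⟨hee, hne, hde, hxe⟩ := ee_facts _ W.cv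
  have cube : ∀ {a : G}, Cen z f g g' a → ∀ v,
      ρ (a * e * (a * e) * (a * e)) v = ρ a (ρ e (ρ a (ρ e (ρ a (ρ e v))))) := fun {a} ha v => by
    have hae := ha.mul he
    rw [S.rho_mul (hae.mul hae).cz hae.cz, S.rho_mul hae.cz hae.cz, S.rho_mul ha.cz he.cz, S.rho_mul ha.cz he.cz,
      S.rho_mul ha.cz he.cz]
  have hρx : ρ x = rot a0 v0 := funext W.Z.rho
  have e2 : e * e = 1 := W.D.eq_one (he.mul he) fun w => by rw [S.rho_mul he.cz he.cz, hρ, hee]
  have ex : x * e * (x * e) * (x * e) = 1 :=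
    W.D.eq_one (((W.xC.mul he).mul (W.xC.mul he)).mul (W.xC.mul he)) fun w => by
      rw [cube W.xC, hρx, hρ, hxe]
  refine ⟨e, he, e2, ?_, ex, W.e_h W.cv he hρ, ?_, ?_⟩
  · exact W.D.eq_one (((W.dC.mul he).mul (W.dC.mul he)).mul (W.dC.mul he)) fun w => by
      rw [cube W.dC, W.dρ, hρ, hde]
  · have key : ∀ {k : G}, k * z = z * k → ρ k (π c) = π c →
        ∃ r, k * c * k⁻¹ = c * r ∧ (r = 1 ∨ r = z) := by
      intro k hk hv
      rcases S.eq_of_pi (S.conj_mem hk W.cQ) W.cQ (by rw [S.conj k hk c W.cQ, hv]) with e | e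
      · exact ⟨1, by rw [e, mul_one], Or.inl rfl⟩
      · exact ⟨z, e, Or.inr rfl⟩
    obtain ⟨r, hr, hr'⟩ := key hp.cz (by rw [hpρ]; exact hpv)
    obtain ⟨s, hs, hs'⟩ := key hq.cz (by rw [hqρ]; exact hqv)
    have cz : ∀ {k r : G}, k * z = z * k → (r = 1 ∨ r = z) → Commute k r := fun {k r} hk h => by
      rcases h with rfl | rfl
      · exact Commute.one_right k
      · exact hk
    refine comm_fix hr hs (cz hp.cz hr') (cz hq.cz hr') (cz hp.cz hs') (cz hq.cz hs') ?_
    exact cz (by rcases hr' with rfl | rfl <;> simp) hs'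
  · intro hc
    have h1 : e * e * e = 1 := by
      have hxe' : Commute x e := hc.symm
      calc e * e * e = x ^ 3 * e ^ 3 := by rw [W.Z.pow_three, one_mul, pow_succ, pow_two]
        _ = (x * e) ^ 3 := (hxe'.mul_pow 3).symm
        _ = 1 := by rw [pow_succ, pow_two, ex]
    rw [e2, one_mul] at h1
    refine hne ?_
    rw [← hρ, h1, S.rho_one, S.rho_one, S.rho_one]

/-- The homomorphism. -/
theorem exists_hom : ∃ φ : Cfsg.Spor.Suz →* G, φ (PresentedGroup.of Gen.a) = z := by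
  have S := W.Z.S
  obtain ⟨e, he, e2, ed, ex, eh, ec, enx⟩ := W.exists_e
  have hx3 := W.Z.pow_three
  have hzz : z * z = 1 := S.loc.sq
  have eb : Commute e b := by
    rw [← W.beq]
    have hef : Commute e f := he.cf
    have heg : Commute e g := he.cg
    have heg' : Commute e g' := he.cg'
    have heh : Commute e h := eh
    exact (((((hef.mul_right heg').mul_right heh).mul_right heg').mul_right heg).mul_right heh).pow_right 3
  -- only the trivial element of the group of `x` commutes with `e`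
  have triv : ∀ r ∈ zpowers x, e * r = r * e → r = 1 := by
    intro r hr hc
    obtain ⟨n, rfl⟩ := (isOfFinOrder_of_finite x).mem_powers_iff_mem_zpowers.2 hr
    by_contra hne
    refine enx ?_
    have h1 : Commute e ((x ^ n) ^ n) := (show Commute e (x ^ n) from hc).pow_right n
    have hn : n % 3 ≠ 0 := fun h0 => hne (by
      show x ^ n = 1
      rw [← Nat.mod_add_div n 3, h0, zero_add, pow_mul, hx3, one_pow])
    have hsq : (n * n) % 3 = 1 := by
      rw [Nat.mul_mod]
      have := Nat.mod_lt n (show 3 > 0 by norm_num)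
      interval_cases hm : n % 3 <;> simp_all
    rw [← pow_mul, ← Nat.mod_add_div (n * n) 3, hsq, pow_add, pow_one, pow_mul, hx3, one_pow, mul_one] at h1
    exact h1.eq
  have ez : Commute e z := he.cz
  have hfQ := W.D.fQ
  have hgQ := W.D.gQ
  have hfg2 : (f * g) ^ 2 = z := by
    calc (f * g) ^ 2 = f * (g * f * g) := by rw [pow_two]; group
      _ = f * f * z := by rw [W.D.gfg, mul_assoc]
      _ = z := by rw [W.D.ff, one_mul]
  have dinv : d⁻¹ = d := inv_eq_of_mul_eq_one_right W.dd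
  obtain ⟨-, -, -, -, hw2⟩ := W.w_facts
  have hcd4 : (c * d) ^ 4 = z := by
    rw [← hw2, dinv, show 4 = 2 * 2 from rfl, pow_mul, pow_two, pow_two]
    simp only [mul_assoc]
  let v : Gen → G := fun t => match t with
    | .a => z | .b => b | .c => c | .d => d | .e => e | .f => f | .g => g
  let N : Gens G :=
    { v := v
      sq := fun t => by
        cases t
        exacts [hzz, W.bb, W.cc, W.dd, e2, W.D.ff, W.D.gg]
      ab := W.zb5
      ac := (S.Qz W.cQ).symm
      ad := W.dC.cz.symm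
      ae := he.cz.symm
      af := (S.Qz hfQ).symm
      ag := (S.Qz hgQ).symm
      bc := W.bc3
      bd := W.bd
      be := eb.symm
      bf := W.bf3
      bg := W.bg3
      cd := by
        show (c * d) ^ 8 = 1
        rw [show 8 = 4 * 2 from rfl, pow_mul, hcd4, pow_two, hzz]
      ce := ec.symm
      cf := W.cf
      cg := W.cg
      de := by
        show (d * e) ^ 3 = 1
        rw [pow_succ, pow_two, ed]
      df := W.dC.cf
      dg := W.dC.cg
      ef := he.cf
      eg := he.cg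
      fg := by
        show (f * g) ^ 4 = 1
        rw [show 4 = 2 * 2 from rfl, pow_mul, hfg2, pow_two, hzz]
      r1 := hcd4.symm
      r2 := hfg2.symm
      r3 := triv _ W.w1 (((((ez.mul_right eb).mul_right ec).mul_right he.cf).pow_right 5)).eq
      r4 := triv _ W.w2 ((((eb.mul_right he.cf).mul_right he.cg).pow_right 5)).eq }
  have hw : b * c * d * c * d = b * c * (d * c * d⁻¹) := by rw [dinv]; group
  have ht : (b * c * d * c * d) ^ 5 ∈ zpowers x := hw ▸ W.w3
  have ht1 : (b * c * d * c * d) ^ 5 ≠ 1 := fun h => S.loc.ne_one (N.collapse' h)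
  obtain ⟨φ, hφ⟩ := N.exists_hom (by
    show ((b * c * d * c * d) ^ 5 * e) ^ 3 = 1
    obtain ⟨n, hn⟩ := (isOfFinOrder_of_finite x).mem_powers_iff_mem_zpowers.2 ht
    have hn' : x ^ n = (b * c * d * c * d) ^ 5 := hn
    rw [← hn', ← Nat.mod_add_div n 3, pow_add, pow_mul, hx3, one_pow, mul_one]
    have hm : n % 3 < 3 := Nat.mod_lt _ (by norm_num)
    interval_cases hk : n % 3
    · exfalso
      refine ht1 ?_
      rw [← hn', ← Nat.mod_add_div n 3, hk, zero_add, pow_mul, hx3, one_pow]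
    · rw [pow_one, pow_succ, pow_two, ex]
    · have hi : x ^ 2 = x⁻¹ := eq_inv_of_mul_eq_one_left (by rw [← pow_succ, hx3])
      have einv : e⁻¹ = e := inv_eq_of_mul_eq_one_right e2
      calc (x ^ 2 * e) ^ 3 = (x⁻¹ * e⁻¹) * (x⁻¹ * e⁻¹) * (x⁻¹ * e⁻¹) := by rw [hi, pow_succ, pow_two, einv]
        _ = x⁻¹ * (x * e * (x * e) * (x * e))⁻¹ * x := by group
        _ = 1 := by rw [ex, inv_one, mul_one, inv_mul_cancel])
  exact ⟨φ, hφ .a⟩

end Sys

/-- The homomorphism from the standard hypotheses. -/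
theorem exists_suz_hom {G : Type*} [Group G] [Finite G] (z : G) (hz : orderOf z = 2)
    (Q : Subgroup (Subgroup.centralizer ({z} : Set G))) [Q.Normal]
    (hF : Cfsg.generalizedFittingSubgroup (Subgroup.centralizer ({z} : Set G)) = Q)
    (hQ : Cfsg.IsExtraspecial 2 Q) (hcard : Nat.card Q = 2 ^ 7)
    (e : (Subgroup.centralizer ({z} : Set G)) ⧸ Q ≃* Cfsg.Omega F (Cfsg.quadFormMinus 2 F 1 1))
    (hnwc : ∃ g : G, (∃ hq : g * z * g⁻¹ ∈ Subgroup.centralizer ({z} : Set G),
      (⟨g * z * g⁻¹, hq⟩ : Subgroup.centralizer ({z} : Set G)) ∈ Q) ∧ g * z * g⁻¹ ≠ z) :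
    ∃ φ : Cfsg.Spor.Suz →* G, φ (PresentedGroup.of Gen.a) = z := by
  obtain ⟨π, ρ, S⟩ := exists_su hz Q hF hQ hcard e
  obtain ⟨g, ⟨hq, hgQ⟩, hgne⟩ := hnwc
  obtain ⟨s, k, X⟩ := exists_frame S ⟨g, ⟨_, hgQ, rfl⟩, hgne⟩
  obtain ⟨x, Z⟩ := exists_fy S
  obtain ⟨zK, ⟨T⟩⟩ := (Z.u43Like X).exists_setting
  obtain ⟨L⟩ := Cfsg.Agent.U43Rec.exists_loc T (T.F.card_group T)
  obtain ⟨A, hA⟩ := exists_act L Z.hz.symm S.loc.sq (z_nmem Z)
  obtain ⟨f, g, g', c, d, b, h, W⟩ := exists_sys Z A hA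
  exact W.exists_hom

end Cfsg.Agent.SuzHom
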