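import Cfsg.Agent.Lib.SuzHom.Finish
import Cfsg.Agent.Lib.SuzRecog.Main

/-!
A group of Suzuki sporadic type is the presented Suzuki group, the involution being the first generator.
-/

set_option autoImplicit false

namespace Cfsg.Agent.SuzHom

/-- The isomorphism, sending the involution to the first generator. -/
theorem exists_iso {G : Type*} [Group G] [Finite G] (z : G) (hz : orderOf z = 2)
    (Q : Subgroup (Subgroup.centralizer ({z} : Set G))) [Q.Normal]
    (hF : Cfsg.generalizedFittingSubgroup (Subgroup.centralizer ({z} : Set G)) = Q)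
    (hQ : Cfsg.IsExtraspecial 2 Q) (hcard : Nat.card Q = 2 ^ 7)
    (e : (Subgroup.centralizer ({z} : Set G)) ⧸ Q ≃*
      Cfsg.Omega (ZMod 2) (Cfsg.quadFormMinus 2 (ZMod 2) 1 1))
    (hnwc : ∃ g : G, (∃ hq : g * z * g⁻¹ ∈ Subgroup.centralizer ({z} : Set G),
      (⟨g * z * g⁻¹, hq⟩ : Subgroup.centralizer ({z} : Set G)) ∈ Q) ∧ g * z * g⁻¹ ≠ z) :
    ∃ φ : G ≃* Cfsg.Spor.Suz, φ z = PresentedGroup.of Cfsg.Spor.Suz.Gen.a := by
  obtain ⟨f, hf⟩ := exists_suz_hom z hz Q hF hQ hcard e hnwc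
  refine ⟨(MulEquiv.ofBijective f (Cfsg.Agent.SuzRecog.suz_bijective z hz Q hF hQ hcard e f hf)).symm,
    (MulEquiv.symm_apply_eq _).2 hf.symm⟩

end Cfsg.Agent.SuzHom
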