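import Cfsg.Agent.Lib.U43Rec.Model
import Cfsg.Agent.Lib.SchurMult.U43Group
import Cfsg.Agent.Lib.SuzHom.ModelData

/-!
Finite checks on the coded permutations of the 112-point model.
-/

set_option autoImplicit false
set_option maxRecDepth 100000
set_option Elab.async false

namespace Cfsg.Agent.SuzHom

open Cfsg.Agent.U43Rec (tget adjM toLine ofLine)
open Cfsg.Agent.PermCert (Elt wordProd)
open Cfsg.Agent.SchurMult (u43Gens)

/-- A coded map. -/
def tp (T : Nat) (x : Fin 112) : Fin 112 := Fin.ofNat 112 (tget 7 T x)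

/-- The `k`-th map. -/
def mp (k : ℕ) (x : Fin 112) : Fin 112 := tp (tabs.getD k 0) x

/-- The outer maps. -/
def dp (i : Fin 2) (x : Fin 112) : Fin 112 := tp (dTabs.getD i 0) x

/-- A word of maps. -/
def evT : List ℕ → Fin 112 → Fin 112
  | [], x => x
  | k :: w, x => mp k (evT w x)

/-- The coded generators with their inverses. -/
def pool : List Elt :=
  [u43Gens.getD 0 (0, 0), u43Gens.getD 1 (0, 0), ((u43Gens.getD 0 (0, 0)).2, (u43Gens.getD 0 (0, 0)).1),
    ((u43Gens.getD 1 (0, 0)).2, (u43Gens.getD 1 (0, 0)).1)]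

/-- A map is the word in the generators. -/
def wordOK (k : Fin 15) : Bool :=
  let p := (wordProd 7 112 pool (words.getD k [])).1
  (List.finRange 112).all fun x =>
    Nat.beq (ofLine (Fin.ofNat 112 (Cfsg.Agent.PermCert.get 7 p (toLine x : ℕ))) : ℕ) (mp k x : ℕ)

theorem words_ok : ∀ k : Fin 15, wordOK k = true := by decide +kernel

theorem rels_ok : (rels.all fun w => w.all (fun k => Nat.blt k 15) &&
    (List.finRange 112).all fun x => Nat.beq (evT w x : ℕ) (x : ℕ)) = true := by decide +kernel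

theorem dp_comm : ∀ i : Fin 2, ∀ x : Fin 112, dp i (dp i x) = x ∧
    dp i (mp 4 x) = mp 4 (dp i x) ∧ dp i (mp 5 x) = mp 5 (dp i x) ∧ dp i (mp 6 x) = mp 6 (dp i x) ∧
    dp i (mp (1 + i) x) = mp (1 + i) (dp i x) ∧ dp i (mp (7 + i) x) = mp (7 + i) (dp i x) := by decide +kernel

/-- The fifth power of `b c θc`. -/
def fiveOK (i : Fin 2) : Bool :=
  (List.finRange 112).all fun x =>
    Nat.beq (((fun y => mp (1 + i) (mp 3 (dp i (mp 3 (dp i y)))))^[5] x : Fin 112) : ℕ) (x : ℕ)

theorem five_ok : ∀ i : Fin 2, fiveOK i = true := by decide +kernel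

/-- One forced map is consistent along the orbit. -/
def orbOK (T : Fin 112 → Fin 112) : List (ℕ × ℕ × ℕ) → List ℕ → Bool
  | [], _ => true
  | (y, par, k) :: l, K => K.contains par && Nat.blt y 112 && Nat.blt par 112 && (Nat.beq k 4 || Nat.beq k 5 || Nat.beq k 6) &&
      Nat.beq (mp k (Fin.ofNat 112 par) : ℕ) y &&
      Nat.beq (T (Fin.ofNat 112 y) : ℕ) (mp k (T (Fin.ofNat 112 par)) : ℕ) && orbOK T l (y :: K)

/-- One round of forced values. -/
def roundOK (T : Fin 112 → Fin 112) (K : List ℕ) (ys : List ℕ) : Bool :=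
  ys.all fun y => (List.finRange 112).all fun j =>
    Nat.beq (j : ℕ) (T (Fin.ofNat 112 y) : ℕ) ||
      K.any fun k => adjM j (T (Fin.ofNat 112 k)) != adjM (Fin.ofNat 112 y) (Fin.ofNat 112 k)

/-- All rounds. -/
def roundsOK (T : Fin 112 → Fin 112) : List (List ℕ) → List ℕ → Bool
  | [], K => (List.range 112).all fun x => K.contains x
  | ys :: l, K => roundOK T K ys && roundsOK T l (K ++ ys)

/-- Two maps agree. -/
def sameMap (T U : Fin 112 → Fin 112) : Bool := (List.finRange 112).all fun x => Nat.beq (T x : ℕ) (U x : ℕ)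

/-- The forced map is no admissible one, unless it is one of the two. -/
def endOK (T : Fin 112 → Fin 112) : Bool :=
  sameMap T (dp 0) || sameMap T (dp 1) || !(sameMap (fun x => T (T (mp 3 x))) (fun x => mp 3 (T (T x)))) ||
    !(sameMap (fun x => T (T (mp 1 x))) (fun x => mp 1 (T (T x)))) ||
    sameMap (fun x => mp 3 (T (mp 3 (T x)))) (fun x => T (mp 3 (T (mp 3 x)))) ||
    (List.finRange 112).any fun a => (List.finRange 112).any fun b => adjM (T a) (T b) != adjM a b

/-- The known points after the orbit. -/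
def orbPts : List ℕ := orbList.reverse.map Prod.fst ++ [0]

/-- The whole check for one candidate. -/
def candOK (j : ℕ) : Bool :=
  let T := tp (forced.getD j 0)
  Nat.beq (T 0 : ℕ) (cands.getD j 0) && orbOK T orbList [0] && roundsOK T roundList orbPts && endOK T

theorem cand_ok : ∀ j : Fin 16, candOK j = true := by decide +kernel

theorem stab_ok : evT stabWord 0 = 0 ∧ (stabWord.all fun k => Nat.beq k 4 || Nat.beq k 5 || Nat.beq k 6) = true ∧
    ∀ q : Fin 112, evT stabWord q = q → ∃ j : Fin 16, cands.getD j 0 = (q : ℕ) := by decide +kernel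

end Cfsg.Agent.SuzHom
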