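import Cfsg.Agent.Lib.SuzY.Space

/-!
The isometries fixing a hyperbolic pair that are used for the generators of the Suzuki group: finite facts.
-/

set_option autoImplicit false
set_option maxRecDepth 20000
set_option synthInstance.maxSize 4000
set_option synthInstance.maxHeartbeats 400000
set_option Elab.async false

namespace Cfsg.Agent.SuzHom

open Cfsg.Agent.SuzT Cfsg.Agent.SuzY

local notation "F" => ZMod 2

/-- The isometry inverting the rotation of the first plane and exchanging `e₁` and `f₁`. -/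
def dl (x : V) : V := tr a0 (tr a2 x)

/-- An isometry of order three fixing the first pair. -/
def pp (x : V) : V := rot v0 a0 x

/-- An isometry of order three fixing the first pair and the vector `v`. -/
def qq (v x : V) : V := tr v0 (tr (v + a0) x)

/-- The inverse of `qq`. -/
def qi (v x : V) : V := tr (v + a0) (tr v0 x)

/-- The commutator of `pp` and `qq`. -/
def ee (v x : V) : V := pp (qq v (rot a0 v0 (qi v x)))

theorem dl_facts : q a2 = 1 ∧ dl e0 = e0 ∧ dl f0 = f0 ∧ dl e1 = f1 ∧ dl f1 = e1 ∧ bil e1 f1 = 1 ∧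
    (∀ x : V, dl (dl x) = x) ∧ (∀ x : V, dl (rot a0 v0 (dl x)) = rot a0 v0 (rot a0 v0 x)) ∧
    dl a0 ≠ a0 + v0 ∧ rot a0 v0 e0 = e0 ∧ rot a0 v0 f0 = f0 := by decide +kernel

theorem isOm_dl : IsOm dl := isOm_tr_tr plane_facts.1 dl_facts.1

theorem pair_norm : ∀ u w : V, Perp u → Perp w → q u = 0 → q w = 0 → bil u w = 1 →
    ∃ p : Idx, em p u = e0 ∧ em p w = f0 := by decide +kernel

theorem third_cases : ∀ u : V, Perp u → q u = 0 → u ≠ 0 → bil u e0 = 0 → bil u f0 = 0 → u = e1 ∨ u = f1 := by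
  decide +kernel

theorem swap_pair : ∃ p : Idx, em p e0 = f0 ∧ em p f0 = e0 ∧ em p (em p e0) = e0 := by decide +kernel

theorem qq_q : ∀ v : V, v = e1 ∨ v = f1 → q (v + a0) = 1 := by decide +kernel

theorem isOm_pp : IsOm pp := isOm_rot plane_facts.2.1 plane_facts.1

theorem isOm_qq {v : V} (hv : v = e1 ∨ v = f1) : IsOm (qq v) := isOm_tr_tr plane_facts.2.1 (qq_q v hv)

theorem isOm_qi {v : V} (hv : v = e1 ∨ v = f1) : IsOm (qi v) := isOm_tr_tr (qq_q v hv) plane_facts.2.1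

theorem fix_facts : ∀ v : V, v = e1 ∨ v = f1 →
    pp e0 = e0 ∧ pp f0 = f0 ∧ pp v = v ∧ qq v e0 = e0 ∧ qq v f0 = f0 ∧ qq v v = v ∧
    qi v e0 = e0 ∧ qi v f0 = f0 ∧ qi v v = v := by decide +kernel

theorem inv_facts : ∀ v : V, v = e1 ∨ v = f1 → ∀ x : V,
    pp (rot a0 v0 x) = x ∧ qq v (qi v x) = x := by decide +kernel

theorem ee_facts : ∀ v : V, v = e1 ∨ v = f1 →
    (∀ x : V, ee v (ee v x) = x) ∧ ee v a0 + ee v v0 + ee v a2 ≠ a0 + v0 + a2 ∧
    (∀ x : V, dl (ee v (dl (ee v (dl (ee v x))))) = x) ∧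
    (∀ x : V, rot a0 v0 (ee v (rot a0 v0 (ee v (rot a0 v0 (ee v x))))) = x) := by decide +kernel

/-- The solutions of the equations of a twisted complement. -/
theorem twist : ∀ v : V, v = e1 ∨ v = f1 → ∀ u : V, bil u e0 = 0 → bil u f0 = 0 →
    u + ee v u = 0 →
    u + ee v (dl u) + ee v (dl (ee v (dl u))) = 0 →
    u + ee v (rot a0 v0 u) + ee v (rot a0 v0 (ee v (rot a0 v0 u))) = 0 →
    u = 0 ∨ u = a2 + ee v a2 := by decide +kernel

theorem a2_facts : Perp a2 ∧ dl a2 = a2 ∧ bil a2 e0 = 0 ∧ bil a2 f0 = 0 := by decide +kernel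

end Cfsg.Agent.SuzHom
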