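import Cfsg.Agent.Lib.SuzHom.Build

/-!
The last generator: the commutator of two elements centralising the frame commutes with the second frame.
-/

set_option autoImplicit false
set_option linter.style.haveILetI false
set_option linter.unusedSectionVars false
set_option maxRecDepth 20000
set_option synthInstance.maxSize 4000
set_option synthInstance.maxHeartbeats 400000

namespace Cfsg.Agent.SuzHom

open Subgroup Cfsg.Agent.SuzT Cfsg.Agent.SuzY

local notation "F" => ZMod 2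

variable {G : Type*} [Group G] [Finite G] {z x : G} {Q : Subgroup G} {π : G → V} {ρ : G → V → V}
  {f g g' c d b h : G}

/-- A commutator fixes an element moved by both factors by central elements. -/
theorem comm_fix {M : Type*} [Group M] {p q u r s : M} (hp : p * u * p⁻¹ = u * r) (hq : q * u * q⁻¹ = u * s)
    (hrp : Commute p r) (hrq : Commute q r) (hsp : Commute p s) (hsq : Commute q s) (hrs : Commute r s) :
    p * q * p⁻¹ * q⁻¹ * u = u * (p * q * p⁻¹ * q⁻¹) := by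
  have key : ∀ (a u w : M), a * u * a⁻¹ = u * w → Commute a w → a⁻¹ * u * a = u * w⁻¹ := by
    intro a u w h hc
    calc a⁻¹ * u * a = a⁻¹ * (u * w) * (a * w⁻¹) := by rw [hc.inv_right.eq]; group
      _ = a⁻¹ * (a * u * a⁻¹) * (a * w⁻¹) := by rw [h]
      _ = u * w⁻¹ := by group
  refine mul_inv_eq_iff_eq_mul.1 ?_
  calc p * q * p⁻¹ * q⁻¹ * u * (p * q * p⁻¹ * q⁻¹)⁻¹
      = p * q * p⁻¹ * (q⁻¹ * u * q) * p * q⁻¹ * p⁻¹ := by group
    _ = p * q * (p⁻¹ * u * p) * s⁻¹ * q⁻¹ * p⁻¹ := by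
        rw [key q u s hq hsq]
        calc _ = p * q * p⁻¹ * u * (s⁻¹ * p) * q⁻¹ * p⁻¹ := by group
          _ = p * q * p⁻¹ * u * (p * s⁻¹) * q⁻¹ * p⁻¹ := by rw [hsp.inv_right.eq]
          _ = _ := by group
    _ = p * (q * u * q⁻¹) * p⁻¹ * r⁻¹ * s⁻¹ := by
        rw [key p u r hp hrp]
        calc _ = p * (q * u) * (r⁻¹ * s⁻¹ * (p * q)⁻¹) := by group
          _ = p * (q * u) * ((p * q)⁻¹ * (r⁻¹ * s⁻¹)) := by
              rw [(((hrp.mul_left hrq).inv_left).inv_right.mul_right ((hsp.mul_left hsq).inv_left).inv_right).eq]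
          _ = _ := by group
    _ = (p * u * p⁻¹) * s * r⁻¹ * s⁻¹ := by
        rw [hq]
        calc _ = p * u * (s * p⁻¹) * r⁻¹ * s⁻¹ := by group
          _ = p * u * (p⁻¹ * s) * r⁻¹ * s⁻¹ := by rw [hsp.inv_left.eq]
          _ = _ := by group
    _ = u := by
        rw [hp, mul_assoc u r s, hrs.eq]
        group

theorem cube_central {M : Type*} [Group M] {u t : M} (hc : Commute u t) (hu : u * u = 1) (h : t * t * t = 1) :
    u * t * (u * t) * (u * t) = u :=
  calc u * t * (u * t) * (u * t) = (u * t) ^ 3 := by rw [pow_succ, pow_two]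
    _ = u ^ 3 * t ^ 3 := hc.mul_pow 3
    _ = u := by rw [pow_succ, pow_two, hu, one_mul, pow_succ, pow_two, h, mul_one]

namespace Sys

variable (W : Sys z Q π ρ x f g g' c d b h)
include W

theorem ff : f * f = 1 := W.D.ff

theorem hf3 : f * h * f = h * f * h := by
  have e1 : f⁻¹ = f := inv_eq_of_mul_eq_one_right W.ff
  have e2 : h⁻¹ = h := inv_eq_of_mul_eq_one_right W.hh
  calc f * h * f = f * h * (f * h) * (f * h) * (h⁻¹ * f⁻¹ * h⁻¹) := by group
    _ = h * f * h := by rw [W.fh, one_mul, e1, e2]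

/-- The second frame, moved to the standard position. -/
theorem exists_swap : ∃ k, k * z = z * k ∧ k * x = x * k ∧ ρ k e0 = f0 ∧ ρ k f0 = e0 ∧
    Quad z Q π ρ (k * g * k⁻¹) (k * f * k⁻¹) (k * h * k⁻¹) := by
  have S := W.Z.S
  obtain ⟨p, hp0, hp1, -⟩ := swap_pair
  obtain ⟨k, hk, hkρ⟩ := W.Z.lift_em p
  have hkz := W.Z.cen_z hk
  have hzk : k * z * k⁻¹ = z := mul_inv_eq_iff_eq_mul.2 hkz
  refine ⟨k, hkz, W.Z.cen_x hk, by rw [hkρ, hp0], by rw [hkρ, hp1], S, S.conj_mem hkz W.D.gQ, ?_,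
    S.conj_mem hkz W.D.fQ, ?_, ?_, ?_, ?_, ?_, ?_⟩
  · rw [S.conj k hkz g W.D.gQ, hkρ, W.D.pg, hp1]
  · rw [S.conj k hkz f W.D.fQ, hkρ, W.D.pf, hp0]
  · rw [show k * f * k⁻¹ * (k * f * k⁻¹) = k * (f * f) * k⁻¹ by group, W.ff, mul_one, mul_inv_cancel]
  · rw [show k * h * k⁻¹ * (k * h * k⁻¹) = k * (h * h) * k⁻¹ by group, W.hh, mul_one, mul_inv_cancel]
  · rw [show k * h * k⁻¹ * (k * g * k⁻¹) = k * (h * g) * k⁻¹ by group, W.hg]
    group
  · calc k * h * k⁻¹ * z * (k * h * k⁻¹) = k * h * k⁻¹ * (k * z * k⁻¹) * (k * h * k⁻¹) := by rw [hzk]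
      _ = k * (h * z * h) * k⁻¹ := by group
      _ = k * g * k⁻¹ * (k * z * k⁻¹) := by rw [W.hz]; group
      _ = k * g * k⁻¹ * z := by rw [hzk]
  · calc k * f * k⁻¹ * (k * h * k⁻¹) * (k * f * k⁻¹ * (k * h * k⁻¹)) * (k * f * k⁻¹ * (k * h * k⁻¹))
        = k * (f * h * (f * h) * (f * h)) * k⁻¹ := by group
      _ = 1 := by rw [W.fh, mul_one, mul_inv_cancel]

/-- Elements centralising the second frame are determined by their action, and exist. -/
theorem second : (∀ u, Cen z g f h u → (∀ v, ρ u v = v) → u = 1) ∧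
    ∀ {e : G}, Cen z f g g' e → ∃ e', Cen z g f h e' ∧ ρ e' = ρ e := by
  have S := W.Z.S
  obtain ⟨k, hkz, -, hk0, hk1, D₂⟩ := W.exists_swap
  have hzk : k * z * k⁻¹ = z := mul_inv_eq_iff_eq_mul.2 hkz
  have hki := cinv S hkz
  have toD : ∀ {u : G}, Cen z g f h u →
      Cen z (k * g * k⁻¹) (k * f * k⁻¹) (k * h * k⁻¹) (k * u * k⁻¹) := by
    intro u hu
    have key : ∀ {w : G}, u * w = w * u → k * u * k⁻¹ * (k * w * k⁻¹) = k * w * k⁻¹ * (k * u * k⁻¹) :=
      fun {w} e => by rw [show k * u * k⁻¹ * (k * w * k⁻¹) = k * (u * w) * k⁻¹ by group, e]; group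
    have hz := key hu.cz
    rw [hzk] at hz
    exact ⟨hz, key hu.cf, key hu.cg, key hu.cg'⟩
  have ofD : ∀ {u : G}, Cen z (k * g * k⁻¹) (k * f * k⁻¹) (k * h * k⁻¹) u →
      Cen z g f h (k⁻¹ * u * k) := by
    intro u hu
    have key : ∀ {w : G}, u * (k * w * k⁻¹) = k * w * k⁻¹ * u → k⁻¹ * u * k * w = w * (k⁻¹ * u * k) :=
      fun {w} e => by
        calc k⁻¹ * u * k * w = k⁻¹ * (u * (k * w * k⁻¹)) * k := by group
          _ = w * (k⁻¹ * u * k) := by rw [e]; group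
    exact ⟨key (by rw [hzk]; exact hu.cz), key hu.cf, key hu.cg, key hu.cg'⟩
  refine ⟨fun u hu hρ => ?_, fun {e} he => ?_⟩
  · have h1 := D₂.eq_one (toD hu) fun v => by
      rw [S.rho_mul (cmul S hkz hu.cz) hki, S.rho_mul hkz hu.cz, hρ, ← S.rho_mul hkz hki, mul_inv_cancel, S.rho_one]
    exact conj_eq_one_iff.1 h1
  · have hm := cmul S (cmul S hkz he.cz) hki
    obtain ⟨hfe, hge⟩ := W.D.fix_pair he
    have hinv : ρ k⁻¹ e0 = f0 ∧ ρ k⁻¹ f0 = e0 := by
      refine ⟨?_, ?_⟩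
      · conv_lhs => rw [← hk1]
        rw [← S.rho_mul hki hkz, inv_mul_cancel, S.rho_one]
      · conv_lhs => rw [← hk0]
        rw [← S.rho_mul hki hkz, inv_mul_cancel, S.rho_one]
    obtain ⟨u, hu, huρ⟩ := D₂.exists_cen (S.om _ hm)
      (by rw [S.rho_mul (cmul S hkz he.cz) hki, S.rho_mul hkz he.cz, hinv.1, hge, hk1])
      (by rw [S.rho_mul (cmul S hkz he.cz) hki, S.rho_mul hkz he.cz, hinv.2, hfe, hk0])
    refine ⟨_, ofD hu, funext fun v => ?_⟩
    rw [S.rho_mul (cmul S hki hu.cz) hkz, S.rho_mul hki hu.cz, huρ, S.rho_mul (cmul S hkz he.cz) hki,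
      S.rho_mul hkz he.cz, ← S.rho_mul hki hkz, inv_mul_cancel, S.rho_one, ← S.rho_mul hki hkz, inv_mul_cancel,
      S.rho_one]

theorem x_cen' : Cen z g f h x := ⟨W.Z.hz, W.xC.cg, W.xC.cf, W.hx.symm⟩

theorem d_cen' : Cen z g f h d := ⟨W.dC.cz, W.dC.cg, W.dC.cf, W.hd.symm⟩

/-- The product of `c` and its conjugate. -/
theorem w_facts : c * (d * c * d⁻¹) ∈ Q ∧ π (c * (d * c * d⁻¹)) = a2 ∧
    Commute (c * (d * c * d⁻¹)) x ∧ d * (c * (d * c * d⁻¹)) * d⁻¹ = c * (d * c * d⁻¹) * z ∧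
    c * (d * c * d⁻¹) * (c * (d * c * d⁻¹)) = z := by
  have S := W.Z.S
  have hc' := S.conj_mem W.dC.cz W.cQ
  have hπ : π (d * c * d⁻¹) = dl (π c) := by rw [S.conj d W.dC.cz c W.cQ, W.dρ]
  obtain ⟨-, -, -, hde1, hdf1, hb11, -⟩ := dl_facts
  have hb : bil (π c) (π (d * c * d⁻¹)) = 1 := by
    rw [hπ]
    rcases W.cv with e | e <;> rw [e]
    · rw [hde1]; exact hb11
    · rw [hdf1, bil_comm]; exact hb11
  have hsum : π c + π (d * c * d⁻¹) = a2 := by
    rw [hπ]
    rcases W.cv with e | e <;> rw [e]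
    · rw [hde1]; rfl
    · rw [hdf1, add_comm]; rfl
  have dinv : d⁻¹ = d := inv_eq_of_mul_eq_one_right W.dd
  have hswap : d * c * d⁻¹ * c = c * (d * c * d⁻¹) * z := by
    rw [S.rule W.cQ hc', hb, zb_one, mul_assoc _ z z, S.loc.sq, mul_one]
  have hc'2 : d * c * d⁻¹ * (d * c * d⁻¹) = 1 := by
    rw [show d * c * d⁻¹ * (d * c * d⁻¹) = d * (c * c) * d⁻¹ by group, W.cc, mul_one, mul_inv_cancel]
  have hπw : π (c * (d * c * d⁻¹)) = a2 := by rw [S.pi_mul c W.cQ _ hc', hsum]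
  refine ⟨Q.mul_mem W.cQ hc', hπw,
    ((W.Z.mem_fix (Q.mul_mem W.cQ hc')).2 (hπw ▸ a2_facts.1)).symm, ?_, ?_⟩
  · rw [← hswap]
    calc d * (c * (d * c * d⁻¹)) * d⁻¹ = d * c * d⁻¹ * (d * (d * c * d⁻¹) * d⁻¹) := by group
      _ = d * c * d⁻¹ * c := by
          rw [show d * (d * c * d⁻¹) * d⁻¹ = d * d * c * (d * d)⁻¹ by group, W.dd, one_mul, inv_one, mul_one]
  · calc c * (d * c * d⁻¹) * (c * (d * c * d⁻¹)) = c * (d * c * d⁻¹ * c) * (d * c * d⁻¹) := by group
      _ = c * (c * (d * c * d⁻¹)) * (z * (d * c * d⁻¹)) := by rw [hswap]; group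
      _ = (c * c) * (d * c * d⁻¹ * (d * c * d⁻¹)) * z := by rw [← S.Qz hc']; group
      _ = z := by rw [W.cc, hc'2, one_mul, one_mul]

/-- The commutator commutes with `h`. -/
theorem e_h {v : V} (hv : v = e1 ∨ v = f1) {e : G} (he : Cen z f g g' e) (hρ : ρ e = ee v) :
    e * h = h * e := by
  have S := W.Z.S
  obtain ⟨h2, h2e⟩ := W.second
  obtain ⟨hee, -, hde, hxe⟩ := ee_facts v hv
  obtain ⟨e', he', hρ'⟩ := h2e he
  rw [hρ] at hρ'
  have dC := W.dC
  have xC := W.xC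
  have hez := he.cz
  have cube : ∀ {a u : G}, a * z = z * a → u * z = z * u → ∀ v,
      ρ (a * u * (a * u) * (a * u)) v = ρ a (ρ u (ρ a (ρ u (ρ a (ρ u v))))) := fun {a u} ha hu v => by
    rw [S.rho_mul (cmul S (cmul S ha hu) (cmul S ha hu)) (cmul S ha hu), S.rho_mul (cmul S ha hu) (cmul S ha hu),
      S.rho_mul ha hu, S.rho_mul ha hu, S.rho_mul ha hu]
  have hρx : ρ x = rot a0 v0 := funext W.Z.rho
  have e2 : e * e = 1 := W.D.eq_one (he.mul he) fun w => by rw [S.rho_mul hez hez, hρ, hee]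
  have ed : d * e * (d * e) * (d * e) = 1 := W.D.eq_one (((dC.mul he).mul (dC.mul he)).mul (dC.mul he)) fun w => by
    rw [cube dC.cz hez, W.dρ, hρ, hde]
  have ex : x * e * (x * e) * (x * e) = 1 := W.D.eq_one (((xC.mul he).mul (xC.mul he)).mul (xC.mul he)) fun w => by
    rw [cube W.Z.hz hez, hρx, hρ, hxe]
  have dC' := W.d_cen'
  have xC' := W.x_cen'
  have e2' : e' * e' = 1 := h2 _ (he'.mul he') fun w => by rw [S.rho_mul he'.cz he'.cz, hρ', hee]
  have ed' : d * e' * (d * e') * (d * e') = 1 := h2 _ (((dC'.mul he').mul (dC'.mul he')).mul (dC'.mul he'))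
    fun w => by rw [cube dC.cz he'.cz, W.dρ, hρ', hde]
  have ex' : x * e' * (x * e') * (x * e') = 1 := h2 _ (((xC'.mul he').mul (xC'.mul he')).mul (xC'.mul he'))
    fun w => by rw [cube W.Z.hz he'.cz, hρx, hρ', hxe]
  have einv : e⁻¹ = e := inv_eq_of_mul_eq_one_right e2
  set u := e' * e⁻¹ with hu
  have huz : u * z = z * u := cmul S he'.cz (cinv S hez)
  have huQ : u ∈ Q := (S.ker u huz).1 fun w => by
    rw [hu, einv, S.rho_mul he'.cz hez, hρ', hρ, hee]
  have he'u : e' = u * e := by rw [hu, inv_mul_cancel_right]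
  -- the three equations
  have hπc : ∀ {a y : G}, a * z = z * a → y ∈ Q → π (a * y * a⁻¹) = ρ a (π y) := fun ha hy => S.conj _ ha _ hy
  have q1 : π u + ee v (π u) = 0 := by
    have h1 : u * (e * u * e⁻¹) = 1 := by
      rw [he'u] at e2'
      calc u * (e * u * e⁻¹) = u * e * (u * e) * (e * e)⁻¹ := by group
        _ = 1 := by rw [e2', e2, one_mul, inv_one]
    have h2 := congrArg π h1
    rwa [S.pi_mul u huQ _ (S.conj_mem hez huQ), hπc hez huQ, hρ, S.pi_one] at h2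
  have q3 : ∀ {a : G}, a * z = z * a → a * e * (a * e) * (a * e) = 1 → a * e' * (a * e') * (a * e') = 1 →
      π u + ee v (ρ a (π u)) + ee v (ρ a (ee v (ρ a (π u)))) = 0 := by
    intro a ha h3 h3'
    rw [he'u] at h3'
    have hm := cmul S hez ha
    have hu1 := S.conj_mem hm huQ
    have hu2 := S.conj_mem (cmul S hm hm) huQ
    have h1 : u * (e * a * u * (e * a)⁻¹) * (e * a * (e * a) * u * (e * a * (e * a))⁻¹) = 1 := by
      calc u * (e * a * u * (e * a)⁻¹) * (e * a * (e * a) * u * (e * a * (e * a))⁻¹)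
          = a⁻¹ * (a * (u * e) * (a * (u * e)) * (a * (u * e))) * (a * e * (a * e) * (a * e))⁻¹ * a := by group
        _ = 1 := by rw [h3', h3, inv_one, mul_one, mul_one, inv_mul_cancel]
    have h2 := congrArg π h1
    rwa [S.pi_mul _ (Q.mul_mem huQ hu1) _ hu2, S.pi_mul _ huQ _ hu1, hπc hm huQ, hπc (cmul S hm hm) huQ,
      S.rho_mul hm hm, S.rho_mul hez ha, S.rho_mul hez ha, hρ, S.pi_one] at h2
  have hπu : bil (π u) e0 = 0 ∧ bil (π u) f0 = 0 := by
    have hui : Commute e⁻¹ f ∧ Commute e⁻¹ g :=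
      ⟨(show Commute e f from he.cf).inv_left, (show Commute e g from he.cg).inv_left⟩
    refine ⟨?_, ?_⟩
    · rw [← W.D.pf]; exact (S.comm_iff huQ W.D.fQ).1 ((show Commute e' f from he'.cg).mul_left hui.1).eq
    · rw [← W.D.pg]; exact (S.comm_iff huQ W.D.gQ).1 ((show Commute e' g from he'.cf).mul_left hui.2).eq
  have hd3 := q3 dC.cz ed ed'
  rw [W.dρ] at hd3
  have hx3 := q3 W.Z.hz ex ex'
  rw [hρx] at hx3
  have hne : z ≠ 1 := S.loc.ne_one
  have hzz := S.loc.sq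
  rcases twist v hv (π u) hπu.1 hπu.2 q1 hd3 hx3 with h0 | h0
  · rcases (S.pi_eq u huQ).1 h0 with h1 | h1
    · rw [h1, one_mul] at he'u
      rw [← he'u]
      exact he'.cg'
    · exfalso
      rw [h1] at he'u
      have c1 : Commute z (x * e) := ((show Commute x z from W.Z.hz).mul_left hez).symm
      refine hne ?_
      calc z = z * (x * e) * (z * (x * e)) * (z * (x * e)) := (cube_central c1 hzz ex).symm
        _ = x * (z * e) * (x * (z * e)) * (x * (z * e)) := by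
            rw [show x * (z * e) = z * (x * e) by rw [← mul_assoc, W.Z.hz, mul_assoc]]
        _ = 1 := by rw [← he'u, ex']
  · exfalso
    obtain ⟨hwQ, hπw, hwx, hwd, hw2⟩ := W.w_facts
    set w := c * (d * c * d⁻¹)
    have hwz := S.Qz hwQ
    have hwe : w * e * w⁻¹ * e⁻¹ ∈ Q := by
      rw [show w * e * w⁻¹ * e⁻¹ = w * (e * w⁻¹ * e⁻¹) by group]
      exact Q.mul_mem hwQ (S.conj_mem hez (Q.inv_mem hwQ))
    have hπwe : π (w * e * w⁻¹ * e⁻¹) = a2 + ee v a2 := by
      rw [show w * e * w⁻¹ * e⁻¹ = w * (e * w⁻¹ * e⁻¹) by group,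
        S.pi_mul _ hwQ _ (S.conj_mem hez (Q.inv_mem hwQ)), hπc hez (Q.inv_mem hwQ), S.pi_inv hwQ, hπw, hρ]
    rcases S.eq_of_pi huQ hwe (h0.trans hπwe.symm) with h1 | h1
    · -- the equation with `d`
      rw [h1, inv_mul_cancel_right] at he'u
      refine hne ?_
      have hcd : w⁻¹ * d * w = z * d := by
        calc w⁻¹ * d * w = w⁻¹ * (d * w * d⁻¹) * d := by group
          _ = z * d := by rw [hwd, inv_mul_cancel_left]
      have hwzw : w * z * w⁻¹ = z := mul_inv_eq_iff_eq_mul.2 hwz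
      have c1 : Commute z (d * e) := ((show Commute d z from dC.cz).mul_left hez).symm
      calc z = w * (z * (d * e) * (z * (d * e)) * (z * (d * e))) * w⁻¹ := by
            rw [cube_central c1 hzz ed, hwzw]
        _ = w * (w⁻¹ * d * w * e * (w⁻¹ * d * w * e) * (w⁻¹ * d * w * e)) * w⁻¹ := by
            rw [hcd]; group
        _ = d * e' * (d * e') * (d * e') := by rw [he'u]; group
        _ = 1 := ed'
    · -- the equation with `x`
      have he'' : e' = w * e * w⁻¹ * z := by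
        rw [he'u, h1, mul_assoc _ z e, ← hez, ← mul_assoc, inv_mul_cancel_right]
      refine hne ?_
      have c1 : Commute z (w * (x * e) * w⁻¹) :=
        (((show Commute w z from hwz).mul_left
          ((show Commute x z from W.Z.hz).mul_left hez)).mul_left (show Commute w z from hwz).inv_left).symm
      have h3 : w * (x * e) * w⁻¹ * (w * (x * e) * w⁻¹) * (w * (x * e) * w⁻¹) = 1 := by
        calc _ = w * (x * e * (x * e) * (x * e)) * w⁻¹ := by group
          _ = 1 := by rw [ex, mul_one, mul_inv_cancel]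
      calc z = (z * (w * (x * e) * w⁻¹)) * (z * (w * (x * e) * w⁻¹)) * (z * (w * (x * e) * w⁻¹)) :=
            (cube_central c1 hzz h3).symm
        _ = (w * (x * e) * w⁻¹ * z) * (w * (x * e) * w⁻¹ * z) * (w * (x * e) * w⁻¹ * z) := by rw [c1.eq]
        _ = x * e' * (x * e') * (x * e') := by
            rw [he'', show w * (x * e) * w⁻¹ = x * (w * e * w⁻¹) by
              rw [← mul_assoc w x, hwx.eq]; group]
            group
        _ = 1 := ex'

end Sys

end Cfsg.Agent.SuzHom
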